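import Cfsg.Agent.Lib.OD.G1
import Cfsg.Agent.Lib.Orth.Triality

/-!
# OD: automorphisms of `Ω(V, Q)` in characteristic two.
-/

set_option autoImplicit false
set_option linter.unusedSectionVars false

namespace Cfsg.Lib.OD

open Subgroup Cfsg.Lib.BG Cfsg.Lib.Orth QuadraticMap Module
open scoped Cfsg.Lib.Transfer commutatorElement

variable {F V : Type*} [Field F] [Finite F] [CharP F 2] [AddCommGroup V] [Module F V] [FiniteDimensional F V] {Q : QuadraticForm F V}
  {e m : V} {φ : Gam Q}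

/-- The semilinear isometry `φ` induces `β`. -/
def Ind (φ : Gam Q) (β : MulAut (Om Q)) : Prop := φ.c = 1 ∧ ∀ o : Om Q, (β o : O Q) = Gam.cj Q φ o

/-- `K` is the kernel of the type map, and `2`-groups of automorphisms are semilinear up to conjugacy. -/
structure Au (Q : QuadraticForm F V) (K : Subgroup (MulAut (Om Q))) : Prop where
  cm : commutator (MulAut (Om Q)) ≤ K
  ker : ∀ β ∈ K, β * β = 1 → ∃ o, β = MulAut.conj o
  rk : Rk2 ⊤ K
  gam : ∀ T : Subgroup (MulAut (Om Q)), IsPGroup 2 T → ∃ γ, ∀ β ∈ T, ∃ φ, Ind φ (γ * β * γ⁻¹)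

/-- `C` has at most one involution: two independent products `p, q` among `a, b, c` lie in the kernel; work in the abelian group `M ⧸ K`. -/
theorem rk2_of {M C : Type*} [Group M] [Group C] {K : Subgroup M} (hK : commutator M ≤ K) (hC : ∀ x y : C, x * x = 1 → y * y = 1 → x = 1 ∨ y = 1 ∨ x = y)
    (f : M →* C) (h : ∀ a b, f a = 1 → f b = 1 → a ∈ K ∨ b ∈ K ∨ a * b ∈ K) : Rk2 ⊤ K := fun a _ b _ c _ a2 b2 c2 => by
  have sw : ∀ x y z, x * y * z ∈ K → y * x * z ∈ K := fun x y z k => by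
    have := mul_mem (hK (commutator_mem_commutator (mem_top y) (mem_top x))) k
    rwa [commutatorElement_def, show y * x * y⁻¹ * x⁻¹ * (x * y * z) = y * x * z by group] at this
  have t : ∀ {x y}, x * x = 1 → y * y = 1 → f x ≠ 1 → f y ≠ 1 → f (x * y) = 1 := fun {x y} h1 h2 n1 n2 => by
    have k := congrArg f h2
    rw [map_mul, map_one] at k
    rw [map_mul, ((hC _ _ (by rw [← map_mul, h1, map_one]) k).resolve_left n1).resolve_left n2, k]
  by_cases ha : f a = 1 <;> by_cases hb : f b = 1 <;> by_cases hc : f c = 1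
  · have := h a b ha hb; tauto
  · have := h a b ha hb; tauto
  · have := h a c ha hc; tauto
  · have := h a _ ha (t b2 c2 hb hc); rw [← mul_assoc] at this; tauto
  · have := h b c hb hc; tauto
  · have := h b _ hb (t a2 c2 ha hc); rw [← mul_assoc] at this; have := sw b a c; tauto
  · have := h _ c (t a2 b2 ha hb) hc; tauto
  · have := h _ _ (t a2 b2 ha hb) (t a2 c2 ha hc)
    have k := sw a b (a * c)
    rw [mul_assoc b, ← mul_assoc a a, a2, one_mul] at k
    tauto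

theorem comm_le_of {M C : Type*} [Group M] [Group C] [IsCyclic C] {K : Subgroup M} [K.Normal] (f : M →* C) (hK : K ≤ f.ker)
    (h : ∀ a b, f a = 1 → f b = 1 → a ∈ K ∨ b ∈ K ∨ a * b ∈ K) : commutator M ≤ K := commutator_le.2 fun a _ b _ => by
  rw [← QuotientGroup.eq_one_iff, ← QuotientGroup.mk'_apply, map_commutatorElement, commutatorElement_eq_one_iff_mul_comm]
  refine commutative_of_cyclic_center_quotient (QuotientGroup.lift K f hK) (fun x hx => mem_center_iff.2 fun y => ?_) _ _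
  obtain ⟨x, rfl⟩ := QuotientGroup.mk_surjective x
  obtain ⟨y, rfl⟩ := QuotientGroup.mk_surjective y
  replace hx : f x = 1 := hx
  have z : x ∈ K → (y * x : M ⧸ K) = x * y := fun k => by rw [(QuotientGroup.eq_one_iff x).2 k, mul_one, one_mul]
  rcases h x⁻¹ (y * x * y⁻¹) (by simp [hx]) (by simp [hx]) with k | k | k
  · exact z (inv_mem_iff.1 k)
  · exact z (by simpa [mul_assoc] using (‹K.Normal›).conj_mem _ k y⁻¹)
  · rw [← mul_inv_eq_iff_eq_mul]; exact (QuotientGroup.eq.2 k).symm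

theorem Ind.mul {φ' : Gam Q} {β β' : MulAut (Om Q)} (h : Ind φ β) (h' : Ind φ' β') : Ind (φ * φ') (β * β') :=
  ⟨Units.ext (by simp [h.1, h'.1]), fun o => by rw [MulAut.mul_apply, h.2, h'.2, map_mul, MulAut.mul_apply]⟩
theorem Ind.conj (o : Om Q) : Ind (Gam.ofO Q o) (MulAut.conj o) := ⟨rfl, fun _ => by rw [Gam.cj_ofO]; rfl⟩
theorem Ind.one : Ind (1 : Gam Q) 1 := by simpa using Ind.conj (Q := Q) 1
theorem Ind.inner {r : O Q} {β : MulAut (Om Q)} (h : Ind (Gam.ofO Q r) β) (hr : r ∈ Om Q) : β = MulAut.conj ⟨r, hr⟩ :=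
  MulEquiv.ext fun o => Subtype.ext ((h.2 o).trans ((Ind.conj ⟨r, hr⟩).2 o).symm)

/-- `F ≃+* F` is cyclic (see `ES.aut_two`). -/
theorem aut_two (x y : F ≃+* F) (hx : x * x = 1) (hy : y * y = 1) : x = 1 ∨ y = 1 ∨ x = y := by
  classical
  have : Finite (F ≃+* F) := Finite.of_injective (fun σ : F ≃+* F => (σ : F → F)) DFunLike.coe_injective
  have := Fintype.ofFinite (F ≃+* F)
  by_contra! hc
  have h := Finset.card_le_card (show ({1, x, y} : Finset (F ≃+* F)) ⊆ Finset.univ.filter fun a => a ^ 2 = 1 by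
    intro a ha
    simp only [Finset.mem_insert, Finset.mem_singleton] at ha
    rcases ha with rfl | rfl | rfl <;> simp [pow_two, *])
  have := IsCyclic.card_pow_eq_one_le (α := F ≃+* F) (n := 2) (by omega)
  rw [Finset.card_eq_three.2 ⟨1, x, y, hc.1.symm, hc.2.1.symm, hc.2.2, rfl⟩] at h
  omega

namespace Gq
variable (q : Gq Q)
include q

/-- `card_center_commutator`. -/
theorem center_eq : center (Om Q) = ⊥ := card_eq_one.1 ((card_center_commutator q.nd q.nexc (by have := q.dim; omega)).trans (if_neg fun k => k.1 two0))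

/-- The isomorphism `Ω ≃* PCom (O Q)` given by `QuotientGroup.mk`. -/
theorem exists_mk : ∃ j : Om Q ≃* PCom (O Q), ∀ o, j o = (o : PCom (O Q)) := ⟨MulEquiv.ofBijective (QuotientGroup.mk' _) ⟨(MonoidHom.ker_eq_bot_iff _).1 ((QuotientGroup.ker_mk' _).trans q.center_eq),
  QuotientGroup.mk'_surjective _⟩, fun _ => rfl⟩

/-- Multiply by a scalar `s` with `s² c = 1` (`rho_scal`, `cj_scal`); `rho_mk`. -/
theorem ind_of_rho {j : Om Q ≃* PCom (O Q)} (hj : ∀ o, j o = (o : PCom (O Q))) {β : MulAut (Om Q)} (h : Gam.rho Q φ = MulAut.congr j β) : ∃ φ', Ind φ' β := by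
  obtain ⟨s, hs⟩ := isSquare_of_charTwo' ((φ.c : F)⁻¹)
  have s0 : s ≠ 0 := by rintro rfl; simp at hs
  refine ⟨Gam.scal Q (.mk0 s s0) * φ, Units.ext (by simp [pow_two, ← hs]), fun o => ?_⟩
  have := Gam.rho_mk φ o
  rw [h, ← hj, ← hj] at this
  rw [map_mul, Gam.cj_scal, one_mul]
  exact congrArg Subtype.val (j.injective ((congrArg (j <| β ·) (j.symm_apply_apply o)).symm.trans this))

/-- `φ φ'⁻¹ ∈ ker rho` is a scalar `s` (`ker_rho`, `rho_mk`) with `s² = 1`. -/
theorem ind_eq {φ' : Gam Q} {β : MulAut (Om Q)} (h : Ind φ β) (h' : Ind φ' β) : φ = φ' := by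
  have : Gam.rho Q φ = Gam.rho Q φ' := MulEquiv.ext fun x => by
    obtain ⟨o, rfl⟩ := QuotientGroup.mk_surjective x
    rw [Gam.rho_mk, Gam.rho_mk]
    exact congrArg _ (Subtype.ext ((h.2 o).symm.trans (h'.2 o)))
  obtain ⟨s, hs⟩ := (Gam.ker_rho q.nd q.nexc (by have := q.dim; omega)).le (show φ * φ'⁻¹ ∈ _ by
    rw [MonoidHom.mem_ker, map_mul, this, map_inv, mul_inv_cancel])
  rw [eq_mul_inv_iff_mul_eq] at hs
  have k := congrArg (fun x : Gam Q => (x.c : F)) hs
  simp only [Gam.mul_c, h.1, h'.1, Gam.scal_c, Units.val_one, map_one, mul_one, Units.val_pow_eq_pow_val] at k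
  rw [← hs, show s = 1 from Units.ext (sq_inj_of_two two0 (k.trans (one_pow 2).symm)), map_one, one_mul]

/-- `Lng.exists_rel`, `center_eq`. -/
theorem lng_aut (β : MulAut (Om Q)) {o : Om Q} (h : Lng (o : O Q)) : Lng (β o : O Q) := by
  obtain ⟨j, hj⟩ := q.exists_mk
  obtain ⟨t, l, _, ht, k⟩ := h.exists_rel q.nd (by have := q.dim; omega) (MulAut.congr j β)
  rw [← hj, ← hj] at k
  rwa [j.injective ((congrArg (j <| β ·) (j.symm_apply_apply o)).symm.trans k)]

/-- `K` = the inner automorphisms.  Every `β` has a unique `φ` with `Ind φ β`; `f β = φ.σ` is a homomorphism; `f β = 1` gives `φ = ofO r` (`mem_range_ofO`), `Ω` has index two in `O Q`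
(`index_commutator_of_even`).  So `ker f / K` has order at most two, is central in `MulAut / K`, the quotient embeds in the cyclic group `F ≃+* F`
(`commutative_of_cyclic_center_quotient`).  `rk2_of`, `γ = 1`. -/
theorem au_of_surj (h : Function.Surjective (Gam.rho Q)) : ∃ K, Au Q K := by
  obtain ⟨j, hj⟩ := q.exists_mk
  choose Φ hΦ using fun β : MulAut (Om Q) => (h (MulAut.congr j β)).elim fun _ k => q.ind_of_rho hj k
  let f : MulAut (Om Q) →* (F ≃+* F) := (Gam.fld Q).comp (.mk' Φ fun a b => q.ind_eq (hΦ _) ((hΦ a).mul (hΦ b)))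
  have k : ∀ a b, f a = 1 → f b = 1 → a ∈ Inn (Om Q) ∨ b ∈ Inn (Om Q) ∨ a * b ∈ Inn (Om Q) := fun a b ha hb => by
    obtain ⟨r, hr⟩ := Gam.mem_range_ofO (g := Φ a).2 ⟨ha, (hΦ a).1⟩
    obtain ⟨r', hr'⟩ := Gam.mem_range_ofO (g := Φ b).2 ⟨hb, (hΦ b).1⟩
    have h1 := hr ▸ hΦ a
    have h2 := hr' ▸ hΦ b
    by_cases c : r ∈ Om Q
    · exact .inl ⟨_, (h1.inner c).symm⟩
    by_cases c' : r' ∈ Om Q
    · exact .inr (.inl ⟨_, (h2.inner c').symm⟩)
    exact .inr (.inr ⟨_, ((map_mul (Gam.ofO Q) r r' ▸ h1.mul h2).inner ((mul_mem_iff_of_index_two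
      (index_commutator_of_even q.nd q.nexc two0 (by have := q.dim; omega))).2 (iff_of_false c c'))).symm⟩)
  have c := comm_le_of f (by rintro _ ⟨o, rfl⟩; exact congrArg Gam.σ (q.ind_eq (hΦ _) (.conj o))) k
  exact ⟨_, c, fun β ⟨o, e⟩ _ => ⟨o, e.symm⟩, rk2_of c aut_two f k, fun _ _ => ⟨1, fun β _ => ⟨_, hΦ _⟩⟩⟩

omit q in
/-- `K` = the kernel of `χ = (sign ∘ dihedralThreeEquiv, id) ∘ S.typ ∘ MulAut.congr j`, abelian image.  An involution with `χ β = 1` has `typ β = 1`, `ker_typ`, `GOz_eq_ZOm_of_two`, `map_rho_ZOm`.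
The image of `T` in `DihedralGroup 3` is a `2`-group, conjugate by some `r k` into `{1, sr 0}` (`decide`); `γ = S.dih (r k)`; if `(typ β).1 ∈ {1, sr 0}` then
`β (psi (typ β))⁻¹ ∈ D`, so `β ∈ range rho` (`psi_apply`, `dih_sr_zero`, `iota`). -/
theorem au_of_tri (S : TriData Q) : ∃ K, Au Q K := by
  have q : Gq Q := ⟨S.nd, S.dim.ge⟩
  obtain ⟨j, hj⟩ := q.exists_mk
  let τ := S.typ.comp (MulAut.congr j).toMonoidHom
  let sg := Equiv.Perm.sign.comp dihedralThreeEquiv.toMonoidHom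
  have c : commutator _ ≤ ((sg.prodMap (.id _)).comp τ).ker := commutator_le.2 fun a _ b _ => by
    rw [MonoidHom.mem_ker, map_commutatorElement, commutatorElement_eq_one_iff_mul_comm]
    exact Prod.ext (mul_comm _ _) (IsCyclic.isMulCommutative.is_comm.comm _ _)
  have m : ∀ {β}, β ∈ ((sg.prodMap (.id _)).comp τ).ker ↔ sg (τ β).1 = 1 ∧ (τ β).2 = 1 := Prod.ext_iff
  have s2 : ∀ {β}, β * β = 1 → (τ β).1 * (τ β).1 = 1 := fun h => by rw [← Prod.fst_mul, ← map_mul, h, map_one]; rfl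
  refine ⟨_, c, fun β hβ b2 => ?_, rk2_of c aut_two ((MonoidHom.snd _ _).comp τ) fun a b ha hb => ?_, fun T hT => ?_⟩
  · have : MulAut.congr j β ∈ S.D := S.ker_typ.le (Prod.ext ((by
      decide : ∀ d : DihedralGroup 3, d * d = 1 → sg d = 1 → d = 1) _ (s2 b2) (m.1 hβ).1) (m.1 hβ).2)
    rw [TriData.D, Gam.GOz_eq_ZOm_of_two S.nd S.notExc two0, Gam.map_rho_ZOm] at this
    obtain ⟨x, hx⟩ := this
    exact ⟨j.symm x, (MulAut.congr j).injective (hx.symm.trans (MulEquiv.ext fun y => by simp [MulAut.congr]))⟩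
  · replace ha : (τ a).2 = 1 := ha
    replace hb : (τ b).2 = 1 := hb
    simp only [m, map_mul, Prod.fst_mul, Prod.snd_mul, ha, hb, mul_one, and_true]
    rcases Int.units_eq_one_or (sg (τ a).1) with h | h <;> rcases Int.units_eq_one_or (sg (τ b).1) with h' | h' <;> simp [h, h']
  have t : ∀ β ∈ T, (τ β).1 * (τ β).1 = 1 := fun β hβ => by
    obtain ⟨n, hn⟩ := hT ⟨β, hβ⟩
    have k : (τ β).1 ^ 2 ^ n = 1 := by rw [← Prod.pow_fst, ← map_pow, show β ^ 2 ^ n = 1 from congrArg Subtype.val hn, map_one]; rfl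
    refine ((by decide : ∀ d : DihedralGroup 3, d * d = 1 ∨ d ^ 3 = 1) _).elim id fun k' => ?_
    rw [(pow_eq_one_iff_of_coprime (Nat.Coprime.pow_left n (by decide : Nat.Coprime 2 3))).1 ⟨k, k'⟩, mul_one]
  obtain ⟨k, hk⟩ : ∃ k : DihedralGroup 3, ∀ β ∈ T, k * (τ β).1 * k⁻¹ = 1 ∨ k * (τ β).1 * k⁻¹ = .sr 0 := by
    by_cases e : ∃ β ∈ T, (τ β).1 ≠ 1
    · obtain ⟨β₀, h0, e⟩ := e
      obtain ⟨k, hk⟩ := (by decide : ∀ d : DihedralGroup 3, d * d = 1 → d ≠ 1 → ∃ k, ∀ d', d' * d' = 1 → d * d' * (d * d') = 1 →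
        k * d' * k⁻¹ = 1 ∨ k * d' * k⁻¹ = .sr 0) _ (t _ h0) e
      exact ⟨k, fun β hβ => hk _ (t _ hβ) (by simpa only [map_mul, Prod.fst_mul] using t _ (mul_mem h0 hβ))⟩
    · push Not at e
      exact ⟨1, fun β hβ => .inl (by simp [e β hβ])⟩
  refine ⟨(MulAut.congr j).symm (S.dih k), fun β hβ => ?_⟩
  have e : (τ ((MulAut.congr j).symm (S.dih k) * β * ((MulAut.congr j).symm (S.dih k))⁻¹)).1 = k * (τ β).1 * k⁻¹ := by
    rw [map_mul, map_mul, map_inv, show τ ((MulAut.congr j).symm (S.dih k)) = (k, 1) from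
      (congrArg S.typ ((MulAut.congr j).apply_symm_apply _)).trans (S.typ_dih k)]; rfl
  generalize (MulAut.congr j).symm (S.dih k) * β * _ = β' at e ⊢
  have h1 : MulAut.congr j β' * (S.psi (τ β'))⁻¹ ∈ (Gam.rho Q).range := map_le_range _ _ (S.ker_typ.le (by
    rw [MonoidHom.mem_ker, map_mul, map_inv, S.typ_psi]; exact mul_inv_cancel _))
  have h2 : S.psi (τ β') ∈ (Gam.rho Q).range := by
    rw [← Prod.mk.eta (p := τ β'), S.psi_apply, e]
    refine mul_mem ?_ ⟨_, rfl⟩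
    rcases hk β hβ with k | k <;> rw [k]
    · exact map_one S.dih ▸ one_mem _
    · exact ⟨_, S.dih_sr_zero.symm⟩
  obtain ⟨φ, hφ⟩ := mul_mem h1 h2
  exact q.ind_of_rho hj (hφ.trans (inv_mul_cancel_right _ _))

end Gq

/-- `zornData`, `surjective_rho`. -/
theorem au_plus {k : ℕ} (hk : 4 ≤ k) : Gq (qPlus k F) ∧ ∃ K, Au (qPlus k F) K := by
  have q : Gq (qPlus k F) := ⟨nd_qPlus k, by simp; omega⟩
  refine ⟨q, ?_⟩
  rcases hk.eq_or_lt with rfl | h
  · exact Gq.au_of_tri (zornData F)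
  · exact q.au_of_surj (surjective_rho q.nd (by have := q.dim; omega) fun e => by simp at e; omega)

/-- `surjective_rho`, Witt index `m`. -/
theorem au_minus {m : ℕ} (hm : 3 ≤ m) {a b : F} (h : Aniso a b) :
    Gq (qMinus m F a b) ∧ ∃ K, Au (qMinus m F a b) K := by
  have q : Gq (qMinus m F a b) := ⟨nd_qMinus m h, by simp; omega⟩
  exact ⟨q, q.au_of_surj (surjective_rho q.nd (by have := q.dim; omega) fun e => by rw [wittIndex_qMinus m h]; simp at e; omega)⟩

end Cfsg.Lib.OD
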