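import Cfsg.Agent.Lib.OD.Def
import Cfsg.Agent.Lib.Orth.Wall3
import Cfsg.Agent.Lib.Orth.AutPOmega

/-!
# OD: involutions of orthogonal groups in characteristic two, tools.
`B = polar Q`, `N = u - 1` (`nl u`), `W = [V, u] = O.comm u ≤ W^⊥ = O.fix u` (`comm_le_fix`, `O.perp_comm`, `O.perp_fix`), `E = eich Q`.
-/

set_option autoImplicit false
set_option linter.unusedSectionVars false

namespace Cfsg.Lib.OD

open Subgroup Cfsg.Lib.BG Cfsg.Lib.Orth QuadraticMap Module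
open scoped Cfsg.Lib.Transfer commutatorElement

variable {F V : Type*} [Field F] [Finite F] [CharP F 2] [AddCommGroup V] [Module F V] [FiniteDimensional F V] {Q : QuadraticForm F V}
  {u a g : O Q} {e m m' x y v : V} {P X : Subgroup (O Q)}

/-- `Ω(V, Q)`. -/
abbrev Om (Q : QuadraticForm F V) : Subgroup (O Q) := commutator (O Q)

/-- `N v = u v - v`. -/
def nl (u : O Q) : V →ₗ[F] V := (u.1 : V →ₗ[F] V) - LinearMap.id

theorem nl_apply (u : O Q) (v : V) : nl u v = u.1 v - v := rfl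
theorem nl_mem (u : O Q) (v : V) : nl u v ∈ O.comm u := ⟨v, rfl⟩
theorem mem_comm : x ∈ O.comm u ↔ ∃ v, nl u v = x := Iff.rfl
theorem two0 : (2 : F) = 0 := CharTwo.two_eq_zero

/-- Nondegenerate of dimension at least eight. -/
structure Gq (Q : QuadraticForm F V) : Prop where
  nd : ND Q
  dim : 8 ≤ finrank F V

theorem vv (F : Type*) [Field F] [CharP F 2] [Module F V] (v : V) : v + v = 0 := add_self_of_two (F := F) CharTwo.two_eq_zero v
theorem sub_eq (F : Type*) [Field F] [CharP F 2] [Module F V] (v w : V) : v - w = v + w := by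
  rw [sub_eq_add_neg, neg_eq_of_two (F := F) CharTwo.two_eq_zero]
theorem ap_eq (g : O Q) (v : V) : g.1 v = v + nl g v := by rw [nl_apply]; abel
theorem nl_zero : nl g x = 0 ↔ g.1 x = x := sub_eq_zero
theorem mem_fix : x ∈ O.fix g ↔ nl g x = 0 := Iff.rfl
theorem pp (v : V) : polar Q v v = 0 := polar_self_of_two two0 v
theorem nl_mul' (g h : O Q) (x : V) : nl (g * h) x = nl g x + nl h x + nl g (nl h x) := by
  simp only [nl_apply, O.mul_apply, map_sub]; abel
theorem nl_sq (g : O Q) (x : V) : nl (g * g) x = nl g (nl g x) := by rw [nl_mul', vv F, zero_add]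
theorem nl_inv (g : O Q) (x : V) : nl g⁻¹ x = -(nl g x + nl g⁻¹ (nl g x)) := by
  simp only [nl_apply, map_sub, O.inv_apply_apply]; abel
theorem nl_cj (p g : O Q) (x : V) : nl (p * g * p⁻¹) x = p.1 (nl g ((p⁻¹).1 x)) := by
  simp only [nl_apply, O.mul_apply, map_sub, O.apply_inv_apply]
theorem nl_nl (h : u * u = 1) (x : V) : nl u (nl u x) = 0 := comm_le_fix two0 h (nl_mem u x)
theorem eq_one_of (h : ∀ x, nl g x = 0) : g = 1 := O.ext fun x => nl_zero.1 (h x)

/-- `O.polar_left`, `u⁻¹ = u`. -/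
theorem nl_sym (h : u * u = 1) (x y : V) : polar Q (nl u x) y = polar Q x (nl u y) := by
  rw [nl_apply, nl_apply, polar_sub_left, polar_sub_right, O.polar_left, inv_eq_of_mul_eq_one_left h]
/-- `Q_sub`, `polar_self_of_two`. -/
theorem Q_nl (u : O Q) (x : V) : Q (nl u x) = polar Q x (nl u x) := by
  rw [nl_apply, Q_sub, O.map_Q, polar_sub_right, pp, polar_comm _ (u.1 x)]
  grind [two0 (F := F)]
theorem nl_conj (h : g * u = u * g) (x : V) : nl u (g.1 x) = g.1 (nl u x) := by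
  rw [nl_apply, nl_apply, map_sub, ← O.mul_apply, ← h, O.mul_apply]
/-- `conj_eich`. -/
theorem eich_cm (he : g.1 e = e) (hm : g.1 m = m) : eich Q e m * g = g * eich Q e m := by
  rw [eq_comm, ← mul_inv_eq_iff_eq_mul, conj_eich, he, hm]
/-- `eich_apply` without signs. -/
theorem eich_ap (he : Q e = 0) (h : polar Q e m = 0) (x : V) : (eich Q e m).1 x = x + polar Q m x • e + polar Q e x • m + (Q m * polar Q e x) • e := by
  rw [eich_apply he h, sub_eq F, sub_eq F]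
theorem eich_sq (e m : V) : eich Q e m * eich Q e m = 1 := by
  by_cases h : Q e = 0 ∧ polar Q e m = 0
  · rw [← eich_add h.1 h.2 h.2, vv F, eich_zero]
  · rw [eich_of_not h, one_mul]
theorem eich_sw (he : Q e = 0) (hm : Q m = 0) (h : polar Q e m = 0) : eich Q m e = eich Q e m := by
  rw [eich_swap he h hm, neg_eq_of_two (F := F) two0]

/-- A fixed point on the cosets `x + A`, `x ∈ B`: `P` acts on `B.map A.mkQ` (order a power of two, `0` fixed; `IsPGroup.exists_fixed_point_of_prime_dvd_card_of_fixed_point`). -/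
theorem exists_fix (hP : IsPGroup 2 P) {A B : Submodule F V} (h : A < B) (hA : ∀ p ∈ P, ∀ x ∈ A, p.1 x ∈ A) (hB : ∀ p ∈ P, ∀ x ∈ B, p.1 x ∈ B) :
    ∃ x ∈ B, x ∉ A ∧ ∀ p ∈ P, nl p x ∈ A := by
  have : Finite V := Module.finite_of_finite F
  let _ : MulAction P (B.map A.mkQ) :=
    { smul := fun p c => ⟨A.mapQ A (p.1.1 : V →ₗ[F] V) (hA p p.2) c, by
        obtain ⟨_, x, hx, rfl⟩ := c
        exact ⟨_, hB p p.2 x hx, rfl⟩⟩
      one_smul := by rintro ⟨_, x, hx, rfl⟩; rfl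
      mul_smul := by rintro p p' ⟨_, x, hx, rfl⟩; rfl }
  obtain ⟨x₀, hx₀, n₀⟩ := SetLike.exists_of_lt h
  have : Nontrivial (B.map A.mkQ) := ⟨⟨⟨_, x₀, hx₀, rfl⟩, 0, fun e => n₀ ((Submodule.Quotient.mk_eq_zero A).1 (congrArg Subtype.val e))⟩⟩
  have : Fintype F := .ofFinite F
  have : Finite (V ⧸ A) := Quotient.finite _
  obtain ⟨n, -, hn⟩ := FiniteField.card F 2
  obtain ⟨⟨_, x, hx, rfl⟩, h1, h2⟩ := hP.exists_fixed_point_of_prime_dvd_card_of_fixed_point (B.map A.mkQ) (a := 0) (by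
    rw [Module.natCard_eq_pow_finrank (K := F), Nat.card_eq_fintype_card, hn, ← pow_mul]
    exact dvd_pow_self _ (mul_ne_zero n.ne_zero finrank_pos.ne')) fun p => Subtype.ext (map_zero (A.mapQ A (p.1.1 : V →ₗ[F] V) (hA p p.2)))
  exact ⟨x, hx, fun k => h2 (Subtype.ext ((Submodule.Quotient.mk_eq_zero A).2 k).symm), fun p hp =>
    (Submodule.Quotient.eq A).1 (congrArg Subtype.val (h1 ⟨p, hp⟩))⟩

namespace Gq
variable (q : Gq Q)
include q

theorem nexc : ¬ Exc Q := not_exc_of_five_le (by have := q.dim; omega)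
theorem eich_mem (e m : V) : eich Q e m ∈ Om Q := eich_mem_commutator q.nd q.nexc e m
/-- `commutator_eq_ker_dickson`, `dickson_eq_one_iff`. -/
theorem mem_iff : g ∈ Om Q ↔ Even (finrank F (O.comm g)) := by
  rw [Om, commutator_eq_ker_dickson q.nd q.nexc two0, MonoidHom.mem_ker, dickson_eq_one_iff]
/-- `dickson_refl`. -/
theorem refl_mem (hx : Q x ≠ 0) (hy : Q y ≠ 0) : refl Q x * refl Q y ∈ Om Q := by
  rw [Om, commutator_eq_ker_dickson q.nd q.nexc two0, MonoidHom.mem_ker, map_mul, dickson_refl _ hx, dickson_refl _ hy]; simp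

/-- `S = {g ∈ X | g fixes A, N_g B ≤ A, N_g C ≤ B, N_g D ≤ C}` is a subgroup normalized by `P`.  For `g ∈ S`: `N_{g²} = N_g²` (characteristic two), so `h = g⁴` fixes `D`;
`[V, h] = (fix h)^⊥ ≤ D^⊥ ≤ D ≤ fix h`, `h² = 1`.  `Syl.ge_of_norm_p`. -/
theorem chain (hP : Syl 2 P X) {A B C D : Submodule F V} (h1 : A ≤ B) (h2 : B ≤ C) (h3 : C ≤ D) (h4 : perp Q D ≤ D)
    (iA : ∀ p ∈ P, ∀ x ∈ A, p.1 x ∈ A) (iB : ∀ p ∈ P, ∀ x ∈ B, p.1 x ∈ B) (iC : ∀ p ∈ P, ∀ x ∈ C, p.1 x ∈ C) (iD : ∀ p ∈ P, ∀ x ∈ D, p.1 x ∈ D) (hg : g ∈ X)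
    (gA : ∀ x ∈ A, nl g x = 0) (gB : ∀ x ∈ B, nl g x ∈ A) (gC : ∀ x ∈ C, nl g x ∈ B) (gD : ∀ x ∈ D, nl g x ∈ C) : g ∈ P := by
  let S : Subgroup (O Q) :=
    { carrier := {g | g ∈ X ∧ (∀ x ∈ A, nl g x = 0) ∧ (∀ x ∈ B, nl g x ∈ A) ∧ (∀ x ∈ C, nl g x ∈ B) ∧ ∀ x ∈ D, nl g x ∈ C}
      one_mem' := ⟨one_mem _, by simp [nl_apply], by simp [nl_apply], by simp [nl_apply], by simp [nl_apply]⟩
      mul_mem' := fun {a b} ⟨a0, a1, a2, a3, a4⟩ ⟨b0, b1, b2, b3, b4⟩ => ⟨mul_mem a0 b0, fun x hx => by simp [nl_mul', a1 x hx, b1 x hx],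
        fun x hx => by rw [nl_mul', a1 _ (b2 x hx), add_zero]; exact add_mem (a2 x hx) (b2 x hx),
        fun x hx => nl_mul' a b x ▸ add_mem (add_mem (a3 x hx) (b3 x hx)) (h1 (a2 _ (b3 x hx))),
        fun x hx => nl_mul' a b x ▸ add_mem (add_mem (a4 x hx) (b4 x hx)) (h2 (a3 _ (b4 x hx)))⟩
      inv_mem' := fun {g} ⟨a0, a1, a2, a3, a4⟩ => by
        have b1 : ∀ x ∈ A, nl g⁻¹ x = 0 := fun x hx => by rw [nl_inv, a1 x hx]; simp
        have b2 : ∀ x ∈ B, nl g⁻¹ x ∈ A := fun x hx => by rw [nl_inv, b1 _ (a2 x hx), add_zero]; exact neg_mem (a2 x hx)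
        have b3 : ∀ x ∈ C, nl g⁻¹ x ∈ B := fun x hx => nl_inv g x ▸ neg_mem (add_mem (a3 x hx) (h1 (b2 _ (a3 x hx))))
        exact ⟨inv_mem a0, b1, b2, b3, fun x hx => nl_inv g x ▸ neg_mem (add_mem (a4 x hx) (h2 (b3 _ (a4 x hx))))⟩ }
  refine hP.ge_of_norm_p (N := S) (fun g k => k.1) (fun ⟨g, _, a1, a2, a3, a4⟩ => ⟨3, Subtype.ext ?_⟩) (le_norm_iff.2 ?_) ⟨hg, gA, gB, gC, gD⟩
  · have k : D ≤ O.fix (g * g * (g * g)) := fun x hx => by
      rw [mem_fix, nl_sq, nl_sq, nl_sq]; exact a1 _ (a2 _ (a3 _ (a4 x hx)))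
    have := eq_one_of fun x => (nl_sq (g * g * (g * g)) x).trans (k (h4 (perp_anti k (O.perp_fix q.nd _ ▸ nl_mem _ x))))
    simpa only [show 2 ^ 3 = 8 from rfl, pow_succ, pow_zero, one_mul, mul_assoc, SubmonoidClass.coe_pow, coe_mul, coe_one] using this
  · rintro p hp g ⟨a0, a1, a2, a3, a4⟩
    have i := inv_mem hp
    exact ⟨mul_mem (mul_mem (hP.le hp) a0) (inv_mem (hP.le hp)), fun x hx => by rw [nl_cj, a1 _ (iA _ i x hx), map_zero],
      fun x hx => nl_cj p g x ▸ iA p hp _ (a2 _ (iB _ i x hx)), fun x hx => nl_cj p g x ▸ iB p hp _ (a3 _ (iC _ i x hx)),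
      fun x hx => nl_cj p g x ▸ iC p hp _ (a4 _ (iD _ i x hx))⟩

/-- `O.isConj_iff`, `OE.qsim_of_inv2`, `exists_commutator_conj_of_not_lag`, `exists_commutator_conj_iff_of_lag`, `psign_self`. -/
theorem cls (hu : u * u = 1) (ha : a * a = 1) (h1 : finrank F (O.comm u) = finrank F (O.comm a)) (h2 : TS Q (O.comm u) ↔ TS Q (O.comm a))
    (h3 : Lag Q (O.comm u) → O.comm u = O.comm a) : Cj (Om Q) u a := by
  have c : IsConj u a := O.isConj_iff.2 ((O.oE q.nd u).qsim_of_inv2 (O.oE q.nd a) two0 (.refl _)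
    (fun v => congrArg (·.1 v) hu) (fun v => congrArg (·.1 v) ha) h1 h2)
  by_cases l : Lag Q (O.comm u)
  · exact (exists_commutator_conj_iff_of_lag q.nd q.nexc two0 l c).2 (h3 l ▸ psign_self _)
  · exact exists_commutator_conj_of_not_lag q.nd q.nexc two0 hu l c

/-- `OE.ts_range_iff`, `Inv2.even_of_alt`. -/
theorem even_of_ts (hu : u * u = 1) (h : TS Q (O.comm u)) : Even (finrank F (O.comm u)) := (O.oE q.nd u).even_of_ts two0 (fun v => congrArg (·.1 v) hu) h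

omit q in
theorem exists_nmem {W W' : Submodule F V} (h : finrank F W' < finrank F W) : ∃ x ∈ W, x ∉ W' := by
  by_contra! c
  exact h.not_ge (Submodule.finrank_mono c)

omit q in
theorem fr1 (e : V) : finrank F (F ∙ e) ≤ 1 := by simpa using finrank_span_le_card (R := F) ({e} : Set V)

/-- Rank `0` or `2` (`even_of_ts`); a basis `e, m` of `[V, a]` is an `IsLine`; `cls` with `E(e, m)` (`IsLine.comm_eich`), `Lng.conj`. -/
theorem lng_of (ha : a * a = 1) (h : TS Q (O.comm a)) (h2 : finrank F (O.comm a) ≤ 2) : a = 1 ∨ Lng a := by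
  obtain ⟨k, hk⟩ := q.even_of_ts ha h
  by_cases k0 : k = 0
  · exact .inl (O.comm_eq_bot_iff.1 (Submodule.finrank_eq_zero.1 (by omega)))
  obtain ⟨e, he, e0⟩ := exists_nmem (W := O.comm a) (W' := ⊥) (by rw [finrank_bot]; omega)
  obtain ⟨m, hm, m0⟩ := exists_nmem (W := O.comm a) (W' := F ∙ e) (by have := fr1 (F := F) e; omega)
  have l : IsLine Q e m := ⟨h e he, h m hm, h.polar_eq he hm, e0, m0⟩
  have c : O.comm (eich Q e m) = O.comm a := (l.comm_eich q.nd).trans (Submodule.eq_of_le_of_finrank_le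
    (Submodule.span_le.2 (Set.pair_subset he hm)) (l.finrank_span ▸ h2))
  obtain ⟨x, -, rfl⟩ := q.cls (eich_sq e m) ha (by rw [c]) (by rw [c]) fun _ => c
  exact .inr (l.lng.conj x)

/-- `cls`. -/
theorem lng_cj (hu : Lng u) (ha : Lng a) : Cj (Om Q) u a := by
  have s : ∀ {u : O Q}, Lng u → u * u = 1 := fun ⟨e, m, _, k⟩ => k ▸ eich_sq e m
  refine q.cls (s hu) (s ha) (by rw [hu.finrank_comm q.nd, ha.finrank_comm q.nd]) (iff_of_true hu.ts ha.ts) fun l => ?_
  have := l.2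
  have := q.dim
  rw [hu.finrank_comm q.nd] at *
  omega

/-- `≤`: `comm_eich_le`.  `x ⊥ e`, `B(m, x) = 1` gives `e` (`exists_perp_polar_eq`); `B(e, x) = 1` gives `m` modulo `e`. -/
theorem comm_eich (he : Q e = 0) (h0 : e ≠ 0) (h : polar Q e m = 0) (hm : m ∉ F ∙ e) : O.comm (eich Q e m) = Submodule.span F {e, m} := by
  refine le_antisymm (comm_eich_le e m) (Submodule.span_le.2 ?_)
  obtain ⟨x, hx, h1⟩ := exists_perp_polar_eq q.nd hm 1
  obtain ⟨y, -, h2⟩ := exists_perp_polar_eq q.nd (W := ⊥) (u := e) h0 1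
  have k : e ∈ O.comm (eich Q e m) := O.mem_comm.2 ⟨x, by rw [eich_ap he h, h1, mem_perp_singleton.1 hx]; simp⟩
  refine Set.pair_subset k ?_
  have := sub_mem (O.sub_mem_comm (eich Q e m) y) (Submodule.smul_mem _ (polar Q m y + Q m) k)
  rw [eich_ap he h, h2] at this
  rwa [show y + polar Q m y • e + (1 : F) • m + (Q m * 1) • e - y - (polar Q m y + Q m) • e = m by module] at this

/-- `eich_add`; `E(e, z) = 1` forces `z ∈ ⟨e⟩` (`comm_eich`), `eich_of_mem_span`. -/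
theorem eich_eq (he : Q e = 0) (h0 : e ≠ 0) (h : polar Q e m = 0) (h' : polar Q e m' = 0) : eich Q e m = eich Q e m' ↔ m - m' ∈ F ∙ e := by
  refine ⟨fun k => by_contra fun c => ?_, fun k => ?_⟩
  · have := q.comm_eich he h0 (by rw [polar_sub_right, h, h', sub_zero]) c
    rw [sub_eq F, eich_add he h h', k, eich_sq, O.comm_one] at this
    exact h0 (this.ge (Submodule.subset_span (by simp)))
  · obtain ⟨c, hc⟩ := Submodule.mem_span_singleton.1 k
    rw [← eich_add_smul_self he h' c, hc, add_sub_cancel]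

/-- `exists_isHyp`, `IsHyp.exists_eq_eich`. -/
theorem eq_eich (he : Q e = 0) (h0 : e ≠ 0) (hg : g.1 e = e) (h : ∀ m, polar Q e m = 0 → g * eich Q e m = eich Q e m * g) :
    ∃ m, polar Q e m = 0 ∧ g = eich Q e m := by
  obtain ⟨f, hf⟩ := exists_isHyp q.nd he h0
  obtain ⟨z, hz, k⟩ := hf.exists_eq_eich hg fun z hz => h z (mem_hperp.1 hz).1
  exact ⟨z, (mem_hperp.1 hz).1, k⟩

/-- The characteristic vector.  `x ↦ Q (N x)` is additive (`W ≤ W^⊥`): `exists_dual_sq`, `exists_polar_eq_dual`; `y ⊥ fix u`, so `y = N y₁`.  `g y` has the same property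
(`nl_conj`, `sq_inj_of_two`, `ND.ext`).  `Q y = B(y, y₁)² = B(y₁, y)` (`Q_nl`), so `Q y ∈ {0, 1}`.  If `Q y = 1`: `a = refl y * u` is an involution,
`Q (N_a x) = Q (N x) + B(y, x)² = 0`, `even_of_ts`, `dsign_refl_mul`: the rank of `u` is odd. -/
theorem yvec (hu : u * u = 1) (h : u ∈ Om Q) : ∃ y₁, (∀ x, Q (nl u x) = polar Q (nl u y₁) x ^ 2) ∧ Q (nl u y₁) = 0 ∧
    ∀ g : O Q, g * u = u * g → g.1 (nl u y₁) = nl u y₁ := by
  have w : ∀ x y, polar Q (nl u x) (nl u y) = 0 := fun x y => by rw [nl_sym hu, nl_nl hu, polar_zero_right]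
  obtain ⟨l, hl⟩ := exists_dual_sq (φ := fun x => Q (nl u x)) two0 (fun x y => by simp only [map_add, Q_add, w, add_zero])
    fun a x => by simp only [map_smul, Q_smul]
  obtain ⟨y, hy⟩ := exists_polar_eq_dual q.nd l
  simp only [hy] at hl
  obtain ⟨y₁, rfl⟩ : y ∈ O.comm u := O.perp_fix q.nd u ▸ mem_perp'.2 fun x hx => by
    have := hl x
    rw [mem_fix.1 hx, map_zero] at this
    exact pow_eq_zero_iff two_ne_zero |>.1 this.symm
  change ∀ x, Q (nl u x) = polar Q (nl u y₁) x ^ 2 at hl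
  refine ⟨y₁, hl, by_contra fun n => ?_, fun g c => q.nd.ext fun x => sq_inj_of_two two0 ?_⟩
  · have k := hl y₁
    rw [polar_comm, ← Q_nl, pow_two] at k
    replace k : Q (nl u y₁) = 1 := (mul_right_eq_self₀.1 k.symm).resolve_right n
    have c : u * refl Q (nl u y₁) = refl Q (nl u y₁) * u := by rw [← mul_inv_eq_iff_eq_mul, conj_refl, nl_zero.1 (nl_nl hu y₁)]
    have := q.even_of_ts (u := refl Q (nl u y₁) * u) (by rw [mul_assoc, ← mul_assoc u, c, mul_assoc, hu, mul_one, refl_mul_self]) (by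
      rintro _ ⟨x, rfl⟩
      change Q (nl _ x) = 0
      rw [show nl (refl Q (nl u y₁) * u) x = nl u x - polar Q (nl u y₁) x • nl u y₁ by
        rw [nl_apply, O.mul_apply, refl_apply, k, ap_eq u x, polar_add_right, w]; simp only [inv_one, add_zero, one_mul]; abel,
        Q_sub, Q_smul, polar_smul_right', w, k, hl]
      grind [two0 (F := F)])
    rw [← dickson_eq_one_iff q.nd, map_mul, dickson_refl _ n, (dickson_eq_one_iff q.nd).2 (q.mem_iff.1 h)] at this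
    exact absurd this (by decide)
  · rw [O.polar_left, ← hl, ← hl, nl_conj (g := g⁻¹) (by rw [inv_mul_eq_iff_eq_mul, ← mul_assoc, c, mul_inv_cancel_right]), O.map_Q]

end Gq

end Cfsg.Lib.OD
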