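import Cfsg.Agent.Lib.OD.Sw

/-!
# OD: the abstract Step 0.
-/

set_option autoImplicit false
set_option linter.unusedSectionVars false

namespace Cfsg.Lib.OD

open Subgroup Cfsg.Lib.BG
open scoped Cfsg.Lib.Transfer commutatorElement

variable {G : Type*} [Group G] [Finite G] {L N T X : Subgroup G} {R : G → Prop} {t d g u w : G}

namespace Ex
variable (x : Ex L N R t)
include x

theorem LC : L ≤ 𝐂[t] := fun l hl => mem_cent1.2 (x.tL l hl)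
theorem nm (h : g ∈ 𝐂[t]) : g ∈ 𝐍(L) := x.cn g (mem_cent1.1 h)
omit x in
theorem cj_cen (e : g * d * g⁻¹ = t) (h : u ∈ 𝐂[d]) : g * u * g⁻¹ ∈ 𝐂[t] := by
  rw [← e, ← conj_cent1]; exact Transfer.conj_mem_conj.2 h
omit x in
theorem sq_cj (h : u * u = 1) (g : G) : g * u * g⁻¹ * (g * u * g⁻¹) = 1 := by rw [conj_mul, h]; simp

/-- `u = [b, u] [a, u]⁻¹ ∈ N`; if `u t = l ∈ L` then `(b l b⁻¹) t = l (a l a⁻¹)`, `t ∈ L`. -/
theorem T3 (h : Fu 𝐂[t] u) : u ∈ L := by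
  obtain ⟨h1, h2, a, ha, b, hb, e⟩ := h
  have m : u ∈ N := by
    have := mul_mem (x.cm (commutator_mem_commutator hb h1)) (inv_mem (x.cm (commutator_mem_commutator ha h1)))
    rwa [commutatorElement_def, commutatorElement_def, e, show u * (a * u * a⁻¹) * u⁻¹ * (a * u * a⁻¹ * u⁻¹)⁻¹ = u by group] at this
  refine (x.inn u m (mem_cent1.1 h1) h2).resolve_right fun k => x.tn ?_
  have c : ∀ g ∈ 𝐂[t], g * (u * t) * g⁻¹ = g * u * g⁻¹ * t := fun g hg => by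
    rw [mul_assoc _ g⁻¹, mem_cent1.1 (inv_mem hg)]; group
  have := mul_mem (inv_mem (mul_mem k (conj_mem_of_norm (x.nm ha) k))) (conj_mem_of_norm (x.nm hb) k)
  rwa [c a ha, c b hb, e, ← c a ha, mul_assoc u t, ← x.tL _ (conj_mem_of_norm (x.nm ha) k), c a ha, mul_assoc _ t t, x.t2, mul_one,
    inv_mul_cancel_left] at this

/-- Conjugate by `g`, `T3`. -/
theorem fu (hX : X ≤ 𝐂[d]) (e : g * d * g⁻¹ = t) (h : Fu X w) : g * w * g⁻¹ ∈ L := by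
  obtain ⟨h1, h2, a, ha, b, hb, k⟩ := h
  refine x.T3 ⟨cj_cen e (hX h1), sq_cj h2 g, _, cj_cen e (hX ha), _, cj_cen e (hX hb), ?_⟩
  rw [show g * b * g⁻¹ * (g * w * g⁻¹) * (g * b * g⁻¹)⁻¹ = g * (b * w * b⁻¹) * g⁻¹ by group, k]; group

/-- `b0`, `fu`, `tn`. -/
theorem zne (i : Iv L R) (h : R w) : g * w * g⁻¹ ≠ t := fun e => by
  obtain ⟨a, b, h1, h2, k⟩ := i.b0 w h
  refine x.tn ?_
  rw [← e, k, conjugate_commutatorElement, commutatorElement_def]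
  have h1 := x.fu inf_le_right e h1
  have h2 := x.fu inf_le_right e h2
  exact mul_mem (mul_mem (mul_mem h1 h2) (inv_mem h1)) (inv_mem h2)

/-- `Hall.inf`. -/
theorem syl_inf (hX : X ≤ 𝐂[t]) (h : Syl 2 T X) : Syl 2 (T ⊓ L) (L ⊓ X) := by
  have := Hall.inf h (N := L ⊓ X) inf_le_right (le_norm_iff.2 fun a ha l hl =>
    ⟨conj_mem_of_norm (x.nm (hX (h.le ha))) hl.1, conj_mem_of_norm (le_norm X (h.le ha)) hl.2⟩)
  rwa [inf_comm L X, ← inf_assoc, inf_eq_left.2 h.le, inf_comm X L] at this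

/-- `S ≥ T` Sylow in `C(t)`, `P = S ⊓ L ≠ ⊥` Sylow in `L`, an involution of `P ⊓ C(S)` (`PGroup.inf_centralizer_ne_bot`), `hz`. -/
theorem cen (i : Iv L R) (hT : IsPGroup 2 T) (h : T ≤ 𝐂[t]) : ∃ z, R z ∧ z ∈ 𝐂(T) := by
  obtain ⟨S, s1, s2⟩ := Syl.exists_ge hT h
  have s := x.syl_inf le_rfl s1
  rw [inf_eq_left.2 x.LC] at s
  obtain ⟨w, hw⟩ := i.ex
  obtain ⟨z, h1, h2, h3⟩ := PGroup.exists_mem_centralizer_orderOf_eq s.pgroup s1.pgroup (le_norm_iff.2 fun a ha l hl =>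
    ⟨conj_mem_of_norm (le_norm S ha) hl.1, conj_mem_of_norm (x.nm (s1.le ha)) hl.2⟩)
    (s.ne_bot' (orderOf_eq_prime (pow_two w ▸ i.sq w hw) (i.ne w hw) ▸ orderOf_dvd_natCard L (i.mem w hw)))
  exact ⟨z, (i.hz _ s z h1.2 (by rw [← pow_two, ← h3, pow_orderOf_eq_one]) (cent_anti inf_le_left h2)).resolve_left
    (by rintro rfl; simp at h3), cent_anti s2 h2⟩

/-- `A` from `out`; `a ↦ [a, d]` is a homomorphism on `A`, `[a, d] ∈ A ⊓ C(d)`, `d [a, d] = [a, d] d = a d a⁻¹`.  `Y = {[a, d] | a ∈ A, g [a, d] g⁻¹ ∈ N}` is a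
`2`-subgroup normalized by `T` (`T ≤ C(d)`, `s y s⁻¹ = [s, y] y`), `≠ ⊥` (`rk`; `cm`).  `c ∈ Y ⊓ C(T)`, `c ≠ 1`; `c' = g c g⁻¹`, `d' = t c' = g (d c) g⁻¹`, `T' = g ⋆ T`; `inn`. -/
theorem inner (hT : IsPGroup 2 T) (h1 : T ≤ 𝐂[t]) (h2 : T ≤ 𝐂[d]) (hd : d ∈ T) (e : g * d * g⁻¹ = t) (n1 : d ∉ L) (n2 : d * t ∉ L) :
    ∃ d', d' * t = t * d' ∧ d' ≠ t ∧ IsConj t d' ∧ g ⋆ T ≤ 𝐂[t] ∧ g ⋆ T ≤ 𝐂[d'] ∧ (d' ∈ L ∨ d' * t ∈ L) := by
  have d2 : d * d = 1 := by have := sq_cj x.t2 g⁻¹; rwa [← e, show g⁻¹ * (g * d * g⁻¹) * g⁻¹⁻¹ = d by group] at this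
  obtain ⟨A, -, ab, a2, hn, big⟩ := x.out T d hT h1 h2 hd d2 n1 n2
  have cj := fun a (ha : a ∈ A) => conj_mem_of_norm (hn hd) ha
  have c1 : ∀ a ∈ A, ⁅a, d⁆ = a * (d * a * d⁻¹) := fun a ha => by
    rw [commutatorElement_def, inv_eq_of_mul_eq_one_left (a2 a ha)]; group
  have cA : ∀ a ∈ A, ⁅a, d⁆ ∈ A := fun a ha => c1 a ha ▸ mul_mem ha (cj a ha)
  have cm : ∀ a ∈ A, ∀ b ∈ A, ⁅a * b, d⁆ = ⁅a, d⁆ * ⁅b, d⁆ := fun a ha b hb => by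
    rw [c1 _ (mul_mem ha hb), c1 a ha, c1 b hb, ← conj_mul, mul_assoc, ← mul_assoc b, ab b hb _ (cj a ha)]; simp only [mul_assoc]
  have cd : ∀ a ∈ A, ⁅a, d⁆ ∈ 𝐂[d] := fun a ha => mem_cent1.2 (by
    rw [c1 a ha]; nth_rw 1 [ab a ha _ (cj a ha)]; simp only [inv_eq_of_mul_eq_one_left d2, mul_assoc])
  let Y : Subgroup G :=
    { carrier := {y | (∃ a ∈ A, ⁅a, d⁆ = y) ∧ g * y * g⁻¹ ∈ N}
      one_mem' := ⟨⟨1, one_mem _, by simp⟩, by simp⟩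
      mul_mem' := by
        rintro _ _ ⟨⟨a, ha, rfl⟩, k⟩ ⟨⟨b, hb, rfl⟩, k'⟩
        exact ⟨⟨_, mul_mem ha hb, cm a ha b hb⟩, conj_mul (b := g) ▸ mul_mem k k'⟩
      inv_mem' := by
        rintro _ ⟨⟨a, ha, rfl⟩, k⟩
        rw [inv_eq_of_mul_eq_one_left (a2 _ (cA a ha))]
        exact ⟨⟨a, ha, rfl⟩, k⟩ }
  obtain ⟨_, ⟨⟨⟨a, ha, rfl⟩, cN⟩, cT⟩, c0⟩ := (bot_or_exists_ne_one _).resolve_left (PGroup.inf_centralizer_ne_bot (N := Y)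
    (fun ⟨_, ⟨a, ha, rfl⟩, _⟩ => ⟨1, Subtype.ext ((pow_two _).trans (a2 _ (cA a ha)))⟩) hT (le_norm_iff.2 (by
      rintro s hs _ ⟨⟨a, ha, rfl⟩, k⟩
      refine ⟨⟨_, conj_mem_of_norm (hn hs) ha, by rw [conjugate_commutatorElement, mem_cent1.1 (h2 hs), mul_inv_cancel_right]⟩, ?_⟩
      have := mul_mem (x.cm (commutator_mem_commutator (cj_cen e (h2 hs)) (cj_cen e (cd a ha)))) k
      rwa [commutatorElement_def (g * s * g⁻¹), inv_mul_cancel_right, conj_mul, conj_inv, conj_mul] at this)) fun hY => by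
      have z : ∀ a ∈ A, g * ⁅a, d⁆ * g⁻¹ ∈ N → ⁅a, d⁆ = 1 := fun a ha k => mem_bot.1 (hY.le ⟨⟨a, ha, rfl⟩, k⟩)
      rcases big with ⟨a, ha, b, hb, c, hc, k⟩ | ⟨a, ha, k, k'⟩
      · have := x.rk _ (cj_cen e (cd a ha)) _ (cj_cen e (cd b hb)) _ (cj_cen e (cd c hc)) (sq_cj (a2 _ (cA a ha)) g)
          (sq_cj (a2 _ (cA b hb)) g) (sq_cj (a2 _ (cA c hc)) g)
        simp only [List.mem_cons, List.not_mem_nil, or_false, forall_eq_or_imp, forall_eq] at k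
        simp only [conj_mul, ← cm, ha, hb, hc, mul_mem] at this
        have m := fun {a b} => A.mul_mem (x := a) (y := b)
        rcases this with h | h | h | h | h | h | h <;> have := z _ (by first | assumption | exact m ‹_› ‹_› | exact m (m ha hb) hc) h <;> tauto
      · refine k (z a ha (x.cm (commutator_mono (H₁ := g ⋆ (𝐂[t] ⊓ 𝐂[d])) (H₂ := g ⋆ (𝐂[t] ⊓ 𝐂[d])) ?_ ?_ ?_)))
        iterate 2 exact Transfer.conj_le_iff.2 fun y hy => cj_cen e hy.2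
        exact Transfer.conj_commutator g _ _ ▸ Transfer.conj_mem_conj.2 k')
  have ct := mem_cent1.1 (cj_cen e (cd a ha))
  have e' : t * (g * ⁅a, d⁆ * g⁻¹) = g * (d * ⁅a, d⁆) * g⁻¹ := by rw [← e, conj_mul]
  refine ⟨t * (g * ⁅a, d⁆ * g⁻¹), by rw [mul_assoc, ct], fun k => c0 ?_, isConj_iff.2 ⟨g * a * g⁻¹, ?_⟩,
    Transfer.conj_le_iff.2 fun y hy => cj_cen e (h2 hy), Transfer.conj_le_iff.2 fun y hy => cj_cen e'.symm (mem_cent1.2 ?_), ?_⟩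
  · simpa [mul_inv_eq_one] using mul_eq_left.1 k
  · rw [e', ← mem_cent1.1 (cd a ha), ← e, commutatorElement_def]; group
  · rw [← mul_assoc, mem_cent1.1 (h2 hy), mul_assoc, cT y hy, mul_assoc]
  · rw [mul_assoc t, ct, ← mul_assoc t t, x.t2, one_mul, ← ct]
    exact (x.inn _ cN ct (sq_cj (a2 _ (cA a ha)) g)).symm

/-- Suppose `t w ≁ t` for all root elements `w`.  `X = C(t) ⊓ C(d)`, `L ⊓ X = L ⊓ C(u)`, `g` normalizes `X`.  KEY: let `R w`, `w ∈ C(S)`, `S` Sylow in `X`.  Then `Yc u w` (`syl_inf`),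
`a = g w g⁻¹ ∈ L` (`b3`, `fu`) centralizes `g ⋆ S`; `b1`: `R a` gives `t a = g (d w) g⁻¹ ~ d` by `b2`; so `a ~ u`.  If `d = u` then `w ~ t`, `zne`.  So `d = u t`, `g u g⁻¹ = u`;
`b1` for `u a` (`u ∈ g ⋆ S`; `u a ≠ 1` as `w ≠ u`): `u a = m u m⁻¹` gives `t u a = m d m⁻¹` and `g⁻¹ (t u a) g = d u w = t w`; so `R (u a)`, `Yc u (u a)`.
Take `z` from `cen` for a Sylow subgroup of `X`; KEY applies to all `x z x⁻¹`, `x ∈ L ⊓ C(u)`; put `w' = u g w g⁻¹`; the `Yc` elements commute with `u`.  `b4`, first case: `b3` gives `z`, `w`, `z w`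
conjugate, `u z' w' = (z w)'`.  Second case: `u a' b' = (a b)'`, `u a' c' = (a c)'`, `b' c' = (u b c)'`, `u a' b' c' = (u a b c)'`. -/
theorem pair (i : Iv L R) (n : Nr L R u) (hd : d = u ∨ d = u * t) (e : g * t * g⁻¹ = d) (e' : g * d * g⁻¹ = t) :
    ∃ g w, R w ∧ g * t * g⁻¹ = t * w := by
  by_contra! H
  replace H : ∀ w, R w → ¬ IsConj t (t * w) := fun w h k => let ⟨c, hc⟩ := isConj_iff.1 k; H c w h hc
  have ut := x.tL u n.mem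
  have td : IsConj t d := isConj_iff.2 ⟨g, e⟩
  have cd : ∀ l ∈ L, ∀ v ∈ L, l * u * l⁻¹ = u * v → l * d * l⁻¹ = d * v := fun l hl v hv k => by
    rcases hd with rfl | rfl
    · exact k
    · rw [← mul_assoc, mul_assoc _ t, ← x.tL _ (inv_mem hl), ← mul_assoc, k, mul_assoc, x.tL v hv, mul_assoc]
  have Xu : 𝐂[t] ⊓ 𝐂[d] ≤ 𝐂[u] := fun y hy => by
    rcases hd with rfl | rfl
    · exact hy.2
    · exact mem_cent1.2 (mul_right_cancel (b := t) (by rw [mul_assoc, mem_cent1.1 hy.2, mul_assoc, ← mem_cent1.1 hy.1, mul_assoc]))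
  have LX : L ⊓ 𝐂[u] ≤ 𝐂[t] ⊓ 𝐂[d] := fun l hl => ⟨x.LC hl.1, mem_cent1.2 (mul_inv_eq_iff_eq_mul.1 ((cd l hl.1 1 (one_mem _) (by
    rw [mem_cent1.1 hl.2, mul_inv_cancel_right, mul_one])).trans (mul_one d)))⟩
  have sy : ∀ {S}, Syl 2 S (𝐂[t] ⊓ 𝐂[d]) → Syl 2 (S ⊓ L) (L ⊓ 𝐂[u]) := fun s => by
    have := x.syl_inf inf_le_left s
    rwa [le_antisymm (inf_le_inf_left L Xu) (le_inf inf_le_left LX)] at this
  have key : ∀ w S, R w → Syl 2 S (𝐂[t] ⊓ 𝐂[d]) → w ∈ 𝐂(S) → g * u * g⁻¹ = u ∧ u * w = w * u ∧ Yc L R u w ∧ Yc L R u (g * (u * w) * g⁻¹) :=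
    fun w S hw s c => by
    have y : Yc L R u w := ⟨hw, _, sy s, cent_anti inf_le_left c⟩
    have aL := x.fu (LX.trans inf_le_right) e' (i.b3 u n w y)
    have s' : Syl 2 (g ⋆ S) (𝐂[t] ⊓ 𝐂[d]) := by
      have := Hall.conj s g
      rwa [Transfer.conj_inf, conj_cent1, conj_cent1, e, e', inf_comm] at this
    have c' : g * w * g⁻¹ ∈ 𝐂(g ⋆ S ⊓ L) := cent_anti inf_le_left (Transfer.conj_centralizer g S ▸ Transfer.conj_mem_conj.2 c)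
    obtain ⟨m, -, hm⟩ := ((i.b1 u n _ (sy s') _ aL (sq_cj (i.sq w hw) g) c').resolve_left (by simpa using i.ne w hw)).resolve_left fun k => by
      obtain ⟨l, hl, k'⟩ := i.b2 u n w y
      exact H _ k (td.trans (isConj_iff.2 ⟨g * l, by rw [← e', conj_mul, ← cd l hl w (i.mem w hw) k']; group⟩))
    obtain rfl : d = u * t := hd.resolve_left (by
      rintro rfl
      exact x.zne (g := g * m⁻¹ * g) i hw (by
        rw [show g * m⁻¹ * g * w * (g * m⁻¹ * g)⁻¹ = g * m⁻¹ * (g * w * g⁻¹) * m * g⁻¹ by group, ← hm, ← e']; group))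
    have gu : g * u * g⁻¹ = u := mul_right_cancel (b := u * t) (by
      rw [← conj_mul, e] at e'
      rw [e', ← mul_assoc, n.sq, one_mul])
    have uw : u * w = w * u := c u (s.ge_of_norm_p' (zpowers_le.2 (LX ⟨n.mem, self_mem_cent1 u⟩)) (pg_inv n.sq)
      (norm_of_cent (zpowers_le.2 (le_cent1_iff.1 (s.le.trans Xu)))) (mem_zpowers u))
    have r : g * (u * w) * g⁻¹ = u * (g * w * g⁻¹) := by rw [← conj_mul, gu]
    have c'' : g * (u * w) * g⁻¹ ∈ 𝐂(g ⋆ S ⊓ L) := r ▸ mul_mem (le_cent1_iff.1 ((sy s').le.trans inf_le_right)) c'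
    refine ⟨gu, uw, y, ((i.b1 u n _ (sy s') _ (r ▸ mul_mem n.mem aL) (sq_cj (by
      rw [mul_assoc, ← mul_assoc w, ← uw, mul_assoc, i.sq w hw, mul_one, n.sq]) g) c'').resolve_left fun k => n.nr ?_).resolve_right ?_, _, sy s', c''⟩
    · rwa [eq_inv_of_mul_eq_one_left (by simpa using k : u * w = 1), inv_eq_of_mul_eq_one_left (i.sq w hw)]
    · rintro ⟨l, hl, k⟩
      refine H w hw (td.trans (isConj_iff.2 ⟨g⁻¹ * l, ?_⟩))
      rw [show g⁻¹ * l * (u * t) * (g⁻¹ * l)⁻¹ = g⁻¹ * (l * (u * t) * l⁻¹) * g by group, cd l hl _ aL (k.trans r), ← e]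
      group
  obtain ⟨S, s⟩ := Syl.exists (p := 2) (𝐂[t] ⊓ 𝐂[d])
  obtain ⟨z, hz, c⟩ := x.cen i s.pgroup (s.le.trans inf_le_left)
  have k : ∀ {w}, Cj (L ⊓ 𝐂[u]) z w → u * w = w * u ∧ Yc L R u (g * (u * w) * g⁻¹) := by
    rintro _ ⟨l, hl, rfl⟩
    have := key _ _ (i.cj z hz l hl.1) (Hall.conj_of_mem s (LX hl)) (Transfer.conj_centralizer l S ▸ Transfer.conj_mem_conj.2 c)
    exact ⟨this.2.1, this.2.2.2⟩
  obtain ⟨gu, -, y, -⟩ := key z S hz s c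
  have m : ∀ {a b}, u * a = a * u → g * (u * a) * g⁻¹ * (g * (u * b) * g⁻¹) = g * (a * b) * g⁻¹ := fun {a b} h => by
    rw [conj_mul, h, mul_assoc a, ← mul_assoc u u, n.sq, one_mul]
  have r : ∀ a, u * (g * a * g⁻¹) = g * (u * a) * g⁻¹ := fun a => by rw [← conj_mul, gu]
  rcases i.b4 u n with h | ⟨h, h'⟩
  · obtain ⟨-, -, a, ha, b, hb, e⟩ := i.b3 u n z y
    have z0 := k (w := z) ⟨1, one_mem _, by simp⟩
    exact h _ _ _ z0.2 (k ⟨a, ha, rfl⟩).2 (k ⟨b, hb, e⟩).2 (by rw [mul_assoc, m z0.1, r])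
  · obtain ⟨a, b, c, k1, k2, k3, k4, k5, k6, k7⟩ := h z y
    refine h' _ _ _ (k k1).2 (k k2).2 (k k3).2 ?_ ?_ ?_ ?_
    · rw [mul_assoc, m (k k1).1, r]; exact (k k4).2
    · rw [mul_assoc, m (k k1).1, r]; exact (k k5).2
    · rw [m (k k2).1, ← one_mul (b * c), ← n.sq, mul_assoc u, ← mul_assoc u b]; exact (k k6).2
    · rw [mul_assoc u, m (k k1).1, r, m (k k4).1, ← one_mul (a * b * c), ← n.sq, mul_assoc u u, ← mul_assoc u (a * b), ← mul_assoc u a]; exact (k k7).2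

/-- `exists_mx`, `Mx.syl` (so `d ∈ T`), `inner`: WLOG `d ∈ {u, u t}`, `u ∈ L`, `u ≠ 1`.  If `R u`: `zne` or done.  If `T` is Sylow in `C(t)`: `hz` gives `R u`.  Else `Mx.swap`, `pair`. -/
theorem step0 (i : Iv L R) (hd : d * t = t * d) (dt : d ≠ t) (e : g * d * g⁻¹ = t) : ∃ g w, R w ∧ g * t * g⁻¹ = t * w := by
  have aux : ∀ (d : G) (T : Subgroup G), d * t = t * d → d ≠ t → IsConj t d → IsPGroup 2 T → T ≤ 𝐂[t] → T ≤ 𝐂[d] → Mx t (Nat.card T) → (d ∈ L ∨ d * t ∈ L) →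
      ∃ g w, R w ∧ g * t * g⁻¹ = t * w := fun d T hd dt e hT h1 h2 m h => by
    obtain ⟨c, hc⟩ := isConj_iff.1 e
    have d2 := hc ▸ sq_cj x.t2 c
    obtain ⟨u, uL, k, u1, u2, uT⟩ : ∃ u ∈ L, (d = u ∨ d = u * t) ∧ u ≠ 1 ∧ u * u = 1 ∧ T ≤ 𝐂[u] := by
      rcases h with h | h
      · exact ⟨d, h, .inl rfl, fun k => x.tn (by rw [k, isConj_one_left] at e; exact e ▸ one_mem _), d2, h2⟩
      · exact ⟨_, h, .inr (by rw [mul_assoc, x.t2, mul_one]), fun k => dt (mul_right_cancel (k.trans x.t2.symm)),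
          by rw [mul_assoc, ← mul_assoc t, ← hd, mul_assoc, x.t2, mul_one, d2], le_cent1_iff.2 (mul_mem (le_cent1_iff.1 h2) (le_cent1_iff.1 h1))⟩
    by_cases r : R u
    · rcases k with rfl | rfl
      · exact absurd (by rw [← hc]; group) (x.zne (g := c⁻¹) i r)
      · exact ⟨c, u, r, hc.trans (x.tL u uL)⟩
    by_cases s : Syl 2 T 𝐂[t]
    · have s := x.syl_inf le_rfl s
      rw [inf_eq_left.2 x.LC] at s
      exact ((i.hz _ s u uL u2 (le_cent1_iff.1 (inf_le_left.trans uT))).elim u1 r).elim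
    obtain ⟨g, -, g1, g2⟩ := m.swap x.t2 hd dt e hT h1 h2 s
    exact x.pair i ⟨uL, u2, u1, r⟩ k g1 g2
  obtain ⟨d, T, hd, dt, e, hT, h1, h2, m⟩ := exists_mx hd dt (isConj_iff.2 ⟨g, e⟩).symm
  by_cases h : d ∈ L ∨ d * t ∈ L
  · exact aux d T hd dt e hT h1 h2 m h
  obtain ⟨c, hc⟩ := isConj_iff.1 e.symm
  obtain ⟨c', hc'⟩ := isConj_iff.1 e
  obtain ⟨d', k1, k2, k3, k4, k5, k6⟩ := x.inner hT h1 h2 ((m.syl (.refl t) e dt.symm hd.symm hT h1 h2).ge_of_norm_p'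
    (zpowers_le.2 ⟨mem_cent1.2 hd, self_mem_cent1 d⟩) (pg_inv (hc' ▸ sq_cj x.t2 c')) (norm_of_cent (zpowers_le.2 (le_cent1_iff.1 h2)))
    (mem_zpowers d)) hc (fun k => h (.inl k)) fun k => h (.inr k)
  exact aux d' _ k1 k2 k3 (Transfer.isPGroup_conj hT c) k4 k5 (Transfer.card_conj c T ▸ m) k6

end Ex

end Cfsg.Lib.OD
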