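import Cfsg.Agent.Lib.OD.Def

/-!
# OD: maximal pairs of commuting conjugate involutions; transport of `Iv`.
-/

set_option autoImplicit false

namespace Cfsg.Lib.OD

open Subgroup Cfsg.Lib.BG
open scoped Cfsg.Lib.Transfer commutatorElement

variable {G H : Type*} [Group G] [Group H] {t d : G} {T : Subgroup G}

theorem Cj.symm {X : Subgroup G} {a b : G} (h : Cj X a b) : Cj X b a := by
  obtain ⟨x, hx, rfl⟩ := h
  exact ⟨x⁻¹, inv_mem hx, by group⟩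
theorem Cj.trans {X : Subgroup G} {a b c : G} (h : Cj X a b) (h' : Cj X b c) : Cj X a c := by
  obtain ⟨x, hx, rfl⟩ := h
  obtain ⟨y, hy, rfl⟩ := h'
  exact ⟨y * x, mul_mem hy hx, by group⟩
theorem pg_inv (h : t * t = 1) : IsPGroup 2 (zpowers t) := fun ⟨_, n, rfl⟩ => ⟨1, Subtype.ext (by
  change (t ^ n) ^ 2 ^ 1 = 1
  rw [pow_one, ← zpow_natCast, ← zpow_mul, mul_comm, zpow_mul, zpow_natCast, pow_two, h, one_zpow])⟩

/-- `O = {(a b) ^ j x}` is invariant under `a` and `b` (`a (a b) ^ j x = (a b) ^ (-j) a x`), `|O|` is odd as the involution `a` has one fixed point on it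
(`Equiv.Perm.card_fixedPoints_modEq` or `Function.Involutive.card_fixedPoints`), so `b` fixes a point of `O`: `y = (a b) ^ j x`.  `c = (a b) ^ j a` is an involution. -/
theorem perm_swap {Ω : Type*} [Finite Ω] {a b : Equiv.Perm Ω} {x y : Ω} (a2 : a * a = 1) (b2 : b * b = 1) (ha : ∀ v, a v = v ↔ v = x)
    (hb : ∀ v, b v = v → v = y) : ∃ j : ℕ, ((a * b) ^ j * a) x = y ∧ ((a * b) ^ j * a) y = x := by
  have key : ∀ j : ℕ, (a * b) ^ j * a * (a * b) ^ j = a := fun j => by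
    induction j with
    | zero => simp
    | succ j ih =>
      rw [show (a * b) ^ (j + 1) * a * (a * b) ^ (j + 1) = a * b * ((a * b) ^ j * a * (a * b) ^ j) * (a * b) by
        rw [pow_succ' _ j]; nth_rw 2 [← pow_succ']; rw [pow_succ]; simp only [mul_assoc], ih, mul_assoc, ← mul_assoc a a, a2, one_mul,
        mul_assoc, b2, mul_one]
  have k : ∀ i j : ℕ, ((a * b) ^ (i + j)) x = x → a (((a * b) ^ i) x) = ((a * b) ^ j) x := fun i j h => ((a * b) ^ i).injective (by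
    rw [← Equiv.Perm.mul_apply, ← Equiv.Perm.mul_apply, key, (ha x).2 rfl, ← Equiv.Perm.mul_apply, ← pow_add, h])
  have ex : ∃ m, 0 < m ∧ ((a * b) ^ m) x = x := ⟨_, orderOf_pos _, by rw [pow_orderOf_eq_one]; rfl⟩
  classical
  obtain ⟨m0, hm⟩ := Nat.find_spec ex
  obtain ⟨j, e | e⟩ := Nat.even_or_odd' (Nat.find ex)
  · exact absurd ⟨by omega, (ha _).1 (k j j (by rwa [← two_mul, ← e]))⟩ (Nat.find_min ex (m := j) (by omega))
  have h := k (j + 1) j (by rwa [show j + 1 + j = Nat.find ex by omega])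
  rw [pow_succ', ← Equiv.Perm.mul_apply, ← mul_assoc, ← mul_assoc, a2, one_mul, Equiv.Perm.mul_apply] at h
  have h' : ((a * b) ^ j * a) x = y := by rw [Equiv.Perm.mul_apply, (ha x).2 rfl, hb _ h]
  exact ⟨j, h', by rw [← h', ← Equiv.Perm.mul_apply, ← mul_assoc, key, a2]; rfl⟩

/-- No `2`-subgroup centralizing two distinct commuting conjugates of `t` is larger than `n`. -/
def Mx (t : G) (n : ℕ) : Prop := ∀ (a b : G) (T : Subgroup G), IsConj t a → IsConj t b → a ≠ b → a * b = b * a → IsPGroup 2 T → T ≤ 𝐂[a] → T ≤ 𝐂[b] →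
  Nat.card T ≤ n

variable [Finite G] [Finite H]

/-- Take a triple `(a, b, T)` as in `Mx` with `|T|` maximal (`(t, d, ⊥)` is one) and conjugate `a` to `t`. -/
theorem exists_mx (hd : d * t = t * d) (dt : d ≠ t) (e : IsConj t d) :
    ∃ (d : G) (T : Subgroup G), d * t = t * d ∧ d ≠ t ∧ IsConj t d ∧ IsPGroup 2 T ∧ T ≤ 𝐂[t] ∧ T ≤ 𝐂[d] ∧ Mx t (Nat.card T) := by
  obtain ⟨⟨a, b, T⟩, ⟨h1, h2, h3, h4, h5, h6, h7⟩, m⟩ := Set.exists_max_image {x : G × G × Subgroup G | IsConj t x.1 ∧ IsConj t x.2.1 ∧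
    x.1 ≠ x.2.1 ∧ x.1 * x.2.1 = x.2.1 * x.1 ∧ IsPGroup 2 x.2.2 ∧ x.2.2 ≤ 𝐂[x.1] ∧ x.2.2 ≤ 𝐂[x.2.1]} (fun x => Nat.card x.2.2) (Set.toFinite _)
    ⟨(t, d, ⊥), .refl t, e, dt.symm, hd.symm, .of_bot, bot_le, bot_le⟩
  obtain ⟨c, hc⟩ := isConj_iff.1 h1.symm
  refine ⟨c * b * c⁻¹, c ⋆ T, ?_, fun k => h3 ?_, h2.trans (isConj_iff.2 ⟨c, rfl⟩), Transfer.isPGroup_conj h5 c, ?_, ?_,
    fun a' b' T' k1 k2 k3 k4 k5 k6 k7 => Transfer.card_conj c T ▸ m (a', b', T') ⟨k1, k2, k3, k4, k5, k6, k7⟩⟩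
  · rw [← hc, conj_mul, conj_mul]; exact congrArg (c * · * c⁻¹) h4.symm
  · exact (MulAut.conj c).injective (hc.trans k.symm)
  · rw [← hc, ← conj_cent1]; exact Transfer.conj_mono c h6
  · rw [← conj_cent1]; exact Transfer.conj_mono c h7

omit [Finite H] in
/-- `Syl.of_max`, `Subgroup.eq_of_le_of_card_ge`. -/
theorem Mx.syl (m : Mx t (Nat.card T)) {a b : G} (ha : IsConj t a) (hb : IsConj t b) (ab : a ≠ b) (c : a * b = b * a) (hT : IsPGroup 2 T)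
    (h1 : T ≤ 𝐂[a]) (h2 : T ≤ 𝐂[b]) : Syl 2 T (𝐂[a] ⊓ 𝐂[b]) := Syl.of_max (le_inf h1 h2) hT fun Q k1 k2 k3 =>
  (eq_of_le_of_card_ge k2 (m a b Q ha hb ab c k1 (k3.trans inf_le_left) (k3.trans inf_le_right))).ge

omit [Finite H] in
/-- `Δ = {a ~ t, a ∈ T, T ≤ C(a)}` contains `t, d` (`Mx.syl`, `Syl.ge_of_norm_p'` for `zpowers`); `N(T)` acts on it, `T` trivially.  For `a ∈ Δ`, `T` is not Sylow in
`C(a)` (conjugate to `C(t)`, `Syl.of_card_le'`), so there is a `2`-element `n_a ∈ C(a) ⊓ N(T) ∖ T` with `n_a² ∈ T` (`Syl.of_norm`; a Sylow `S > T` of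
`C(a) ⊓ N(T)`, `x ∈ S ∖ T`, the last `x ^ 2 ^ i ∉ T`).  If `n_a` fixes `b ≠ a` in `Δ` (they commute, both lie in `T`), `T ⊔ zpowers n_a ≤ S` contradicts `Mx`.  `perm_swap`. -/
theorem Mx.swap (m : Mx t (Nat.card T)) (t2 : t * t = 1) (hd : d * t = t * d) (dt : d ≠ t) (e : IsConj t d) (hT : IsPGroup 2 T) (h1 : T ≤ 𝐂[t]) (h2 : T ≤ 𝐂[d])
    (hS : ¬ Syl 2 T 𝐂[t]) : ∃ g ∈ 𝐍(T), g * t * g⁻¹ = d ∧ g * d * g⁻¹ = t := by
  have sq : ∀ (S : Subgroup G) (k : ℕ), ∀ x ∈ S, x ∉ T → x ^ 2 ^ k ∈ T → ∃ y ∈ S, y ∉ T ∧ y * y ∈ T := fun S k => by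
    induction k with
    | zero => exact fun x _ h h' => absurd (by simpa using h') h
    | succ k ih =>
      intro x hx h h'
      by_cases c : x * x ∈ T
      · exact ⟨x, hx, h, c⟩
      · exact ih _ (mul_mem hx hx) c (by rwa [← pow_two, ← pow_mul, ← pow_succ'])
  let Ω := {a : G // IsConj t a ∧ a ∈ T ∧ T ≤ 𝐂[a]}
  let _ : MulAction 𝐍(T) Ω :=
    { smul := fun n a => ⟨n * a * n⁻¹, a.2.1.trans (isConj_iff.2 ⟨_, rfl⟩), conj_mem_of_norm n.2 a.2.2.1, by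
        rw [coe_inv, ← conj_cent1]; exact (conj_eq_of_norm n.2).ge.trans (Transfer.conj_mono _ a.2.2.2)⟩
      one_smul := fun a => Subtype.ext (show (1 : G) * a * 1⁻¹ = a by simp)
      mul_smul := fun n n' a => Subtype.ext (show (n * n' : G) * a * (n * n' : G)⁻¹ = n * (n' * a * (n' : G)⁻¹) * (n : G)⁻¹ by group) }
  have sm : ∀ (n : 𝐍(T)) (a : Ω), (MulAction.toPermHom 𝐍(T) Ω n a).1 = n * a * (n : G)⁻¹ := fun _ _ => rfl
  have ex : ∀ a : Ω, ∃ n : 𝐍(T), MulAction.toPermHom 𝐍(T) Ω n * MulAction.toPermHom 𝐍(T) Ω n = 1 ∧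
      ∀ v, MulAction.toPermHom 𝐍(T) Ω n v = v ↔ v = a := fun ⟨a, a1, a2, a3⟩ => by
    obtain ⟨S, s1, s2⟩ := Syl.exists_ge hT (le_inf a3 (le_norm T))
    obtain ⟨x, hx, xT⟩ := SetLike.exists_of_lt (s2.lt_of_ne fun k => hS (by
      obtain ⟨c, hc⟩ := isConj_iff.1 a1.symm
      rw [← k] at s1
      have := Hall.conj s1.of_norm c
      rw [conj_cent1, hc] at this
      exact Syl.of_card_le' this hT h1 (Transfer.card_conj c T).le))
    obtain ⟨k, hk⟩ := s1.pgroup ⟨x, hx⟩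
    obtain ⟨n, hn, nT, n2⟩ := sq S k x hx xT (by rw [show x ^ 2 ^ k = 1 from congrArg Subtype.val hk]; exact one_mem _)
    refine ⟨⟨n, (s1.le hn).2⟩, Equiv.ext fun v => Subtype.ext ?_, fun v => ⟨fun k => by_contra fun c => nT ?_, ?_⟩⟩
    · rw [← map_mul, sm, mul_inv_eq_iff_eq_mul]; exact mem_cent1.1 (v.2.2.2 n2)
    · rw [(m.syl v.2.1 a1 (fun k => c (Subtype.ext k)) (mem_cent1.1 (a3 v.2.2.1)) hT v.2.2.2 a3).eq_of_le_pgroup (le_inf s2 v.2.2.2)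
        (le_inf inf_le_right (inf_le_left.trans (s1.le.trans inf_le_left))) s1.pgroup.to_inf_left]
      exact ⟨hn, mem_cent1.2 (mul_inv_eq_iff_eq_mul.1 (congrArg Subtype.val k))⟩
    · rintro rfl
      exact Subtype.ext (mul_inv_eq_iff_eq_mul.2 (mem_cent1.1 (s1.le hn).1))
  have s := m.syl (.refl t) e dt.symm hd.symm hT h1 h2
  have d2 : d * d = 1 := by obtain ⟨c, rfl⟩ := isConj_iff.1 e; rw [conj_mul, t2]; simp
  have mem : ∀ a, a * a = 1 → a ∈ 𝐂[t] ⊓ 𝐂[d] → T ≤ 𝐂[a] → a ∈ T := fun a a2 k k' => s.ge_of_norm_p' (zpowers_le.2 k) (pg_inv a2)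
    (norm_of_cent (zpowers_le.2 (le_cent1_iff.1 k'))) (mem_zpowers a)
  obtain ⟨a, a2, ha⟩ := ex ⟨t, .refl t, mem t t2 ⟨self_mem_cent1 t, mem_cent1.2 hd.symm⟩ h1, h1⟩
  obtain ⟨b, b2, hb⟩ := ex ⟨d, e, mem d d2 ⟨mem_cent1.2 hd, self_mem_cent1 d⟩ h2, h2⟩
  obtain ⟨j, k1, k2⟩ := perm_swap a2 b2 ha fun v => (hb v).1
  rw [← map_mul, ← map_pow, ← map_mul] at k1 k2
  exact ⟨_, ((a * b) ^ j * a).2, congrArg Subtype.val k1, congrArg Subtype.val k2⟩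

section Map
variable {K : Type*} [Group K] {f : K →* G} (hf : Function.Injective f) {R : K → Prop} {X P : Subgroup K} {u w a : K}
include hf
omit [Finite G] [Finite H]

/-- The image of a class. -/
def im (f : K →* G) (R : K → Prop) (g : G) : Prop := ∃ x, R x ∧ f x = g

theorem im_ap : im f R (f u) ↔ R u := ⟨fun ⟨_, h, e⟩ => hf e ▸ h, fun h => ⟨_, h, rfl⟩⟩
theorem cen_map : map f ⊤ ⊓ 𝐂[f u] = map f 𝐂[u] := by
  refine le_antisymm ?_ (le_inf (map_mono le_top) ?_)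
  · rintro _ ⟨⟨x, -, rfl⟩, h⟩
    exact ⟨x, mem_cent1.2 (hf (by simpa using mem_cent1.1 h)), rfl⟩
  · rintro _ ⟨x, h, rfl⟩
    exact mem_cent1.2 (by rw [← map_mul, mem_cent1.1 h, map_mul])
theorem cent_map : f w ∈ 𝐂(map f P) ↔ w ∈ 𝐂(P) := ⟨fun h x hx => hf (by simpa using h _ ⟨x, hx, rfl⟩), fun h => by
  rintro _ ⟨x, hx, rfl⟩
  rw [← map_mul, h x hx, map_mul]⟩
theorem sq_map : f u * f u = 1 ↔ u * u = 1 := by rw [← map_mul, map_eq_one_iff f hf]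
theorem cj_map : Cj (map f X) (f w) (f a) ↔ Cj X w a := ⟨by
  rintro ⟨_, ⟨x, hx, rfl⟩, e⟩
  exact ⟨x, hx, hf (by simpa using e)⟩, fun ⟨x, hx, e⟩ => ⟨f x, ⟨x, hx, rfl⟩, by simp [← e]⟩⟩
theorem fu_map : Fu (map f X) (f w) ↔ Fu X w := ⟨by
  rintro ⟨h1, h2, _, ⟨a, ha, rfl⟩, _, ⟨b, hb, rfl⟩, e⟩
  exact ⟨(mem_map_iff_mem hf).1 h1, (sq_map hf).1 h2, a, ha, b, hb, hf (by simpa using e)⟩, fun ⟨h1, h2, a, ha, b, hb, e⟩ =>
  ⟨⟨w, h1, rfl⟩, (sq_map hf).2 h2, _, ⟨a, ha, rfl⟩, _, ⟨b, hb, rfl⟩, by simpa using congrArg f e⟩⟩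
omit hf in
theorem le_map_top {P : Subgroup G} (h : P ≤ map f X) : ∃ P', map f P' = P :=
  ⟨P.comap f, map_comap_eq_self (h.trans (map_le_range f X))⟩
theorem yc_map : Yc (map f ⊤) (im f R) (f u) (f w) ↔ R w ∧ ∃ P, Syl 2 P 𝐂[u] ∧ w ∈ 𝐂(P) := by
  rw [Yc, im_ap hf, cen_map hf]
  refine and_congr_right fun _ => ⟨fun ⟨P, h1, h2⟩ => ?_, fun ⟨P, h1, h2⟩ => ⟨_, Hall.map h1 f, (cent_map hf).2 h2⟩⟩
  obtain ⟨P, rfl⟩ := le_map_top h1.le
  exact ⟨P, (Hall.map_iff hf).1 h1, (cent_map hf).1 h2⟩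
theorem nr_map : Nr (map f ⊤) (im f R) (f u) ↔ Nr ⊤ R u :=
  ⟨fun h => ⟨trivial, (sq_map hf).1 h.sq, fun e => h.ne (by rw [e, map_one]), mt (im_ap hf).2 h.nr⟩,
    fun h => ⟨⟨u, trivial, rfl⟩, (sq_map hf).2 h.sq, mt (map_eq_one_iff f hf).1 h.ne, mt (im_ap hf).1 h.nr⟩⟩
theorem cfg_map : Cfg (map f ⊤ ⊓ 𝐂[f u]) (f u) (f w) ↔ Cfg 𝐂[u] u w := by
  rw [cen_map hf]
  refine ⟨fun ⟨a, b, c, h⟩ => ?_, fun ⟨a, b, c, h⟩ => ⟨f a, f b, f c, by simpa only [← map_mul, cj_map hf] using h⟩⟩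
  have k : ∀ {a}, Cj (map f 𝐂[u]) (f w) a → ∃ x, f x = a := by rintro _ ⟨_, ⟨x, -, rfl⟩, rfl⟩; exact ⟨x * w * x⁻¹, by simp⟩
  obtain ⟨a, rfl⟩ := k h.1
  obtain ⟨b, rfl⟩ := k h.2.1
  obtain ⟨c, rfl⟩ := k h.2.2.1
  exact ⟨a, b, c, by simpa only [← map_mul, cj_map hf] using h⟩

theorem Iv.span {g : K →* H} (hg : Function.Injective g) (i : Iv (map g ⊤) (im g R)) : Iv (map f ⊤) (im f R) where
  mem := by rintro _ ⟨x, -, rfl⟩; exact ⟨x, trivial, rfl⟩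
  sq := by rintro _ ⟨x, h, rfl⟩; exact (sq_map hf).2 ((sq_map hg).1 (i.sq _ ⟨x, h, rfl⟩))
  ne := by rintro _ ⟨x, h, rfl⟩ e; exact i.ne _ ⟨x, h, rfl⟩ (by rw [(map_eq_one_iff f hf).1 e, map_one])
  ex := by obtain ⟨_, x, h, rfl⟩ := i.ex; exact ⟨_, x, h, rfl⟩
  cj := by
    rintro _ ⟨w, h, rfl⟩ _ ⟨x, -, rfl⟩
    have := i.cj _ ⟨w, h, rfl⟩ _ ⟨x, trivial, rfl⟩
    rwa [← map_inv, ← map_mul, ← map_mul, im_ap ‹_›] at this ⊢
  b0 := by
    rintro _ ⟨w, h, rfl⟩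
    obtain ⟨x, y, h1, h2, e⟩ := i.b0 _ ⟨w, h, rfl⟩
    obtain ⟨x, -, rfl⟩ := h1.1.1
    obtain ⟨y, -, rfl⟩ := h2.1.1
    rw [cen_map hg, fu_map hg, ← fu_map hf, ← cen_map hf] at h1 h2
    exact ⟨_, _, h1, h2, by rw [← map_commutatorElement, ← hg (e.trans (map_commutatorElement ..).symm)]⟩
  hz := by
    rintro P h _ ⟨a, -, rfl⟩ h1 h2
    obtain ⟨P, rfl⟩ := le_map_top h.le
    simpa only [map_eq_one_iff f hf, map_eq_one_iff g hg, im_ap hf, im_ap hg] using i.hz _ (((Hall.map_iff hf).1 h).map g) _ ⟨a, trivial, rfl⟩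
      ((sq_map hg).2 ((sq_map hf).1 h1)) ((cent_map hg).2 ((cent_map hf).1 h2))
  b1 := by
    rintro u n P h _ ⟨a, -, rfl⟩ h1 h2
    obtain ⟨u, -, rfl⟩ := n.mem
    rw [cen_map hf] at h
    obtain ⟨P, rfl⟩ := le_map_top h.le
    simpa only [map_eq_one_iff f hf, map_eq_one_iff g hg, im_ap hf, im_ap hg, cj_map hf, cj_map hg] using
      i.b1 _ ((nr_map hg).2 ((nr_map hf).1 n)) _ (cen_map hg ▸ ((Hall.map_iff hf).1 h).map g) _ ⟨a, trivial, rfl⟩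
        ((sq_map hg).2 ((sq_map hf).1 h1)) ((cent_map hg).2 ((cent_map hf).1 h2))
  b2 := by
    rintro u n w y
    obtain ⟨u, -, rfl⟩ := n.mem
    obtain ⟨w, -, rfl⟩ := y.1
    simpa only [← map_mul, cj_map hf, cj_map hg] using i.b2 _ ((nr_map hg).2 ((nr_map hf).1 n)) _ ((yc_map hg).2 ((yc_map hf).1 y))
  b3 := by
    rintro u n w y
    obtain ⟨u, -, rfl⟩ := n.mem
    obtain ⟨w, -, rfl⟩ := y.1
    simpa only [cen_map hf, cen_map hg, fu_map hf, fu_map hg] using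
      i.b3 _ ((nr_map hg).2 ((nr_map hf).1 n)) _ ((yc_map hg).2 ((yc_map hf).1 y))
  b4 := by
    rintro u n
    obtain ⟨u, -, rfl⟩ := n.mem
    refine (i.b4 _ ((nr_map hg).2 ((nr_map hf).1 n))).imp (fun k a b c ha hb hc => ?_) (.imp (fun k w y => ?_) fun k a b c ha hb hc => ?_)
    pick_goal 2
    · obtain ⟨w, -, rfl⟩ := y.1
      exact (cfg_map hf).2 ((cfg_map hg).1 (k _ ((yc_map hg).2 ((yc_map hf).1 y))))
    all_goals
      obtain ⟨a, -, rfl⟩ := ha.1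
      obtain ⟨b, -, rfl⟩ := hb.1
      obtain ⟨c, -, rfl⟩ := hc.1
      have := k (g a) (g b) (g c)
      simp only [← map_mul, yc_map hf, yc_map hg, hf.ne_iff, hg.ne_iff] at this ha hb hc ⊢
      exact this ha hb hc

end Map

/-- Every element of `L` is `(e x).1`; subgroups `P ≤ L` correspond to `(P.comap (L.subtype.comp e)).map L₀.subtype` (`Hall.map_iff` twice).  Prove first:
`Syl`, `Cj`, `Fu`, `Yc`, `Nr`, `Cfg` correspond. -/
theorem Iv.transport {L₀ : Subgroup H} {R₀ : H → Prop} (i : Iv L₀ R₀) {L : Subgroup G} (e : L₀ ≃* L) :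
    Iv L (fun g => ∃ x : L₀, R₀ x ∧ (e x : G) = g) := by
  have := Iv.span (f := L.subtype.comp e.toMonoidHom) (L.subtype_injective.comp e.injective) (R := fun x => R₀ x) L₀.subtype_injective (by
    rwa [← MonoidHom.range_eq_map, range_subtype, show im L₀.subtype (fun x => R₀ x) = R₀ from funext fun w => propext
      ⟨fun ⟨_, h, e⟩ => e ▸ h, fun h => ⟨⟨w, i.mem w h⟩, h, rfl⟩⟩])
  rwa [← map_map, map_top_of_surjective _ e.surjective, ← MonoidHom.range_eq_map, range_subtype] at this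

end Cfsg.Lib.OD
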