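import Cfsg.Agent.Lib.OD.G3
import Cfsg.Agent.Lib.OD.Sw

/-!
# OD: the type `c₂`, and `Iv (Om Q) Lng`.  Notation as in `G1`; `X = Ω ⊓ C(u)`.
-/

set_option autoImplicit false
set_option linter.unusedSectionVars false

namespace Cfsg.Lib.OD

open Subgroup Cfsg.Lib.BG Cfsg.Lib.Orth QuadraticMap Module
open scoped Cfsg.Lib.Transfer commutatorElement

variable {F V : Type*} [Field F] [Finite F] [CharP F 2] [AddCommGroup V] [Module F V] [FiniteDimensional F V] {Q : QuadraticForm F V}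
  {u a b c' z : O Q} {e m m' x y w y₁ : V}

/-- `u = E(y, w)` of type `c₂`. -/
structure C2 (u : O Q) (y w : V) : Prop extends Gq Q where
  y0 : y ≠ 0
  qy : Q y = 0
  qw : Q w ≠ 0
  yw : polar Q y w = 0
  eq : u = eich Q y w

/-- `a = E(y, m)`, `m ⊥ w`, a long root element. -/
def S2 (y w : V) (a : O Q) : Prop := ∃ m, polar Q w m = 0 ∧ IsLine Q y m ∧ a = eich Q y m

/-- As in `St1.cen_2`, `u` commutes with all `E(y, z)`: `eq_eich`; `w` singular would give `u ∈ longSet` with totally singular `[V, u]`. -/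
theorem Gq.c2 (q : Gq Q) (u2 : u * u = 1) (c : Ch u y₁) (y0 : nl u y₁ ≠ 0) (h2 : finrank F (O.comm u) = 2) : ∃ w, C2 u (nl u y₁) w := by
  obtain ⟨w, h, e⟩ := q.eq_eich c.q0 y0 (nl_zero.1 (nl_nl u2 _)) fun m hm => c.cm q u2 y0 h2 hm
  refine ⟨w, q, y0, c.q0, fun k => y0 (q.nd.eq_zero fun x => pow_eq_zero_iff two_ne_zero |>.1 ?_), h, e⟩
  rw [← c.sq]
  exact ts_comm_of_mem_longSet (t := u) (by rw [e]; exact eich_mem_longSet c.q0 k h) _ (nl_mem u x)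

namespace C2
variable (c : C2 u y w)
include c

theorem gq : Gq Q := c.toGq
theorem wy : w ∉ F ∙ y := fun k => c.qw (ts_span_singleton c.qy w k)
theorem wy0 : polar Q w y = 0 := (polar_comm ..).trans c.yw
theorem cm (h : polar Q y m = 0) : eich Q y m * u = u * eich Q y m := c.eq ▸ eich_comm c.qy h c.yw
theorem nmem (h : IsLine Q y m) : m ∉ Submodule.span F {y, w} := fun k => by
  obtain ⟨α, β, rfl⟩ := Submodule.mem_span_pair.1 k
  have := h.right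
  rw [add_comm, Q_add_smul_of_singular c.qy (by rw [polar_smul_right', c.yw, mul_zero]), Q_smul, mul_eq_zero_iff_right c.qw,
    pow_eq_zero_iff two_ne_zero] at this
  exact h.notMem (by rw [this, zero_smul, add_zero]; exact sm_self _ _)
theorem s2_of (h1 : Q m = 0) (h2 : polar Q y m = 0) (h3 : polar Q w m = 0) (h4 : polar Q y x = 0) (h5 : polar Q m x ≠ 0) :
    S2 y w (eich Q y m) := ⟨m, h3, ⟨c.qy, h1, h2, c.y0, fun k => by
  obtain ⟨l, rfl⟩ := Submodule.mem_span_singleton.1 k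
  exact h5 (by rw [polar_smul_left', h4, mul_zero])⟩, rfl⟩
theorem tr0 (h1 : polar Q w m = 0) (h : IsLine Q y m) (h1' : polar Q w m' = 0) (h' : IsLine Q y m') (k : polar Q m m' ≠ 0) :
    Cj (Om Q ⊓ 𝐂[u]) (eich Q y m) (eich Q y m') := by
  have n : Q (m - m') ≠ 0 := by rwa [sub_eq F, Q_add, h.right, h'.right, zero_add, zero_add]
  have o : ∀ x, polar Q x m = 0 → polar Q x m' = 0 → polar Q w x = 0 → (refl Q (m - m') * refl Q w).1 x = x := fun x k1 k2 k3 => by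
    rw [O.mul_apply, refl_apply_of_perp k3, refl_apply_of_perp (by rw [polar_comm, polar_sub_right, k1, k2, sub_zero])]
  have oy := o y h.perp h'.perp c.wy0
  refine ⟨_, memX (c.gq.refl_mem n c.qw) (c.eq ▸ (eich_cm oy (o w h1 h1' (pp w))).symm), ?_⟩
  rw [conj_eich, oy, O.mul_apply, refl_apply_of_perp h1, refl_sub_apply (h.right.trans h'.right.symm) n]
theorem cme : O.comm u = Submodule.span F {y, w} := c.eq ▸ c.gq.comm_eich c.qy c.y0 c.yw c.wy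
theorem fr : finrank F (O.comm u) = 2 := by
  rw [c.cme, Submodule.span_insert, finrank_sup_span_singleton' c.wy, finrank_span_singleton c.y0]
theorem nts : ¬ TS Q (O.comm u) := fun t => c.qw (t w (c.cme ▸ Submodule.subset_span (by simp)))

/-- `Gq.comm_eich`, `O.perp_comm`. -/
theorem fix_iff : x ∈ O.fix u ↔ polar Q y x = 0 ∧ polar Q w x = 0 := by
  rw [← O.perp_comm c.nd, c.cme, mem_perp_pair]

omit c in
/-- `λ² Q w = Q x`, squaring is onto. -/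
theorem sing (hw : Q w ≠ 0) (h : polar Q w x = 0) : ∃ l : F, Q (x + l • w) = 0 := sing_ex hw h

/-- `m, m' ∉ W = ⟨y, w⟩` (a singular vector of `W` lies in `⟨y⟩`).  If `B(m, m') ≠ 0`: `refl (m + m') * refl w ∈ X` maps `m` to `m'` and fixes `y`.  In general take `x ∈ W^⊥` with
`B(m, x) ≠ 0 ≠ B(m', x)` (one of `x₁, x₂, x₁ + x₂`), make it singular (`sing`). -/
theorem tr (ha : S2 y w a) (hb : S2 y w b) : Cj (Om Q ⊓ 𝐂[u]) a b := by
  obtain ⟨m, h1, h, rfl⟩ := ha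
  obtain ⟨m', h1', h', rfl⟩ := hb
  obtain ⟨x, hx, k, k'⟩ : ∃ x ∈ perp Q (Submodule.span F {y, w}), polar Q m x ≠ 0 ∧ polar Q m' x ≠ 0 := by
    obtain ⟨x, hx, k⟩ := exists_perp_polar_eq c.nd (c.nmem h) 1
    obtain ⟨x', hx', k'⟩ := exists_perp_polar_eq c.nd (c.nmem h') 1
    by_cases e : polar Q m' x = 0
    · by_cases e' : polar Q m x' = 0
      · exact ⟨_, add_mem hx hx', by simp [k, e'], by simp [k', e]⟩
      · exact ⟨x', hx', e', k' ▸ one_ne_zero⟩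
    · exact ⟨x, hx, k ▸ one_ne_zero, e⟩
  rw [mem_perp_pair] at hx
  obtain ⟨l, hl⟩ := sing c.qw hx.2
  have a : ∀ v, polar Q v w = 0 → polar Q v (x + l • w) = polar Q v x := fun v k => by simp [polar_smul_right', k]
  have a1 := (a w (pp w)).trans hx.2
  have a2 := (a m ((polar_comm ..).trans h1)).trans_ne k
  obtain ⟨_, -, l', -⟩ : ∃ z, z = x + l • w ∧ IsLine Q y (x + l • w) ∧ True := ⟨_, rfl, ⟨c.qy, hl, (a y c.yw).trans hx.1, c.y0, fun k => by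
    obtain ⟨r, k⟩ := Submodule.mem_span_singleton.1 k
    exact a2 (by rw [← k, polar_smul_right', polar_comm, h.perp, mul_zero])⟩, trivial⟩
  exact (c.tr0 h1 h a1 l' a2).trans (c.tr0 h1' h' a1 l' ((a m' ((polar_comm ..).trans h1')).trans_ne k')).symm

/-- `U = ⟨y, w, m⟩^⊥` has dimension `≥ 5`, `U^⊥` dimension `≤ 3`; `x ∈ U ∖ U^⊥`, `x' ∈ U`, `B(x, x') = Q w`; `sing`. -/
theorem exists_pair (h1 : polar Q w m = 0) (h : IsLine Q y m) : ∃ x x', Q x = 0 ∧ Q x' = 0 ∧ polar Q x x' = Q w ∧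
    (∀ v ∈ [y, w, m], polar Q v x = 0 ∧ polar Q v x' = 0) := by
  let A := Submodule.span F {y, w} ⊔ F ∙ m
  have hA : finrank F A ≤ 3 := (Submodule.finrank_add_le_finrank_add_finrank _ _).trans
    (add_le_add (finrank_span_pair_le _ _) (Gq.fr1 _))
  have := finrank_add_finrank_perp c.nd A
  have := c.dim
  obtain ⟨x, hx, n⟩ := Gq.exists_nmem (W := perp Q A) (W' := A) (by omega)
  obtain ⟨x', hx', k⟩ := exists_perp_polar_eq c.nd n (Q w)
  have p : ∀ {x}, x ∈ perp Q A → polar Q y x = 0 ∧ polar Q w x = 0 ∧ polar Q m x = 0 := fun hx => by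
    rw [perp_sup, Submodule.mem_inf, mem_perp_pair, mem_perp_singleton] at hx
    exact ⟨hx.1.1, hx.1.2, hx.2⟩
  obtain ⟨l, hl⟩ := sing c.qw (p hx).2.1
  obtain ⟨l', hl'⟩ := sing c.qw (p hx').2.1
  refine ⟨_, _, hl, hl', ?_, ?_⟩ <;>
  simp [polar_smul_left', polar_smul_right', p hx, p hx', k, two0 (F := F), c.yw, polar_comm _ x w, polar_comm _ m w, h1]

/-- `a = E(y, m) = E(m, y)`, `y = N v` with `v ⊥ m, w`, `B(y, v) (w + Q w y) + B(w, v) y = y`: `v ⊥ y, m` and `B(w, v) = 1` (`w ∉ ⟨y, m⟩`); `Gq.b2_of`. -/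
theorem b2 (ha : S2 y w a) : Cj (Om Q) u (u * a) := by
  obtain ⟨m, h1, h, rfl⟩ := ha
  obtain ⟨v, hv, k⟩ := exists_perp_polar_eq c.nd (u := w) (W := Submodule.span F {y, m}) (fun k => c.qw (h.ts w k)) 1
  rw [mem_perp_pair] at hv
  have := c.gq.b2_of (O.mem_fix.1 (c.fix_iff.2 ⟨h.perp, h1⟩)) h.right hv.2
  rwa [show nl u v = y by rw [c.eq, nl_eich' c.qy c.yw hv.1, k, one_smul], eich_sw h.left h.right h.perp] at this

/-- `E(y, x)`, `E(y, m + x)` from `exists_pair`, `tr`. -/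
theorem b3 (ha : S2 y w a) : Fu (Om Q ⊓ 𝐂[u]) a := by
  obtain ⟨m, h1, h, rfl⟩ := id ha
  obtain ⟨x, x', q1, q2, k, o⟩ := c.exists_pair h1 h
  simp only [List.mem_cons, List.not_mem_nil, or_false, forall_eq_or_imp, forall_eq] at o
  obtain ⟨a, a1, a2⟩ := c.tr ha (c.s2_of q1 o.1.1 o.2.1.1 o.1.2 (k ▸ c.qw))
  obtain ⟨b, b1, b2⟩ := c.tr ha (c.s2_of (m := m + x) (x := x') (by simp [Q_add, h.right, q1, o]) (by simp [h.perp, o]) (by simp [h1, o]) o.1.2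
    (by simp [o, k, c.qw]))
  exact ⟨memX (c.gq.eich_mem _ _) (c.cm h.perp), eich_sq _ _, a, a1, b, b1, by rw [a2, b2, eich_add c.qy h.perp o.1.1]⟩

/-- `a = E(y, m)`, `b = E(y, x)`, `c = E(y, x')`; `w + x + x'` and `w + m + x + x'` are singular, `⊥ w`, not in `⟨y⟩` (pair with `x`); `tr`. -/
theorem cfg (ha : S2 y w a) : Cfg (Om Q ⊓ 𝐂[u]) u a := by
  have two : (2 : F) = 0 := two0
  obtain ⟨m, h1, h, rfl⟩ := id ha
  obtain ⟨x, x', q1, q2, k, o⟩ := c.exists_pair h1 h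
  simp only [List.mem_cons, List.not_mem_nil, or_false, forall_eq_or_imp, forall_eq] at o
  have g := And.intro (And.intro o (And.intro q1 (And.intro q2 (And.intro k ((polar_comm ..).trans k)))))
    (And.intro h.right (And.intro h.perp (And.intro h1 (And.intro c.yw (And.intro c.qw two)))))
  have ad := fun a b => eich_add (Q := Q) (z := a) (z' := b) c.qy
  refine ⟨_, eich Q y x, eich Q y x', .refl _ _, c.tr ha (c.s2_of (x := x') ?_ ?_ ?_ ?_ ?_), c.tr ha (c.s2_of (x := x) ?_ ?_ ?_ ?_ ?_),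
    ad m x ?_ ?_ ▸ c.tr ha (c.s2_of (x := x') ?_ ?_ ?_ ?_ ?_), ad m x' ?_ ?_ ▸ c.tr ha (c.s2_of (x := x) ?_ ?_ ?_ ?_ ?_), ?_, ?_⟩
  pick_goal 25
  · nth_rw 2 [c.eq]
    rw [← ad, ← ad]
    refine c.tr ha (c.s2_of (x := x) ?_ ?_ ?_ ?_ ?_)
    all_goals simp [Q_add, g, ← two_mul, two]
  pick_goal 25
  · nth_rw 2 [c.eq]
    rw [← ad, ← ad, ← ad]
    refine c.tr ha (c.s2_of (x := x) ?_ ?_ ?_ ?_ ?_)
    all_goals simp [Q_add, g, ← two_mul, two]
  all_goals simp [Q_add, g]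

/-- `Lng (E(y, m))` forces `Q m = 0` (`Lng.ts`, `Q_eq_zero_of_ts_comm_eich`): `B(α, β) = B(α, γ) = Q w`, `B(β, γ) = 0`, `Q (w + α + β + γ) = Q w`. -/
theorem b4 (ha : S2 y w a) (hb : S2 y w b) (hc : S2 y w c') (h1 : Lng (u * a * b)) (h2 : Lng (u * a * c')) (h3 : Lng (b * c')) : ¬ Lng (u * a * b * c') := fun h4 => by
  have two : (2 : F) = 0 := two0
  obtain ⟨α, a1, a2, rfl⟩ := ha
  obtain ⟨β, b1, b2, rfl⟩ := hb
  obtain ⟨γ, c1, c2, rfl⟩ := hc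
  have k : ∀ m, polar Q y m = 0 → Lng (eich Q y m) → Q m = 0 := fun m h l => Q_eq_zero_of_ts_comm_eich c.nd c.qy c.y0 h l.ts
  have g := And.intro c.yw (And.intro a2.perp (And.intro b2.perp c2.perp))
  have ad := fun a b => eich_add (Q := Q) (z := a) (z' := b) c.qy
  rw [c.eq] at h1 h2 h4
  rw [← ad _ _ g.1 g.2.1] at h1 h2 h4
  rw [← ad _ _ (by simp [g]) (by simp [g])] at h1 h2 h3 h4
  rw [← ad _ _ (by simp [g]) (by simp [g])] at h4
  have k1 := k _ (by simp [g]) h1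
  have k2 := k _ (by simp [g]) h2
  have k3 := k _ (by simp [g]) h3
  have k4 := k _ (by simp [g]) h4
  simp only [Q_add, polar_add_left, a1, b1, c1, a2.right, b2.right, c2.right] at k1 k2 k3 k4
  exact c.qw (by grind)

end C2

namespace Gq
variable (q : Gq Q)
include q

theorem fu0 {e₁ e₂ f₁ f₂ : V} (l : IsLine Q e₁ e₂) (h1 : polar Q f₁ e₁ = 1) (h2 : polar Q f₂ e₂ = 1) (h3 : polar Q e₂ f₁ = 0) (h4 : polar Q e₁ f₂ = 0)
    (qx : Q x = 0) (o1 : polar Q e₁ x = 0) (o2 : polar Q e₂ x = 0) (o3 : polar Q f₁ x = 0) (o4 : polar Q f₂ x = 0) :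
    Fu (Om Q ⊓ 𝐂[eich Q e₁ e₂]) (eich Q e₁ x) := by
  have s1 : (eich Q e₂ f₁).1 e₁ = e₁ + e₂ := by rw [eich_apply_of_perp l.right h3 l.symm.perp, h1, one_smul]
  have s2 : (eich Q e₁ f₂).1 e₂ = e₂ + e₁ := by rw [eich_apply_of_perp l.left h4 l.perp, h2, one_smul]
  have s3 : (eich Q e₂ f₁).1 x = x := by rw [eich_apply_of_perp l.right h3 o2, o3, zero_smul, add_zero]
  have s4 : (eich Q e₁ f₂).1 x = x := by rw [eich_apply_of_perp l.left h4 o1, o4, zero_smul, add_zero]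
  have m1 : eich Q e₂ f₁ ∈ Om Q ⊓ 𝐂[eich Q e₁ e₂] := memX (q.eich_mem _ _) (by
    rw [← mul_inv_eq_iff_eq_mul, ← eich_sw l.left l.right l.perp, conj_eich, s1, eich_apply_self l.right h3,
      ← eich_add_smul_self l.right l.symm.perp 1, one_smul])
  have m2 : eich Q e₁ f₂ ∈ Om Q ⊓ 𝐂[eich Q e₁ e₂] := memX (q.eich_mem _ _) (by
    rw [← mul_inv_eq_iff_eq_mul, conj_eich, s2, eich_apply_self l.left h4, ← eich_add_smul_self l.left l.perp 1, one_smul])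
  have c : ∀ {v}, polar Q v x = 0 → polar Q x v = 0 := fun k => (polar_comm ..).trans k
  refine ⟨memX (q.eich_mem _ _) (eich_comm l.left o1 l.perp), eich_sq _ _, _, mul_mem m2 m1, _, m1, ?_⟩
  rw [conj_eich, conj_eich, O.mul_apply, O.mul_apply, s1, s3, s4, map_add, s2, eich_apply_self l.left h4, add_left_comm, vv F, add_zero,
    eich_sw qx l.left (c o1), eich_sw qx l.right (c o2), eich_sw qx (by rw [Q_add, l.left, l.right, l.perp]; simp) (by simp [c o1, c o2]),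
    eich_add qx (c o1) (c o2)]

/-- `z = E(e₁, e₂)`; `f₁, f₂` with `B(e_i, f_j) = δ_{ij}`, singular and orthogonal (`exists_isHyp_perp`), a hyperbolic pair `e₃, f₃` orthogonal to them (`exists_isHyp_mem`, dimension `≥ 4`).
`x = E(e₁, e₃)`, `y = E(e₂, f₃)`, `[y, x] = E(e₁, e₂)` (`commutator_eich`).  `s = E(e₂, f₁)`: `e₁ ↦ e₁ + e₂`, fixes `e₂, e₃, f₃`; `s' = E(e₁, f₂)`: `e₂ ↦ e₁ + e₂`; both centralize `z`
(`eich_add_smul_self`, `eich_sw`), and so does `n = s s' s` (swaps `e₁, e₂`): `s x s⁻¹ = E(e₃, e₁ + e₂) = x (n x n⁻¹)`; the same for `y`. -/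
theorem b0 (h : Lng z) : ∃ x y, Fu (Om Q ⊓ 𝐂[z]) x ∧ Fu (Om Q ⊓ 𝐂[z]) y ∧ z = ⁅x, y⁆ := by
  obtain ⟨e₁, e₂, l, rfl⟩ := h
  obtain ⟨f₁, k1, h1⟩ := exists_isHyp_perp q.nd l.left l.symm.notMem (mem_perp_singleton.2 l.symm.perp)
  rw [mem_perp_singleton] at k1
  have m : e₂ ∈ hperp Q e₁ f₁ := mem_hperp.2 ⟨l.perp, (polar_comm ..).trans k1⟩
  obtain ⟨f₂, k2, h2⟩ := exists_isHyp_perp q.nd l.right (W := Submodule.span F {e₁, f₁})
    (fun k => l.ne' (Submodule.disjoint_def.1 (nd_restrict_iff_disjoint.1 h1.nd_span) _ k m)) m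
  obtain ⟨x, hx, y, hy, h3⟩ := exists_isHyp_mem (h1.nd_inf q.nd h2 m k2) (by
    have := finrank_inf_hperp q.nd (hperp Q e₁ f₁) e₂ f₂
    have := h1.finrank_hperp q.nd
    have := q.dim
    omega)
  simp only [Submodule.mem_inf, mem_hperp] at hx hy
  rw [mem_perp_pair] at k2
  refine ⟨eich Q e₂ y, eich Q e₁ x, eich_sw l.left l.right l.perp ▸ q.fu0 l.symm h2.polar_eq' h1.polar_eq' k2.1 k1 h3.right hy.2.1 hy.1.1 hy.2.2 hy.1.2,
    q.fu0 l h1.polar_eq' h2.polar_eq' k1 k2.1 h3.left hx.1.1 hx.2.1 hx.1.2 hx.2.2, ?_⟩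
  rw [commutator_eich l.left hx.1.1 (by rw [eich_apply_of_perp l.right hy.2.1 l.symm.perp, polar_comm, hy.1.1, zero_smul, add_zero]),
    eich_apply_of_perp l.right hy.2.1 hx.2.1, h3.polar_eq', one_smul, add_sub_cancel_left]

/-- `exists_pgroup_centralizer`, `Syl.exists_conj_le`, `conj_mem_longSet`, `lng_of_mem`. -/
theorem hz {P : Subgroup (O Q)} (h : Syl 2 P (Om Q)) (a2 : a * a = 1) (ha : a ∈ 𝐂(P)) : a = 1 ∨ Lng a := by
  obtain ⟨P₀, h1, h2, h3⟩ := exists_pgroup_centralizer 2 q.nd (by have := q.dim; omega)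
  obtain ⟨g, -, hg⟩ := h.exists_conj_le h1 h2
  refine or_iff_not_imp_left.2 (lng_of_mem ?_)
  have := conj_mem_longSet (h3 (g⁻¹ * a * g) (by rw [pow_two, show g⁻¹ * a * g * (g⁻¹ * a * g) = g⁻¹ * (a * a) * g by group, a2]; simp) fun x hx => by
    have := ha _ (hg (Transfer.conj_mem_conj.2 hx))
    calc g⁻¹ * a * g * x = g⁻¹ * (a * (g * x * g⁻¹)) * g := by group
      _ = _ := by rw [← this]; group) g
  rwa [show g * (g⁻¹ * a * g) * g⁻¹ = a by group] at this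

theorem tri (n : Nr (Om Q) Lng u) : (TS Q (O.comm u) ∧ 4 ≤ finrank F (O.comm u)) ∨
    ∃ y₁, Ch u y₁ ∧ nl u y₁ ≠ 0 ∧ (4 ≤ finrank F (O.comm u) ∨ finrank F (O.comm u) = 2 ∧ ∃ w, C2 u (nl u y₁) w) := by
  obtain ⟨y₁, h1, h2, h3⟩ := q.yvec n.sq n.mem
  obtain ⟨k, hk⟩ := q.mem_iff.1 n.mem
  have : k ≠ 0 := fun e => n.ne (O.comm_eq_bot_iff.1 (Submodule.finrank_eq_zero.1 (by omega)))
  by_cases y0 : nl u y₁ = 0
  · have t : TS Q (O.comm u) := by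
      rintro _ ⟨x, rfl⟩
      exact (h1 x).trans (by simp [y0])
    exact .inl ⟨t, by_contra fun c => (q.lng_of n.sq t (by omega)).elim n.ne n.nr⟩
  · exact .inr ⟨y₁, ⟨h1, h2, h3⟩, y0, (em _).imp_right fun c => ⟨by omega, q.c2 n.sq ⟨h1, h2, h3⟩ y0 (by omega)⟩⟩

theorem st1 (n : Nr (Om Q) Lng u) (y : Yc (Om Q) Lng u a) : ∃ P, St1 u a P := by
  obtain ⟨⟨e, m, -, rfl⟩, P, h1, h2⟩ := y
  exact ⟨P, q, n.sq, n.mem, h1, eich_sq _ _, q.eich_mem _ _, h2⟩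

theorem yc_a (n : Nr (Om Q) Lng u) (t : TS Q (O.comm u)) (h : 4 ≤ finrank F (O.comm u)) (y : Yc (Om Q) Lng u a) : ∃ e ∈ O.comm u, Sh u e a := by
  obtain ⟨P, s⟩ := q.st1 n y
  exact ((s.cen_a t (by omega)).resolve_left (y.1.ne_one q.nd)).resolve_left fun e => by have := e ▸ y.1.finrank_comm q.nd; omega

theorem yc_c (n : Nr (Om Q) Lng u) (c : Ch u y₁) (y0 : nl u y₁ ≠ 0) (h : 4 ≤ finrank F (O.comm u)) (y : Yc (Om Q) Lng u a) :
    Sh u (nl u y₁) a := by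
  obtain ⟨P, s⟩ := q.st1 n y
  exact ((s.cen_c c y0 h).resolve_left (y.1.ne_one q.nd)).resolve_left fun e => by have := e ▸ y.1.finrank_comm q.nd; omega

theorem yc_2 (n : Nr (Om Q) Lng u) (c : Ch u y₁) (h : finrank F (O.comm u) = 2) (d : C2 u (nl u y₁) w) (y : Yc (Om Q) Lng u a) :
    S2 (nl u y₁) w a := by
  obtain ⟨P, s⟩ := q.st1 n y
  obtain ⟨m, h1, rfl⟩ := s.cen_2 c d.y0 h
  have k := d.fix_iff.1 h1
  exact ⟨m, k.2, ⟨c.q0, Q_eq_zero_of_ts_comm_eich q.nd c.q0 d.y0 k.1 y.1.ts, k.1, d.y0,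
    fun e => y.1.ne_one q.nd (eich_of_mem_span c.q0 e)⟩, rfl⟩

/-- `y₁` from `yvec`, the rank `s` of `u` is even and positive.  `y = 0`: `W` is totally singular, `s ≠ 2` (`lng_of`); `cen_a`, `cls`; `b2_of`, `b3_of`; `s = 4`: `cfg_a`, `b4_n`; else `b4_a`.
`y ≠ 0`, `s ≥ 4`: `cen_c`, `b4_c`.  `s = 2`: `c2`, `cen_2` (`m` nonsingular: rank two, not totally singular, `cls`).  A `Yc` element is `Lng`, of rank two, `≠ 1`. -/
theorem iv : Iv (Om Q) Lng := by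
  have lg : ∀ {u e a}, Sh u e a → Lng (Q := Q) a := fun ⟨_, _, l, k⟩ => k ▸ l.lng
  have b2 : ∀ {u e a}, u * u = 1 → e ∈ O.comm u → Sh u e a → Cj (Om Q) u (u * a) := fun u2 he ⟨_, h, l, k⟩ =>
    k ▸ q.b2_of (O.mem_fix.1 (comm_le_fix two0 u2 he)) l.left h
  refine ⟨fun w ⟨e, m, _, k⟩ => k ▸ q.eich_mem e m, fun w ⟨e, m, _, k⟩ => k ▸ eich_sq e m, fun w h => h.ne_one q.nd,
    (exists_lng_commute 2 q.nd (by have := q.dim; omega) .of_bot).imp fun _ h => h.1, fun w h x _ => h.conj x, fun w => q.b0,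
    fun P h a _ => q.hz h, fun u n P h a ha a2 ac => (fun s : St1 u a P => ?_) ⟨q, n.sq, n.mem, h, a2, ha, ac⟩, fun u n w y => ?_,
    fun u n w y => ?_, fun u n => ?_⟩ <;>
  obtain ⟨t, h4⟩ | ⟨y₁, c, y0, h4 | ⟨h2, w₀, d⟩⟩ := q.tri n
  · exact (s.cen_a t (by omega)).imp_right fun k => k.symm.imp (fun ⟨_, _, k⟩ => lg k) fun k =>
      q.cls n.sq a2 (by rw [k]) (by rw [k]) fun _ => k.symm
  · exact (s.cen_c c y0 h4).imp_right fun k => k.symm.imp lg fun k => q.cls n.sq a2 (by rw [k]) (by rw [k]) fun _ => k.symm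
  · obtain ⟨m, h1, rfl⟩ := s.cen_2 c y0 h2
    have k := (d.fix_iff.1 h1).1
    by_cases e : Q m = 0
    · exact (em _).imp_right fun k' => .inl (lng_of_mem (eich_mem_longSet c.q0 e k) k')
    have d' : C2 _ (nl u y₁) m := ⟨q, y0, c.q0, e, k, rfl⟩
    exact .inr (.inr (q.cls n.sq a2 (d.fr.trans d'.fr.symm) (iff_of_false d.nts d'.nts) fun l => absurd l.1 d.nts))
  · obtain ⟨e, he, k⟩ := q.yc_a n t h4 y
    exact b2 n.sq he k
  · exact b2 n.sq (nl_mem _ _) (q.yc_c n c y0 h4 y)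
  · exact d.b2 (q.yc_2 n c h2 d y)
  · obtain ⟨e, he, k⟩ := q.yc_a n t h4 y
    exact q.b3_of n.sq he (fun v _ => t _ (nl_mem _ _)) k
  · exact q.b3_of n.sq (nl_mem _ _) (fun v hv => by rw [c.sq, hv, zero_pow two_ne_zero]) (q.yc_c n c y0 h4 y)
  · exact d.b3 (q.yc_2 n c h2 d y)
  · have ni : ∀ {a}, Yc (Om Q) Lng u a → Nil u a := fun y => by
      obtain ⟨e, he, k⟩ := q.yc_a n t h4 y
      exact q.nil_of n.sq he k
    refine h4.eq_or_lt.symm.imp (fun k a b c ha hb hc => q.b4_a n.sq k (ni ha) (ni hb) (ni hc)) fun k => ⟨fun w y => ?_,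
      fun a b c ha hb hc h1 h2 h3 h4 => q.b4_n n.sq n.ne (ni ha) (ni hb) (ni hc) (ni h1) (ni h2) (ni h3) (ni h4)⟩
    obtain ⟨e, he, k'⟩ := q.yc_a n t h4 y
    exact q.cfg_a n.sq t k.symm he k'
  · exact .inl fun a b c' ha hb hc => q.b4_c n.sq (by omega) (q.yc_c n c y0 h4 ha) (q.yc_c n c y0 h4 hb) (q.yc_c n c y0 h4 hc)
  · exact .inr ⟨fun w y => d.cfg (q.yc_2 n c h2 d y), fun a b c' ha hb hc k1 k2 k3 k4 =>
      d.b4 (q.yc_2 n c h2 d ha) (q.yc_2 n c h2 d hb) (q.yc_2 n c h2 d hc) k1.1 k2.1 k3.1 k4.1⟩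

end Gq

end Cfsg.Lib.OD
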