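import Cfsg.Agent.Lib.OD.Au
import Cfsg.Agent.Lib.OD.G4
import Cfsg.Agent.Lib.OD.Ab

/-!
# OD: outer involutions, and Step 0 for `L ≅ Ω(V, Q)` (any type).
-/

set_option autoImplicit false
set_option linter.unusedSectionVars false

namespace Cfsg.Lib.OD

open Subgroup Cfsg.Lib.BG Cfsg.Lib.Orth QuadraticMap Module
open scoped Cfsg.Lib.Transfer commutatorElement

variable {F V : Type*} [Field F] [Finite F] [CharP F 2] [AddCommGroup V] [Module F V] [FiniteDimensional F V] {Q : QuadraticForm F V}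
  {e m : V} {φ : Gam Q} {r : O Q}

/-- Three vectors of `e^⊥` whose `φ m + m` are independent modulo `e` over `F₂`. -/
def Tri (φ : Gam Q) (e : V) : Prop := ∃ a b c, (∀ x ∈ [a, b, c], polar Q e x = 0) ∧ ∀ x ∈ [a, b, c, a + b, a + c, b + c, a + b + c], φ.T x + x ∉ F ∙ e

theorem tri_of (h : ∀ A : Submodule F V, finrank F A ≤ 3 → e ∈ A → ∃ x, polar Q e x = 0 ∧ φ.T x + x ∉ A) : Tri φ e := by
  have s := fun (A : Submodule F V) (v : V) => (Submodule.finrank_add_le_finrank_add_finrank A (F ∙ v)).trans (add_le_add_right (Gq.fr1 v) _)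
  have f0 := Gq.fr1 (F := F) e
  have ms := Submodule.mem_span_singleton_self (R := F) (M := V)
  obtain ⟨a, a1, a2⟩ := h (F ∙ e) (by omega) (ms e)
  have f1 := s (F ∙ e) (φ.T a + a)
  obtain ⟨b, b1, b2⟩ := h ((F ∙ e) ⊔ F ∙ (φ.T a + a)) (by omega) (Submodule.mem_sup_left (ms e))
  have f2 := s ((F ∙ e) ⊔ F ∙ (φ.T a + a)) (φ.T b + b)
  obtain ⟨c, c1, c2⟩ := h (((F ∙ e) ⊔ F ∙ (φ.T a + a)) ⊔ F ∙ (φ.T b + b)) (by omega) (Submodule.mem_sup_left (Submodule.mem_sup_left (ms e)))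
  have d : ∀ x y, φ.T (x + y) + (x + y) = φ.T x + x + (φ.T y + y) := fun x y => by rw [map_add]; abel
  have l := fun {A B : Submodule F V} {x} => Submodule.mem_sup_left (S := A) (T := B) (x := x)
  have r := fun {A B : Submodule F V} {x} => Submodule.mem_sup_right (S := A) (T := B) (x := x)
  refine ⟨a, b, c, by simp [*], ?_⟩
  simp only [List.mem_cons, List.not_mem_nil, or_false, forall_eq_or_imp, forall_eq, d]
  exact ⟨a2, fun k => b2 (l k), fun k => c2 (l (l k)), fun k => b2 ((add_mem_cancel_left (r (ms _))).1 (l k)),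
    fun k => c2 ((add_mem_cancel_left (l (r (ms _)))).1 (l (l k))), fun k => c2 ((add_mem_cancel_left (r (ms _))).1 (l (l k))),
    fun k => c2 ((add_mem_cancel_left (add_mem (l (r (ms _))) (r (ms _)))).1 (l (l k)))⟩

namespace Gq
variable (q : Gq Q)
include q

/-- As in `exists_lng_commute`: `P` acts on the singular vectors, `dvd_cnt_zero`. -/
theorem fix_sing {P : Subgroup (Gam Q)} (hP : IsPGroup 2 P) : ∃ e, e ≠ 0 ∧ Q e = 0 ∧ ∀ p ∈ P, p.T e = e := by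
  have : Finite V := Module.finite_of_finite F
  let _ : MulAction P {v // Q v = 0} :=
    { smul := fun g v => ⟨g.1.T v, g.1.Q_T_eq_zero.2 v.2⟩
      one_smul := fun _ => rfl
      mul_smul := fun _ _ _ => rfl }
  obtain ⟨⟨e, he⟩, h1, h2⟩ := hP.exists_fixed_point_of_prime_dvd_card_of_fixed_point {v // Q v = 0}
    (dvd_cnt_zero 2 q.nd (by have := q.dim; omega)) (a := ⟨0, map_zero _⟩) fun g => Subtype.ext (map_zero g.1.T)
  exact ⟨e, fun h => h2 (Subtype.ext h.symm), he, fun p hp => congrArg Subtype.val (h1 ⟨p, hp⟩)⟩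

/-- `σ λ ≠ λ`: `(φ (λ x) + λ x) + σ λ (φ x + x) = (λ + σ λ) x`, so the `φ x + x`, `x ⊥ e`, span `e^⊥` (dimension `≥ 7`): choose `a, b, c` in turn with `φ x + x` outside the span of
`e` and the previous ones. -/
theorem tri_fld (hσ : φ.σ ≠ 1) (h0 : e ≠ 0) (he : φ.T e = e) (qe : Q e = 0) : Tri φ e := tri_of fun A hA _ => by
  by_contra! c
  obtain ⟨l, hl⟩ : ∃ l, φ.σ l ≠ l := by
    by_contra! k
    exact hσ (RingEquiv.ext k)
  have := Submodule.finrank_mono (show perp Q (F ∙ e) ≤ A from fun x hx => by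
    rw [mem_perp_singleton] at hx
    have := sub_mem (c (l • x) (by rw [polar_smul_right', hx, mul_zero])) (A.smul_mem (φ.σ l) (c x hx))
    rwa [φ.map_smul, show φ.σ l • φ.T x + l • x - φ.σ l • (φ.T x + x) = (l - φ.σ l) • x by module,
      A.smul_mem_iff (sub_ne_zero.2 hl.symm)] at this)
  have := finrank_add_finrank_perp q.nd (F ∙ e)
  have := fr1 (F := F) e
  have := q.dim
  omega

/-- `I = ⟨e⟩ + N (e^⊥)`; if `dim I ≥ 4` choose as in `tri_fld`. -/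
theorem tri_lin (h0 : e ≠ 0) (h : 4 ≤ finrank F (F ∙ e ⊔ (perp Q (F ∙ e)).map (nl r) : Submodule F V)) : Tri (Gam.ofO Q r) e := tri_of fun A hA he => by
  by_contra! c
  have := Submodule.finrank_mono (sup_le ((Submodule.span_singleton_le_iff_mem _ _).2 he) (show (perp Q (F ∙ e)).map (nl r) ≤ A by
    rintro _ ⟨x, hx, rfl⟩
    exact (nl_apply r x).trans (sub_eq F _ _) ▸ c x (mem_perp_singleton.1 hx)))
  omega

/-- `I = ⟨e⟩ + N (e^⊥)` has dimension `2` or `3` (dimension one: `eq_eich`, `eich_eq` give `r ∈ Ω`).  `[V, r] ≤ I + ⟨N f⟩ =: J`, `B(e, f) = 1`, `dim J ≤ 4`, `J` is totally isotropic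
(`e`, `[V, r] ≤ fix r`; `e ⊥ [V, r]` as `r e = e`), `J^⊥ ≤ fix r ⊓ e^⊥`; `I^⊥` has `N I^⊥ ≤ I^⊥⊥..`: for `b ∈ I^⊥`, `N b ⊥ e^⊥`, so `N b ∈ ⟨e⟩` and `E(e, b)` commutes with `r`.
`[E(x, n), E(e, b)] = E(e, B(n, b) x + B(x, b) n + Q n B(x, b) x)` for `x` singular, `x, n ∈ J^⊥`, `x ⊥ n`, `b ∈ I^⊥` (`commutator_eich`).
If `I` has a singular vector `x ∉ ⟨e⟩` (always if `dim I = 3`, `Q` is additive on `I`): `n ∈ J^⊥ ∖ I` (dimensions), `b ∈ I^⊥` with `B(n, b) = 1`: `E(e, x)`.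
Else `I = ⟨e, w⟩`, `dim J ≤ 3`: `x ∈ J^⊥ ∖ J`, made singular by adding `λ w`; `b` with `B(x, b) = 1` gives `E(e, w + Q w x)`; `n ∈ (J + ⟨x⟩)^⊥ ∖ (I + ⟨x⟩)` (`dim ≥ 4 > 3`),
`b ∈ (I + ⟨x⟩)^⊥`, `B(n, b) = Q w` gives `E(e, Q w x)`; the product is `E(e, w)`. -/
theorem com_lin (r2 : r * r = 1) (hr : r ∉ Om Q) (h0 : e ≠ 0) (he : r.1 e = e) (qe : Q e = 0)
    (h : finrank F (F ∙ e ⊔ (perp Q (F ∙ e)).map (nl r) : Submodule F V) ≤ 3) :
    ∃ m, polar Q e m = 0 ∧ nl r m ∉ F ∙ e ∧ eich Q e (nl r m) ∈ ⁅Om Q ⊓ 𝐂[r], Om Q ⊓ 𝐂[r]⁆ := by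
  obtain ⟨f, -, hf⟩ := exists_perp_polar_eq q.nd (W := ⊥) (u := e) h0 1
  have ef : e ∈ O.fix r := O.mem_fix.2 he
  have ms := Submodule.mem_span_singleton_self (R := F) (M := V)
  have s := fun (A : Submodule F V) (v : V) => (Submodule.finrank_add_le_finrank_add_finrank A (F ∙ v)).trans (add_le_add_right (Gq.fr1 v) _)
  have fp := finrank_add_finrank_perp q.nd
  have dim := q.dim
  obtain ⟨I, hI⟩ : ∃ I, I = (F ∙ e ⊔ (perp Q (F ∙ e)).map (nl r) : Submodule F V) := ⟨_, rfl⟩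
  rw [← hI] at h
  have eI : e ∈ I := hI ▸ Submodule.mem_sup_left (ms e)
  have nI : ∀ x, polar Q e x = 0 → nl r x ∈ I := fun x hx => hI ▸ Submodule.mem_sup_right ⟨x, mem_perp_singleton.2 hx, rfl⟩
  obtain ⟨J, hJ⟩ : ∃ J, J = I ⊔ F ∙ nl r f := ⟨_, rfl⟩
  have IJ : I ≤ J := hJ ▸ le_sup_left
  have fJ := hJ ▸ s I (nl r f)
  have WJ : O.comm r ≤ J := by
    rintro _ ⟨x, rfl⟩
    change nl r x ∈ J
    rw [show nl r x = nl r (x - polar Q e x • f) + polar Q e x • nl r f by simp, hJ]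
    exact Submodule.add_mem_sup (nI _ (by simp [polar_smul_right', hf])) (sm_self _ _)
  have Je : J ≤ (F ∙ e) ⊔ O.comm r := by
    rw [hJ, hI]
    exact sup_le (sup_le_sup_left LinearMap.map_le_range _) (le_sup_of_le_right ((Submodule.span_singleton_le_iff_mem _ _).2 (nl_mem r f)))
  have JJ : J ≤ perp Q J := Je.trans (le_trans (sup_le ((Submodule.span_singleton_le_iff_mem _ _).2 (perp_sup Q _ _ ▸
    ⟨mem_perp_singleton.2 (pp e), O.perp_comm q.nd r ▸ ef⟩)) fun x hx => perp_sup Q _ _ ▸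
      ⟨mem_perp_singleton.2 ((polar_comm ..).trans (pwf hx ef)), O.perp_comm q.nd r ▸ comm_le_fix two0 r2 hx⟩) (perp_anti Je))
  have cm : ∀ b, polar Q e b = 0 → nl r b ∈ F ∙ e → r * eich Q e b = eich Q e b * r := fun b h1 h2 => by
    rw [← mul_inv_eq_iff_eq_mul, conj_eich, he, q.eich_eq qe h0 (by rw [← he, O.map_polar, h1]) h1]; exact h2
  have key : ∀ x n b, Q x = 0 → x ∈ perp Q J → n ∈ perp Q J → polar Q x n = 0 → b ∈ perp Q I →
      eich Q e (polar Q n b • x + polar Q x b • n + (Q n * polar Q x b) • x) ∈ ⁅Om Q ⊓ 𝐂[r], Om Q ⊓ 𝐂[r]⁆ := fun x n b h1 h2 h3 h4 h5 => by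
    have f := fun {v} (k : v ∈ perp Q J) => O.mem_fix.1 (O.perp_comm q.nd r ▸ perp_anti WJ k)
    have eb := mem_perp.1 h5 e eI
    rw [← nl_eich h1 h4, nl_apply, ← commutator_eich qe eb (by
      rw [← nl_zero, nl_eich' h1 h4 (mem_perp'.1 h2 e (IJ eI)), mem_perp'.1 h3 e (IJ eI), zero_smul])]
    exact commutator_mem_commutator (memX (q.eich_mem _ _) (eich_cm (f h2) (f h3))) (memX (q.eich_mem _ _) (cm b eb
      (q.mem_span fun v hv => by rw [← nl_sym r2]; exact mem_perp.1 h5 _ (nI v hv))).symm)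
  by_cases c : ∃ x ∈ I, Q x = 0 ∧ x ∉ F ∙ e
  · obtain ⟨x, h1, h2, h3⟩ := c
    obtain ⟨n, hn, n1⟩ := exists_nmem (W := perp Q J) (W' := I) (by have := fp J; omega)
    obtain ⟨b, hb, k⟩ := exists_perp_polar_eq q.nd n1 1
    have := key x n b h2 (JJ (IJ h1)) hn (mem_perp.1 hn x (IJ h1)) hb
    rw [k, mem_perp.1 hb x h1, mul_zero, zero_smul, zero_smul, one_smul, add_zero, add_zero] at this
    obtain ⟨_, hy, _, ⟨m, hm, rfl⟩, rfl⟩ := Submodule.mem_sup.1 (hI ▸ h1)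
    obtain ⟨l, rfl⟩ := Submodule.mem_span_singleton.1 hy
    exact ⟨m, mem_perp_singleton.1 hm, fun k => h3 (add_mem hy k), by
      rwa [add_comm, eich_add_smul_self qe ((polar_comm ..).trans (pwf (nl_mem r m) ef))] at this⟩
  push Not at c
  obtain ⟨m, hm, n⟩ : ∃ m, polar Q e m = 0 ∧ nl r m ∉ F ∙ e := by
    by_contra! k
    obtain ⟨m, -, rfl⟩ := q.eq_eich qe h0 he fun m hm => cm m hm (k m hm)
    exact hr (q.eich_mem _ _)
  refine ⟨m, hm, n, ?_⟩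
  have wI := nI m hm
  generalize nl r m = w at n wI
  have qw := mt (c w wI) n
  have wp := JJ (IJ wI)
  have := (Submodule.finrank_mono (show I ≤ (F ∙ e) ⊔ F ∙ w from fun y hy => by
    obtain ⟨l, hl⟩ := sing_ex qw (mem_perp'.1 wp y (IJ hy))
    exact (add_mem_cancel_right (Submodule.mem_sup_right (sm_self l w))).1
      (Submodule.mem_sup_left (c _ (add_mem hy (I.smul_mem l wI)) hl)))).trans (s _ _)
  have := fr1 (F := F) e
  obtain ⟨x, hx, x1⟩ := exists_nmem (W := perp Q J) (W' := J) (by have := fp J; omega)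
  obtain ⟨l, qx⟩ := sing_ex qw (mem_perp.1 hx w (IJ wI))
  replace hx := add_mem hx (Submodule.smul_mem _ l wp)
  replace x1 : x + l • w ∉ I := fun k => x1 (IJ ((add_mem_cancel_right (I.smul_mem l wI)).1 k))
  generalize x + l • w = x at qx hx x1
  obtain ⟨b, hb, k⟩ := exists_perp_polar_eq q.nd x1 1
  obtain ⟨n, hn, n1⟩ := exists_nmem (W := perp Q (J ⊔ F ∙ x)) (W' := I ⊔ F ∙ x) (by
    have := fp (J ⊔ F ∙ x); have := s J x; have := s I x; omega)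
  obtain ⟨b', hb', k'⟩ := exists_perp_polar_eq q.nd n1 (Q w)
  rw [perp_sup, Submodule.mem_inf, mem_perp_singleton] at hn hb'
  have := mul_mem (key x w b qx hx wp (mem_perp'.1 hx w (IJ wI)) hb) (key x n b' qx hx hn.1 hn.2 hb'.1)
  have ex := mem_perp.1 hx e (IJ eI)
  simp only [k, k', hb'.2, mem_perp.1 hb w wI, mul_zero, zero_smul, one_smul, zero_add, add_zero, mul_one] at this
  rwa [← eich_add qe (by simp [polar_smul_right', ex, mem_perp.1 wp e (IJ eI)]) (by simp [polar_smul_right', ex]), add_assoc, vv F, add_zero] at this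

end Gq

variable {G : Type*} [Group G] [Finite G] {L : Subgroup G} {t d g : G}

/-- `L ≅ Ω(V, Q)` is normal in `C(t)`, `t` is the only involution of `C(t) ⊓ C(L)`. -/
structure Sg (L : Subgroup G) (t : G) : Prop where
  t2 : t * t = 1
  t1 : t ≠ 1
  tL : ∀ l ∈ L, l * t = t * l
  cn : ∀ g, g * t = t * g → g ∈ 𝐍(L)
  kinv : ∀ g, g * t = t * g → g ∈ 𝐂(L) → g * g = 1 → g = 1 ∨ g = t

/-- The action `κ : C(t) →* MulAut Ω`, `j (κ g o) = g (j o) g⁻¹` (`normalizerMonoidHom`, `MulAut.congr`); `N = (K.comap κ).map subtype`.  `tn`: `center_eq`.  `rz`: `lng_aut`.  `inn`: `κ x = conj o`, `k = (j o)⁻¹ x ∈ C(L)`;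
`(j o)² = k⁻²` is central in `L`, so `k² = 1`, `k` commutes with `t`.  `out`: `γ` from `gam` for `T.map κ`; `T' = {φ | ∃ s ∈ T, Ind φ (γ κ s γ⁻¹)}` is a `2`-group (`ind_eq`), `e` from `fix_sing`,
`A = j γ⁻¹ (eichSub e^⊥)` (`cj_eich`, `c = 1`), `φ` for `d`, `φ² = 1`; `[a, d] = j γ⁻¹ E(e, φ m + m)` is trivial iff `φ m + m ∈ ⟨e⟩` (`eich_eq`).  `φ.σ ≠ 1`: `tri_fld`.  Else `φ = ofO r`
(`mem_range_ofO`), `r ∉ Ω` (else `κ d` is inner, as in `inn`), `tri_lin` or `com_lin`; `j γ⁻¹` maps `Ω ⊓ C(r)` into `C(t) ⊓ C(d)`. -/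
theorem Sg.ex (s : Sg L t) (q : Gq Q) {K : Subgroup (MulAut (Om Q))} (a : Au Q K) (j : Om Q ≃* L) :
    ∃ N, Ex L N (fun g => ∃ x : Om Q, Lng (x : O Q) ∧ (j x : G) = g) t := by
  let κ : 𝐂[t] →* MulAut (Om Q) := (MulAut.congr j.symm).toMonoidHom.comp (L.normalizerMonoidHom.comp
    (inclusion fun g hg => s.cn g (mem_cent1.1 hg)))
  have hκ : ∀ (g : 𝐂[t]) o, (j (κ g o) : G) = g * j o * (g : G)⁻¹ := fun g o => congrArg Subtype.val (j.apply_symm_apply _)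
  have cen : ∀ o : Om Q, (∀ x, x * o = o * x) → o = 1 := fun o h => mem_bot.1 (q.center_eq ▸ mem_center_iff.2 h)
  have inr : ∀ x : 𝐂[t], (x : G) * x = 1 → ∀ o, κ x = MulAut.conj o → (x : G) ∈ L ∨ x * t ∈ L := fun x x2 o h => by
    have c : ((j o : G)⁻¹ * x) ∈ 𝐂(L) := fun l hl => by
      obtain ⟨y, e⟩ := j.surjective ⟨l, hl⟩
      have := hκ x y
      rw [h, MulAut.conj_apply, map_mul, map_mul, map_inv, e] at this
      replace this : (j o : G) * l * (j o : G)⁻¹ = x * l * (x : G)⁻¹ := this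
      rw [mul_assoc _ _ l, mul_inv_eq_iff_eq_mul.1 this.symm]; group
    have o2 : o * o = 1 := cen _ fun y => by
      have := DFunLike.congr_fun ((map_mul _ o o).trans (h ▸ (map_mul κ x x).symm.trans (congrArg κ (Subtype.ext x2 : x * x = 1)))) y
      rw [map_one] at this
      exact (mul_inv_eq_iff_eq_mul.1 this).symm
    refine (s.kinv _ ?_ c ?_).imp (fun k => by rw [← inv_mul_eq_one.1 k]; exact (j o).2) fun k => ?_
    · rw [mul_assoc, mem_cent1.1 x.2, ← mul_assoc, s.tL _ (inv_mem (j o).2), mul_assoc]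
    · rw [← mul_assoc, ← c _ (inv_mem (j o).2), mul_assoc, mul_assoc, x2, mul_one, ← mul_inv_rev, ← coe_mul, ← map_mul, o2]; simp
    · rw [inv_mul_eq_iff_eq_mul.1 k, mul_assoc, s.t2, mul_one]; exact (j o).2
  have mN : ∀ x : 𝐂[t], (x : G) ∈ (K.comap κ).map 𝐂[t].subtype ↔ κ x ∈ K := fun x => mem_map_iff_mem (subtype_injective _)
  have sq : ∀ x : 𝐂[t], (x : G) * x = 1 → κ x * κ x = 1 := fun x h => by rw [← map_mul, (Subtype.ext h : x * x = 1), map_one]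
  refine ⟨(K.comap κ).map 𝐂[t].subtype, s.t2, fun h => s.t1 ?_, s.tL, s.cn, ?_, commutator_le.2 fun x hx y hy => (mN ⁅(⟨x, hx⟩ : 𝐂[t]), ⟨y, hy⟩⁆).2
    (a.cm (map_commutatorElement κ _ _ ▸ commutator_mem_commutator (mem_top _) (mem_top _))), ?_, fun x hx y hy z hz x2 y2 z2 => ?_,
    fun T d hT h1 h2 hd d2 n1 n2 => ?_⟩
  · have := cen (j.symm ⟨t, h⟩) fun x => j.injective (Subtype.ext (by simpa using s.tL _ (j x).2))
    exact congrArg Subtype.val ((map_eq_one_iff _ j.symm.injective).1 this)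
  · rintro g hg _ ⟨x, l, rfl⟩
    exact ⟨_, q.lng_aut (κ ⟨g, mem_cent1.2 hg⟩) l, hκ _ x⟩
  · rintro _ ⟨x, hx, rfl⟩ - x2
    obtain ⟨o, h⟩ := a.ker _ hx (sq x x2)
    exact inr x x2 o h
  · simpa only [← map_mul, ← mN, coe_mul] using a.rk _ trivial _ trivial _ trivial (sq ⟨x, hx⟩ x2) (sq ⟨y, hy⟩ y2) (sq ⟨z, hz⟩ z2)
  obtain ⟨γ, hγ⟩ := a.gam _ (hT.of_surjective _ (κ.comp (inclusion h1)).rangeRestrict_surjective)
  choose Φ hΦ using fun x : T => hγ _ ⟨x, rfl⟩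
  let Φ' : T →* Gam Q := .mk' Φ fun x y => q.ind_eq (hΦ _) (by simpa [mul_assoc] using (hΦ x).mul (hΦ y))
  obtain ⟨e, e0, qe, he⟩ := q.fix_sing (hT.of_surjective _ Φ'.rangeRestrict_surjective)
  replace he : ∀ x, (Φ x).T e = e := fun x => he _ ⟨x, rfl⟩
  let J : Om Q →* G := L.subtype.comp ((γ.symm.trans j).toMonoidHom)
  have iJ : Function.Injective J := L.subtype_injective.comp (γ.symm.trans j).injective
  have hJ : ∀ (x : T) (o o' : Om Q), (o' : O Q) = Gam.cj Q (Φ x) o → x * J o * (x : G)⁻¹ = J o' := fun x o o' h => by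
    rw [Subtype.ext (h.trans ((hΦ x).2 o).symm)]
    exact (hκ (inclusion h1 x) _).symm.trans (congrArg (fun y => (j y : G)) (γ.symm_apply_apply _).symm)
  let E : V → G := fun m => J ⟨eich Q e m, q.eich_mem e m⟩
  have Ea : ∀ {m m'}, polar Q e m = 0 → polar Q e m' = 0 → E m * E m' = E (m + m') := fun h h' =>
    (map_mul J _ _).symm.trans (congrArg J (Subtype.ext (eich_add qe h h').symm))
  have Ec : ∀ (x : T) m, x * E m * (x : G)⁻¹ = E ((Φ x).T m) := fun x m => hJ x _ _ (by simp [Gam.cj_eich, he, (hΦ x).1])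
  have pe : ∀ (x : T) {m}, polar Q e m = 0 → polar Q e ((Φ x).T m) = 0 := fun x m h => by rwa [← he x, Gam.polar_T_eq_zero]
  have E0 : E 0 = 1 := (congrArg J (Subtype.ext (eich_zero e))).trans (map_one J)
  have E2 : ∀ {m}, polar Q e m = 0 → E m * E m = 1 := fun h => by rw [Ea h h, vv F, E0]
  have Ed : ∀ {m}, polar Q e m = 0 → ⁅E m, d⁆ = E ((Φ ⟨d, hd⟩).T m + m) := fun {m} h => by
    rw [add_comm, ← Ea h (pe _ h), ← Ec, commutatorElement_def, inv_eq_of_mul_eq_one_left (E2 h)]; simp only [mul_assoc]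
  have En : ∀ {m}, polar Q e m = 0 → (Φ ⟨d, hd⟩).T m + m ∉ F ∙ e → ⁅E m, d⁆ ≠ 1 := fun {m} h n k => n (by
    rw [Ed h, ← E0] at k
    simpa using (q.eich_eq qe e0 (by rw [polar_add_right, h, pe _ h, add_zero]) (polar_zero_right _ _)).1 (congrArg Subtype.val (iJ k)))
  let A : Subgroup G :=
    { carrier := {g | ∃ m, polar Q e m = 0 ∧ E m = g}
      one_mem' := ⟨0, by simp, E0⟩
      mul_mem' := by
        rintro _ _ ⟨m, h, rfl⟩ ⟨m', h', rfl⟩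
        exact ⟨_, by simp [h, h'], (Ea h h').symm⟩
      inv_mem' := by
        rintro _ ⟨m, h, rfl⟩
        exact ⟨m, h, eq_inv_of_mul_eq_one_left (E2 h)⟩ }
  refine ⟨A, by rintro _ ⟨m, -, rfl⟩; exact (j _).2, by rintro _ ⟨m, h, rfl⟩ _ ⟨m', h', rfl⟩; rw [Ea h h', Ea h' h, add_comm],
    by rintro _ ⟨m, h, rfl⟩; exact E2 h, le_norm_iff.2 (by rintro x hx _ ⟨m, h, rfl⟩; exact ⟨_, pe ⟨x, hx⟩ h, (Ec ⟨x, hx⟩ m).symm⟩), ?_⟩
  have tr : Tri (Φ ⟨d, hd⟩) e → Big A (𝐂[t] ⊓ 𝐂[d]) d := fun ⟨x, y, z, k1, k2⟩ => by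
    simp only [List.mem_cons, List.not_mem_nil, or_false, forall_eq_or_imp, forall_eq] at k1 k2
    refine .inl ⟨_, ⟨x, k1.1, rfl⟩, _, ⟨y, k1.2.1, rfl⟩, _, ⟨z, k1.2.2, rfl⟩, ?_⟩
    have xy : polar Q e (x + y) = 0 := by simp [k1]
    simp only [List.mem_cons, List.not_mem_nil, or_false, forall_eq_or_imp, forall_eq, Ea k1.1 k1.2.1, Ea k1.1 k1.2.2, Ea k1.2.1 k1.2.2,
      Ea xy k1.2.2]
    refine ⟨En ?_ k2.1, En ?_ k2.2.1, En ?_ k2.2.2.1, En ?_ k2.2.2.2.1, En ?_ k2.2.2.2.2.1, En ?_ k2.2.2.2.2.2.1, En ?_ k2.2.2.2.2.2.2⟩ <;> simp [k1]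
  by_cases hσ : (Φ ⟨d, hd⟩).σ = 1
  swap
  · exact tr (q.tri_fld hσ e0 (he _) qe)
  obtain ⟨r, hr⟩ := Gam.mem_range_ofO.2 ⟨hσ, (hΦ _).1⟩
  by_cases h4 : 4 ≤ finrank F (F ∙ e ⊔ (perp Q (F ∙ e)).map (nl r) : Submodule F V)
  · exact tr (hr ▸ q.tri_lin e0 h4)
  obtain ⟨m, k1, k2, k3⟩ := q.com_lin (r := r) (Gam.ofO_injective (by
      rw [map_mul, hr, map_one]; exact (map_mul Φ' _ _).symm.trans ((congrArg Φ' (Subtype.ext d2)).trans (map_one Φ'))))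
    (fun k => (inr ⟨d, h1 hd⟩ d2 (γ.symm ⟨r, k⟩) (MulEquiv.ext fun o => γ.injective (by
      simpa using (congrArg (γ <| κ ⟨d, h1 hd⟩ ·) (γ.symm_apply_apply o)).symm.trans
        (DFunLike.congr_fun ((hr ▸ hΦ ⟨d, hd⟩).inner k) (γ o))))).elim n1 n2) e0 (by have := he ⟨d, hd⟩; rwa [← hr] at this) qe (by omega)
  rw [nl_apply, sub_eq F, ← Gam.ofO_T, hr] at k2 k3
  refine .inr ⟨_, ⟨m, k1, rfl⟩, En k1 k2, ?_⟩
  rw [← map_subgroupOf_eq_of_le (inf_le_left : Om Q ⊓ 𝐂[r] ≤ Om Q), ← map_commutator] at k3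
  obtain ⟨o, ho, k⟩ := k3
  have le : ((Om Q ⊓ 𝐂[r]).subgroupOf (Om Q)).map J ≤ 𝐂[t] ⊓ 𝐂[d] := by
    rintro _ ⟨o, ho, rfl⟩
    exact ⟨mem_cent1.2 (s.tL _ (j _).2), mem_cent1.2 (mul_inv_eq_iff_eq_mul.1 (hJ ⟨d, hd⟩ o o (by
      rw [← hr, Gam.cj_ofO]; exact (mul_inv_eq_iff_eq_mul.2 (mem_cent1.1 ho.2).symm).symm))).symm⟩
  exact Ed k1 ▸ commutator_mono le le (map_commutator _ _ J ▸ ⟨o, ho, congrArg J (Subtype.ext k)⟩)

/-- `Sg.ex`, `Gq.iv`, `Iv.transport`, `Ex.step0`, `lng_cj`. -/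
theorem Sg.step0 (s : Sg L t) (q : Gq Q) {K : Subgroup (MulAut (Om Q))} (a : Au Q K) (j : Om Q ≃* L)
    (hd : d * t = t * d) (dt : d ≠ t) (e : g * d * g⁻¹ = t) {z : Om Q} (hz : Lng (z : O Q)) : ∃ g : G, g * t * g⁻¹ = t * j z := by
  obtain ⟨N, x⟩ := s.ex q a j
  obtain ⟨g, _, ⟨w, hw, rfl⟩, k⟩ := x.step0 (q.iv.transport j) hd dt e
  obtain ⟨o, ho, k'⟩ := q.lng_cj hw hz
  refine ⟨j ⟨o, ho⟩ * g, ?_⟩
  rw [show j ⟨o, ho⟩ * g * t * (j ⟨o, ho⟩ * g)⁻¹ = j ⟨o, ho⟩ * (g * t * g⁻¹) * (j ⟨o, ho⟩ : G)⁻¹ by group, k, ← mul_assoc, s.tL _ (j _).2,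
    show z = ⟨o, ho⟩ * w * ⟨o, ho⟩⁻¹ from Subtype.ext k'.symm]
  simp [mul_assoc]

end Cfsg.Lib.OD
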