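import Cfsg.Agent.Lib.BG.Hall
import Cfsg.Agent.Lib.PGroup.Basic

/-!
# S3130, Step 0 (`t ~ t z`), abstract data.  See `docs/OD.md`.
`L` is normal in `C(t)`, `R` is the class of the root elements of `L`.
-/

set_option autoImplicit false

namespace Cfsg.Lib.OD

open Subgroup Cfsg.Lib.BG
open scoped Cfsg.Lib.Transfer commutatorElement

variable {G : Type*} [Group G]

/-- `w` lies in a four-group fused in `X`. -/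
def Fu (X : Subgroup G) (w : G) : Prop := w ∈ X ∧ w * w = 1 ∧ ∃ a ∈ X, ∃ b ∈ X, b * w * b⁻¹ = w * (a * w * a⁻¹)

/-- `w` is a root element centralizing a Sylow `2`-subgroup of `C_L(u)`. -/
def Yc (L : Subgroup G) (R : G → Prop) (u w : G) : Prop := R w ∧ ∃ P, Syl 2 P (L ⊓ 𝐂[u]) ∧ w ∈ 𝐂(P)

/-- `a` is conjugate to `w` in `X`. -/
def Cj (X : Subgroup G) (w a : G) : Prop := ∃ x ∈ X, x * w * x⁻¹ = a

/-- An involution of `L` that is not a root element. -/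
structure Nr (L : Subgroup G) (R : G → Prop) (u : G) : Prop where
  mem : u ∈ L
  sq : u * u = 1
  ne : u ≠ 1
  nr : ¬ R u

/-- The seven-element configuration. -/
def Cfg (X : Subgroup G) (u w : G) : Prop :=
  ∃ a b c, Cj X w a ∧ Cj X w b ∧ Cj X w c ∧ Cj X w (a * b) ∧ Cj X w (a * c) ∧ Cj X w (u * b * c) ∧ Cj X w (u * a * b * c)

/-- The facts on the involutions of `L`. -/
structure Iv (L : Subgroup G) (R : G → Prop) : Prop where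
  mem : ∀ w, R w → w ∈ L
  sq : ∀ w, R w → w * w = 1
  ne : ∀ w, R w → w ≠ 1
  ex : ∃ w, R w
  cj : ∀ w, R w → ∀ x ∈ L, R (x * w * x⁻¹)
  b0 : ∀ w, R w → ∃ x y, Fu (L ⊓ 𝐂[w]) x ∧ Fu (L ⊓ 𝐂[w]) y ∧ w = ⁅x, y⁆
  hz : ∀ P, Syl 2 P L → ∀ a ∈ L, a * a = 1 → a ∈ 𝐂(P) → a = 1 ∨ R a
  b1 : ∀ u, Nr L R u → ∀ P, Syl 2 P (L ⊓ 𝐂[u]) → ∀ a ∈ L, a * a = 1 → a ∈ 𝐂(P) → a = 1 ∨ R a ∨ Cj L u a
  b2 : ∀ u, Nr L R u → ∀ w, Yc L R u w → Cj L u (u * w)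
  b3 : ∀ u, Nr L R u → ∀ w, Yc L R u w → Fu (L ⊓ 𝐂[u]) w
  b4 : ∀ u, Nr L R u → (∀ a b c, Yc L R u a → Yc L R u b → Yc L R u c → u * a * b ≠ c) ∨
    ((∀ w, Yc L R u w → Cfg (L ⊓ 𝐂[u]) u w) ∧ ∀ a b c, Yc L R u a → Yc L R u b → Yc L R u c →
      Yc L R u (u * a * b) → Yc L R u (u * a * c) → Yc L R u (b * c) → ¬ Yc L R u (u * a * b * c))

/-- `X / N` has `2`-rank at most two, as far as involutions of `X` see it. -/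
def Rk2 (X N : Subgroup G) : Prop := ∀ a ∈ X, ∀ b ∈ X, ∀ c ∈ X, a * a = 1 → b * b = 1 → c * c = 1 →
  a ∈ N ∨ b ∈ N ∨ c ∈ N ∨ a * b ∈ N ∨ a * c ∈ N ∨ b * c ∈ N ∨ a * b * c ∈ N

/-- `[A, d]` has rank at least three, or meets the derived group of `X`. -/
def Big (A X : Subgroup G) (d : G) : Prop :=
  (∃ a ∈ A, ∃ b ∈ A, ∃ c ∈ A, ∀ x ∈ [a, b, c, a * b, a * c, b * c, a * b * c], ⁅x, d⁆ ≠ 1) ∨ ∃ a ∈ A, ⁅a, d⁆ ≠ 1 ∧ ⁅a, d⁆ ∈ ⁅X, X⁆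

/-- The facts on the embedding of `L` in `C(t)`; `N` is the kernel of a type map to an abelian group. -/
structure Ex (L N : Subgroup G) (R : G → Prop) (t : G) : Prop where
  t2 : t * t = 1
  tn : t ∉ L
  tL : ∀ l ∈ L, l * t = t * l
  cn : ∀ g, g * t = t * g → g ∈ 𝐍(L)
  rz : ∀ g, g * t = t * g → ∀ w, R w → R (g * w * g⁻¹)
  cm : ⁅𝐂[t], 𝐂[t]⁆ ≤ N
  inn : ∀ x ∈ N, x * t = t * x → x * x = 1 → x ∈ L ∨ x * t ∈ L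
  rk : Rk2 𝐂[t] N
  out : ∀ (T : Subgroup G) (d : G), IsPGroup 2 T → T ≤ 𝐂[t] → T ≤ 𝐂[d] → d ∈ T → d * d = 1 → d ∉ L → d * t ∉ L →
    ∃ A ≤ L, (∀ a ∈ A, ∀ b ∈ A, a * b = b * a) ∧ (∀ a ∈ A, a * a = 1) ∧ T ≤ 𝐍(A) ∧ Big A (𝐂[t] ⊓ 𝐂[d]) d

end Cfsg.Lib.OD
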