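import Cfsg.Agent.Lib.OD.G1

/-!
# OD: the involutions of `Ω` centralizing a Sylow `2`-subgroup of `C_Ω(u)`.  Notation as in `G1`.
-/

set_option autoImplicit false
set_option linter.unusedSectionVars false

namespace Cfsg.Lib.OD

open Subgroup Cfsg.Lib.BG Cfsg.Lib.Orth QuadraticMap Module
open scoped Cfsg.Lib.Transfer commutatorElement

variable {F V : Type*} [Field F] [Finite F] [CharP F 2] [AddCommGroup V] [Module F V] [FiniteDimensional F V] {Q : QuadraticForm F V}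
  {u a g : O Q} {e m x y v v₁ y₁ : V} {P : Subgroup (O Q)}

/-- `a = E(e, N v)`, `v ⊥ e`, a long root element. -/
def Sh (u : O Q) (e : V) (a : O Q) : Prop := ∃ v, polar Q e v = 0 ∧ IsLine Q e (nl u v) ∧ a = eich Q e (nl u v)

/-- `N y₁` is the characteristic vector of `u`. -/
structure Ch (u : O Q) (y₁ : V) : Prop where
  sq : ∀ x, Q (nl u x) = polar Q (nl u y₁) x ^ 2
  q0 : Q (nl u y₁) = 0
  fx : ∀ g : O Q, g * u = u * g → g.1 (nl u y₁) = nl u y₁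

/-- The standing hypotheses. -/
structure St1 (u a : O Q) (P : Subgroup (O Q)) : Prop extends Gq Q where
  u2 : u * u = 1
  uO : u ∈ Om Q
  syl : Syl 2 P (Om Q ⊓ 𝐂[u])
  a2 : a * a = 1
  aO : a ∈ Om Q
  ac : a ∈ 𝐂(P)

theorem perp_inv {A : Submodule F V} (h : ∀ p ∈ P, ∀ x ∈ A, p.1 x ∈ A) : ∀ p ∈ P, ∀ x ∈ perp Q A, p.1 x ∈ perp Q A := fun p hp x hx =>
  mem_perp.2 fun w hw => by rw [O.polar_right]; exact mem_perp.1 hx _ (h _ (inv_mem hp) w hw)
theorem comm_inv (h : g * u = u * g) (hx : x ∈ O.comm u) : g.1 x ∈ O.comm u := by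
  obtain ⟨v, rfl⟩ := mem_comm.1 hx
  exact nl_conj h v ▸ nl_mem u _
theorem fix_inv (h : g * u = u * g) (hx : x ∈ O.fix u) : g.1 x ∈ O.fix u := by rw [mem_fix, nl_conj h, mem_fix.1 hx, map_zero]
theorem span_inv (h : ∀ p ∈ P, p.1 e = e) : ∀ p ∈ P, ∀ x ∈ F ∙ e, p.1 x ∈ F ∙ e := fun p hp x hx => by
  obtain ⟨c, rfl⟩ := Submodule.mem_span_singleton.1 hx
  rwa [map_smul, h p hp]
theorem nl_eich (he : Q e = 0) (h : polar Q e m = 0) (x : V) :
    nl (eich Q e m) x = polar Q m x • e + polar Q e x • m + (Q m * polar Q e x) • e := by rw [nl_apply, eich_ap he h]; abel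
theorem nl_eich' (he : Q e = 0) (h : polar Q e m = 0) (hx : polar Q e x = 0) : nl (eich Q e m) x = polar Q m x • e := by
  simp [nl_eich he h, hx]
theorem pwf (hx : x ∈ O.comm u) (hy : y ∈ O.fix u) : polar Q x y = 0 := by
  obtain ⟨v, rfl⟩ := mem_comm.1 hx
  rw [nl_apply, polar_sub_left, ← O.mem_fix.1 hy, O.map_polar, O.mem_fix.1 hy, sub_self]
theorem sm_self (c : F) (e : V) : c • e ∈ F ∙ e := Submodule.smul_mem _ c (Submodule.mem_span_singleton_self e)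
theorem smul_nmem {c : F} {A : Submodule F V} (h : x ∉ A) (k : c • x ∈ A) : c = 0 := by_contra fun n => h ((A.smul_mem_iff n).1 k)
theorem sing_ex {w : V} (hw : Q w ≠ 0) (h : polar Q w x = 0) : ∃ l : F, Q (x + l • w) = 0 := by
  obtain ⟨l, hl⟩ := isSquare_of_charTwo' (Q x / Q w)
  refine ⟨l, ?_⟩
  rw [Q_add, Q_smul, polar_smul_right', polar_comm, h, pow_two, ← hl, div_mul_cancel₀ _ hw]
  grind [two0 (F := F)]

theorem Gq.fix_le (q : Gq Q) (h : O.comm a ≤ O.comm u) : O.fix u ≤ O.fix a := by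
  rw [← O.perp_comm q.nd, ← O.perp_comm q.nd]; exact perp_anti h
theorem Gq.mem_span (q : Gq Q) (h : ∀ v, polar Q e v = 0 → polar Q v x = 0) : x ∈ F ∙ e :=
  perp_perp q.nd (F ∙ e) ▸ mem_perp.2 fun v hv => h v (mem_perp_singleton.1 hv)

theorem Ch.ts (c : Ch u y₁) (u2 : u * u = 1) : TS Q (O.comm u ⊓ perp Q (F ∙ y₁)) := by
  rintro _ ⟨⟨z, rfl⟩, h⟩
  change Q (nl u z) = 0
  rw [c.sq, nl_sym u2, show polar Q y₁ (nl u z) = 0 from mem_perp_singleton.1 h, zero_pow two_ne_zero]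
theorem Ch.fr (c : Ch u y₁) (q : Gq Q) (y0 : nl u y₁ ≠ 0) :
    finrank F (O.comm u ⊓ perp Q (F ∙ y₁) : Submodule F V) + 1 = finrank F (O.comm u) :=
  finrank_inf_perp_singleton q.nd (O.perp_comm q.nd u ▸ y0)
theorem Ch.sing (c : Ch u y₁) (q : Gq Q) (u2 : u * u = 1) (y0 : nl u y₁ ≠ 0) (h2 : finrank F (O.comm u) = 2) (hx : x ∈ O.comm u)
    (h : Q x = 0) : x ∈ F ∙ nl u y₁ := by
  have := c.fr q y0
  rw [Submodule.eq_of_le_of_finrank_le (S₂ := O.comm u ⊓ perp Q (F ∙ y₁)) ((Submodule.span_singleton_le_iff_mem _ _).2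
    ⟨nl_mem u y₁, mem_perp_singleton.2 (Q_nl u y₁ ▸ c.q0)⟩) (by rw [finrank_span_singleton y0]; omega)]
  obtain ⟨z, rfl⟩ := mem_comm.1 hx
  rw [c.sq, nl_sym u2, pow_eq_zero_iff two_ne_zero] at h
  exact ⟨hx, mem_perp_singleton.2 h⟩
theorem Ch.cm (c : Ch u y₁) (q : Gq Q) (u2 : u * u = 1) (y0 : nl u y₁ ≠ 0) (h2 : finrank F (O.comm u) = 2) (h : polar Q (nl u y₁) x = 0) :
    u * eich Q (nl u y₁) x = eich Q (nl u y₁) x * u := by
  have k := nl_zero.1 (nl_nl u2 y₁)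
  rw [← mul_inv_eq_iff_eq_mul, conj_eich, k, q.eich_eq c.q0 y0 (by rw [← k, O.map_polar, h]) h]
  exact c.sing q u2 y0 h2 (nl_mem u x) ((c.sq x).trans (by rw [h, zero_pow two_ne_zero]))

/-- The element `E(e, v) E(N v, v₁)`, `e = N v₁`, on `W^⊥`. -/
theorem gm_ap (u2 : u * u = 1) (h0 : Q (nl u v₁) = 0) (h1 : Q (nl u v) = 0) (hv : polar Q (nl u v₁) v = 0) (hx : x ∈ O.fix u) :
    nl (eich Q (nl u v₁) v * eich Q (nl u v) v₁) x = polar Q v₁ x • nl u v + polar Q v x • nl u v₁ := by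
  have w := fun y => pwf (nl_mem u y) hx
  rw [nl_mul', nl_eich' h0 hv (w _), nl_eich' h1 (by rw [nl_sym u2, polar_comm, hv]) (w _), map_smul,
    nl_eich' h0 hv (pwf (nl_mem u _) (nl_nl u2 _)), ← Q_nl, h1, zero_smul, smul_zero, add_zero, add_comm]

namespace St1
variable (s : St1 u a P)
include s

theorem gq : Gq Q := s.toGq
theorem pu (h : g ∈ P) : g * u = u * g := mem_centralizer_singleton_iff.1 (s.syl.le h).2
theorem pa (h : g ∈ P) : g * a = a * g := s.ac g h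
theorem wf (h : x ∈ O.comm u) : x ∈ O.fix u := comm_le_fix two0 s.u2 h
theorem memX (h : g ∈ Om Q) (k : g * u = u * g) : g ∈ Om Q ⊓ 𝐂[u] := ⟨h, mem_centralizer_singleton_iff.2 k⟩
theorem H_inv (he : ∀ p ∈ P, p.1 (nl u v₁) = nl u v₁) :
    ∀ p ∈ P, ∀ x ∈ O.comm u ⊓ perp Q (F ∙ v₁), p.1 x ∈ O.comm u ⊓ perp Q (F ∙ v₁) := fun p hp x hx => by
  refine ⟨comm_inv (s.pu hp) hx.1, mem_perp_singleton.2 ?_⟩
  rw [O.polar_right, ap_eq, polar_add_left, mem_perp_singleton.1 hx.2, zero_add, polar_comm]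
  exact pwf hx.1 (by rw [mem_fix, nl_apply p⁻¹, map_sub, nl_conj (s.pu (inv_mem hp)), he _ (inv_mem hp), sub_self])

/-- `Syl.ge_of_norm_p` for `zpowers u`. -/
theorem uP : u ∈ P := s.syl.ge_of_norm_p (N := zpowers u) (zpowers_le.2 (s.memX s.uO rfl))
  (fun ⟨_, n, rfl⟩ => ⟨1, Subtype.ext (by
    change (u ^ n) ^ 2 ^ 1 = 1
    rw [pow_one, ← zpow_natCast, ← zpow_mul, mul_comm, zpow_mul, zpow_natCast, pow_two, s.u2, one_zpow])⟩)
  (le_norm_iff.2 (by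
    rintro p hp _ ⟨n, rfl⟩
    exact ⟨n, by rw [← conj_zpow, s.pu hp, mul_inv_cancel_right]⟩)) (mem_zpowers u)
theorem au : a * u = u * a := (s.ac u s.uP).symm

/-- `E(e, m) ∈ P` for `e ∈ W₀`, `m ∈ fix u` (`chain` with `⊥, ⊥, W₀, W₀^⊥`; `eich_cm`), so `E(a e, a m) = E(e, m)` (`conj_eich`).  For `e ≠ 0` in `W₀` take `m, m' ∈ W₀` with `e, m, m'`
independent: `a e ∈ ⟨e, m⟩ ⊓ ⟨e, m'⟩ = ⟨e⟩` (`comm_eich`, `O.comm_conj`), `a e = λ e`, `λ² = 1`, `a e = e`.  For `m ∈ fix u`: `a m - m ∈ ⟨e⟩ ⊓ ⟨e'⟩ = 0` (`eich_eq`; `a m ∈ fix u`).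
So `fix u ≤ fix a`; take `perp`. -/
theorem comm_le {W₀ : Submodule F V} (h1 : W₀ ≤ O.comm u) (h2 : TS Q W₀) (h3 : 3 ≤ finrank F W₀) (h4 : ∀ p ∈ P, ∀ x ∈ W₀, p.1 x ∈ W₀) : O.comm a ≤ O.comm u := by
  have q := s.gq
  have k : ∀ e ∈ W₀, ∀ m ∈ O.fix u, a * eich Q e m * a⁻¹ = eich Q e m := fun e he m hm => by
    have b := pwf (h1 he) hm
    rw [mul_inv_eq_iff_eq_mul]
    refine (s.pa (q.chain s.syl (A := ⊥) (B := ⊥) (C := W₀) (D := perp Q W₀) le_rfl bot_le h2.le_perp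
      (by rw [perp_perp q.nd]; exact h2.le_perp) (by simp) (by simp) h4 (perp_inv h4)
      (s.memX (q.eich_mem e m) (eich_cm (O.mem_fix.1 (s.wf (h1 he))) (O.mem_fix.1 hm))) (by simp) (by simp) (fun x hx => ?_) fun x hx => ?_)).symm
    · rw [nl_eich' (h2 e he) b (h2.polar_eq he hx), polar_comm, pwf (h1 hx) hm, zero_smul]; exact zero_mem _
    · rw [nl_eich' (h2 e he) b (mem_perp.1 hx e he)]; exact W₀.smul_mem _ he
  have k1 : ∀ e ∈ W₀, e ≠ 0 → a.1 e = e := fun e he e0 => by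
    have sp : ∀ m ∈ W₀, m ∉ F ∙ e → a.1 e ∈ Submodule.span F {e, m} := fun m hm n => by
      have c := q.comm_eich (h2 e he) e0 (h2.polar_eq he hm) n
      rw [← c, ← k e he m (s.wf (h1 hm)), O.comm_conj, c]
      exact ⟨e, Submodule.subset_span (by simp), rfl⟩
    obtain ⟨m, hm, n⟩ := Gq.exists_nmem (W := W₀) (W' := F ∙ e) (by have := Gq.fr1 (F := F) e; omega)
    obtain ⟨m', hm', n'⟩ := Gq.exists_nmem (W := W₀) (W' := Submodule.span F {e, m}) (by have := finrank_span_pair_le (F := F) e m; omega)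
    have ee : e ∈ Submodule.span F {e, m} := Submodule.subset_span (by simp)
    obtain ⟨α, β, r⟩ := Submodule.mem_span_pair.1 (sp m' hm' fun c => n' ((Submodule.span_singleton_le_iff_mem _ _).2 ee c))
    have := sub_mem (sp m hm n) (Submodule.smul_mem _ α ee)
    rw [← r, add_sub_cancel_left] at this
    rw [smul_nmem n' this, zero_smul, add_zero] at r
    have := congrArg (·.1 e) s.a2
    simp only [O.mul_apply, O.one_apply, ← r, map_smul, smul_smul] at this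
    rw [← r, sq_inj_of_two two0 (a := α) (b := 1) (by
      rw [pow_two, one_pow]; exact smul_left_injective F e0 (this.trans (one_smul F e).symm)), one_smul]
  rw [← O.perp_fix q.nd, ← O.perp_fix q.nd]
  refine perp_anti fun m hm => ?_
  have k2 : ∀ e ∈ W₀, e ≠ 0 → nl a m ∈ F ∙ e := fun e he e0 => by
    have := k e he m hm
    rw [conj_eich, k1 e he e0] at this
    exact (q.eich_eq (h2 e he) e0 (by rw [← pwf (h1 he) hm, ← O.map_polar a e m, k1 e he e0]; rfl) (pwf (h1 he) hm)).1 this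
  obtain ⟨e, he, e0⟩ := Gq.exists_nmem (W := W₀) (W' := ⊥) (by rw [finrank_bot]; omega)
  obtain ⟨e', he', n⟩ := Gq.exists_nmem (W := W₀) (W' := F ∙ e) (by have := Gq.fr1 (F := F) e; omega)
  obtain ⟨c, hc⟩ := Submodule.mem_span_singleton.1 (k2 e' he' fun c => n (c ▸ zero_mem _))
  rw [mem_fix, ← hc, smul_nmem (c := c) n (hc ▸ k2 e he e0), zero_smul]

/-- `e = N v₁`, `H = W ⊓ v₁^⊥ ∋ e, m = N v` (`Q_nl`, `nl_sym`).  `u g u⁻¹ = E(e, v + m) E(m, v₁ + e) = g` (`eich_add`, `eich_sw`, `eich_sq`, `eich_comm`).  `p v₁ - v₁ ∈ fix u` for `p ∈ P`, so `H`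
is invariant.  `chain` with `⟨e⟩, H, W, W^⊥`: `E(m, v₁) x = x + B(v₁, x) m`, `E(e, v) x = x + B(v, x) e` for `x ∈ W^⊥`. -/
theorem gm_mem (he : ∀ p ∈ P, p.1 (nl u v₁) = nl u v₁) (h0 : Q (nl u v₁) = 0) (hH : TS Q (O.comm u ⊓ perp Q (F ∙ v₁))) (hv : polar Q (nl u v₁) v = 0) :
    eich Q (nl u v₁) v * eich Q (nl u v) v₁ ∈ P := by
  have q := s.gq
  have mv : polar Q (nl u v) v₁ = 0 := by rw [nl_sym s.u2, polar_comm, hv]
  have eH : nl u v₁ ∈ O.comm u ⊓ perp Q (F ∙ v₁) := ⟨nl_mem _ _, mem_perp_singleton.2 (Q_nl u v₁ ▸ h0)⟩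
  have mH : nl u v ∈ O.comm u ⊓ perp Q (F ∙ v₁) := ⟨nl_mem _ _, mem_perp_singleton.2 ((polar_comm ..).trans mv)⟩
  have h1 := hH _ mH
  have em := hH.polar_eq eH mH
  have k := fun x (hx : x ∈ O.fix u) => gm_ap s.u2 h0 h1 hv hx
  refine q.chain s.syl (A := F ∙ nl u v₁) (B := O.comm u ⊓ perp Q (F ∙ v₁)) (C := O.comm u) (D := O.fix u)
    ((Submodule.span_singleton_le_iff_mem _ _).2 eH) inf_le_left (fun _ => s.wf) (by rw [O.perp_fix q.nd]; exact fun _ => s.wf)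
    (span_inv he) (s.H_inv he) (fun p hp x => comm_inv (s.pu hp)) (fun p hp x => fix_inv (s.pu hp))
    (s.memX (mul_mem (q.eich_mem _ _) (q.eich_mem _ _)) ?_) (fun x hx => ?_) (fun x hx => ?_)
    (fun x hx => k x (s.wf hx) ▸ add_mem (Submodule.smul_mem _ _ mH) (Submodule.smul_mem _ _ eH))
    fun x hx => k x hx ▸ add_mem (Submodule.smul_mem _ _ mH.1) (Submodule.smul_mem _ _ eH.1)
  · rw [eq_comm, ← mul_inv_eq_iff_eq_mul, ← conj_mul, conj_eich, conj_eich, nl_zero.1 (nl_nl s.u2 _), nl_zero.1 (nl_nl s.u2 _), ap_eq u v,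
      ap_eq u v₁, eich_add h0 hv em, add_comm v₁, eich_add h1 ((polar_comm ..).trans em) mv, eich_sw h0 h1 em, mul_assoc,
      ← mul_assoc (eich Q (nl u v₁) (nl u v)), eich_sq, one_mul]
  · obtain ⟨c, rfl⟩ := Submodule.mem_span_singleton.1 hx
    rw [map_smul, k _ (s.wf eH.1), ← Q_nl, h0, polar_comm, hv]; simp
  · rw [k x (s.wf hx.1), mem_perp_singleton.1 hx.2, zero_smul, zero_add]; exact sm_self _ _

/-- `M = nl a` kills `W^⊥ ≥ W` and `v₁`; `B(M x, v₁) = 0`, so `[V, a] ≤ H`.  Let `x, v ⊥ e`, `g` from `gm_mem`.  `g x ∈ x + W + ⟨v₁⟩`, so `M x = M (g x) = g (M x) = M x + B(v, M x) e`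
(`nl_conj`).  Hence `M x ∈ e^⊥⊥ = ⟨e⟩` for `x ∈ e^⊥`, rank `≤ 2`, `lng_of`.  If `Lng a`: `M` does not kill the hyperplane `e^⊥` (rank `2`), so `e ∈ [V, a]`; `Lng.exists_eq`:
`a = E(e, m)`, `m = N v ∈ H`, `B(e, v) = B(v₁, m) = 0`. -/
theorem core (he : ∀ p ∈ P, p.1 (nl u v₁) = nl u v₁) (h0 : Q (nl u v₁) = 0) (e0 : nl u v₁ ≠ 0) (hH : TS Q (O.comm u ⊓ perp Q (F ∙ v₁)))
    (h : O.comm a ≤ O.comm u) (ha : a.1 v₁ = v₁) : a = 1 ∨ Sh u (nl u v₁) a := by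
  have q := s.gq
  have f := q.fix_le h
  have z : ∀ x, nl a (nl u x) = 0 := fun x => f (nl_nl s.u2 x)
  have aH : O.comm a ≤ O.comm u ⊓ perp Q (F ∙ v₁) := le_inf h (by
    rintro _ ⟨x, rfl⟩
    exact mem_perp_singleton.2 (by change polar Q v₁ (nl a x) = 0; rw [← nl_sym s.a2, nl_zero.2 ha, polar_zero_left]))
  have k : ∀ x, polar Q (nl u v₁) x = 0 → nl a x ∈ F ∙ nl u v₁ := fun x hx => q.mem_span fun v hv => by
    have mv : polar Q (nl u v) v₁ = 0 := by rw [nl_sym s.u2, polar_comm, hv]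
    have h1 := hH _ ⟨nl_mem u v, mem_perp_singleton.2 ((polar_comm ..).trans mv)⟩
    have c := nl_conj (s.pa (s.gm_mem he h0 hH hv)) x
    rw [ap_eq _ (nl a x), gm_ap s.u2 h0 h1 hv (s.wf (h (nl_mem a x))), mem_perp_singleton.1 (aH (nl_mem a x)).2, zero_smul, zero_add,
      O.mul_apply, eich_apply_of_perp h0 hv (by
        simp [eich_ap h1 mv, polar_smul_right', hx, pwf (nl_mem u _) (nl_nl s.u2 _), polar_comm _ (nl u v₁) v₁, ← Q_nl, h0]), eich_ap h1 mv] at c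
    simp only [map_add, map_smul, z, nl_zero.2 ha, smul_zero, add_zero, left_eq_add] at c
    exact (smul_eq_zero_iff_left e0).1 c
  obtain ⟨y, -, hy⟩ := exists_perp_polar_eq q.nd (W := ⊥) (u := nl u v₁) e0 1
  have d : ∀ x, nl a x = nl a (x - polar Q (nl u v₁) x • y) + polar Q (nl u v₁) x • nl a y := fun x => by simp
  have o : ∀ x, polar Q (nl u v₁) (x - polar Q (nl u v₁) x • y) = 0 := fun x => by simp [polar_smul_right', hy]
  refine (q.lng_of s.a2 (hH.mono aH) ((Submodule.finrank_mono (t := Submodule.span F {nl u v₁, nl a y}) ?_).trans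
    (finrank_span_pair_le _ _))).imp_right fun l => ?_
  · rintro _ ⟨x, rfl⟩
    change nl a x ∈ _
    rw [d x]
    exact add_mem (Submodule.span_mono (s := {nl u v₁}) (by simp) (k _ (o x))) (Submodule.smul_mem _ _ (Submodule.subset_span (by simp)))
  have m : nl u v₁ ∈ O.comm a := by_contra fun n => by
    have : O.comm a ≤ F ∙ nl a y := by
      rintro _ ⟨x, rfl⟩
      change nl a x ∈ _
      obtain ⟨c, hc⟩ := Submodule.mem_span_singleton.1 (k _ (o x))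
      rw [d x, ← hc, smul_nmem (c := c) n (hc ▸ nl_mem a _), zero_smul, zero_add]
      exact sm_self _ _
    have := (Submodule.finrank_mono this).trans (Gq.fr1 _)
    rw [l.finrank_comm q.nd] at this
    omega
  obtain ⟨m, l', r⟩ := l.exists_eq q.nd m e0
  obtain ⟨⟨v, rfl⟩, o'⟩ := aH (r ▸ l'.right_mem q.nd)
  exact ⟨v, by rw [nl_sym s.u2]; exact mem_perp_singleton.1 o', l', r⟩

/-- If `[V, a] < W` then `fix u < fix a` (`perp`), both are invariant under `P`; `exists_fix` gives `v₁`, `p v₁ - v₁ ∈ fix u = ker N`. -/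
theorem exists_v (h : O.comm a ≤ O.comm u) (h' : O.comm a ≠ O.comm u) : ∃ v₁, a.1 v₁ = v₁ ∧ nl u v₁ ≠ 0 ∧ ∀ p ∈ P, p.1 (nl u v₁) = nl u v₁ := by
  obtain ⟨v₁, h1, h2, h3⟩ := exists_fix s.syl.pgroup ((s.gq.fix_le h).lt_of_ne fun e => h' (by
    rw [← O.perp_fix s.gq.nd, ← e, O.perp_fix s.gq.nd])) (fun p hp x => fix_inv (s.pu hp)) fun p hp x => fix_inv (s.pa hp)
  exact ⟨v₁, O.mem_fix.1 h1, h2, fun p hp => by rw [← nl_conj (s.pu hp), ap_eq p, map_add, mem_fix.1 (h3 p hp), add_zero]⟩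

/-- Type `a_s`, `s ≥ 4`: `comm_le` with `W₀ = W`, `exists_v`, `core`. -/
theorem cen_a (h : TS Q (O.comm u)) (h4 : 3 ≤ finrank F (O.comm u)) : a = 1 ∨ O.comm a = O.comm u ∨ ∃ e ∈ O.comm u, Sh u e a := by
  have le := s.comm_le le_rfl h h4 fun p hp x => comm_inv (s.pu hp)
  by_cases e : O.comm a = O.comm u
  · exact .inr (.inl e)
  obtain ⟨v₁, h1, h2, h3⟩ := s.exists_v le e
  exact (s.core h3 (h _ (nl_mem _ _)) h2 (h.mono inf_le_left) le h1).imp_right fun k => .inr ⟨_, nl_mem _ _, k⟩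

/-- Type `c_s`, `s ≥ 4`.  `y = N y₁`, `W₀ = W ⊓ y₁^⊥` is totally singular (`B(y₁, N x) = B(y, x)`), of dimension `≥ 3`, invariant.  `comm_le`, `exists_v`: `e = N v₁` is fixed by the
`g = E(y, v) E(N v, y₁)`, `v ⊥ y` (`gm_mem`): `g e = e + B(y₁, e) N v + c y`.  Some `N v ∉ ⟨y⟩` (`N (y^⊥) = W₀`), so `B(y₁, e) = 0`, `g e = e + B(v, e) y`, `e ∈ y^⊥⊥`: `e = λ y`, `λ ≠ 0`,
`y₁ - λ⁻¹ v₁ ∈ fix u ≤ fix a`, `a y₁ = y₁`.  `core`. -/
theorem cen_c (c : Ch u y₁) (y0 : nl u y₁ ≠ 0) (h4 : 4 ≤ finrank F (O.comm u)) : a = 1 ∨ O.comm a = O.comm u ∨ Sh u (nl u y₁) a := by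
  have q := s.gq
  have ts := c.ts s.u2
  have fr := c.fr q y0
  have hy : ∀ p ∈ P, p.1 (nl u y₁) = nl u y₁ := fun p hp => c.fx p (s.pu hp)
  have le := s.comm_le inf_le_left ts (by omega) (s.H_inv hy)
  by_cases e : O.comm a = O.comm u
  · exact .inr (.inl e)
  obtain ⟨v₁, h1, h2, h3⟩ := s.exists_v le e
  refine (s.core hy c.q0 y0 ts le ?_).imp_right .inr
  have k : ∀ v, polar Q (nl u y₁) v = 0 → polar Q y₁ (nl u v₁) • nl u v + polar Q v (nl u v₁) • nl u y₁ = 0 := fun v hv => by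
    rw [← gm_ap s.u2 c.q0 (by rw [c.sq, hv, zero_pow two_ne_zero]) hv (nl_nl s.u2 v₁), nl_zero]
    exact h3 _ (s.gm_mem hy c.q0 ts hv)
  obtain ⟨_, ⟨⟨v, rfl⟩, hv⟩, n⟩ := Gq.exists_nmem (W := O.comm u ⊓ perp Q (F ∙ y₁)) (W' := F ∙ nl u y₁) (by
    have := Gq.fr1 (F := F) (nl u y₁); omega)
  have o := smul_nmem n (c := polar Q y₁ (nl u v₁)) (by
    change _ • nl u v ∈ _
    rw [eq_neg_of_add_eq_zero_left (k v (by rw [nl_sym s.u2]; exact mem_perp_singleton.1 hv))]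
    exact neg_mem (sm_self _ _))
  obtain ⟨l, hl⟩ := Submodule.mem_span_singleton.1 (q.mem_span (e := nl u y₁) (x := nl u v₁) fun v hv => by
    have := k v hv
    rwa [o, zero_smul, zero_add, smul_eq_zero_iff_left y0] at this)
  have := q.fix_le le (show v₁ - l • y₁ ∈ O.fix u by rw [mem_fix, map_sub, map_smul, hl, sub_self])
  rw [mem_fix, map_sub, nl_zero.2 h1, map_smul, zero_sub, neg_eq_zero, smul_eq_zero_iff_right fun e => h2 (by rw [← hl, e, zero_smul])] at this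
  exact nl_zero.1 this

/-- Type `c₂`: the singular vectors of `W` lie in `⟨y⟩` (`W ⊓ y₁^⊥ < W`, dimension).  For `z ⊥ y`, `N z ∈ ⟨y⟩`, so `E(y, z)` commutes with `u` (`eich_eq`) and lies in `P` (`chain` with
`⊥, ⊥, ⟨y⟩, y^⊥`); `eq_eich`: `a = E(y, m)`.  `exists_fix` for `W < W^⊥` gives `x`; `e = x + λ w` singular, `w ∈ W` nonsingular; `p e - e ∈ W` is singular, so in `⟨y⟩`.
`g = E(e, w) ∈ P` (`chain` with `⊥, ⟨y⟩, ⟨y, e⟩, ⟨y, e⟩^⊥`), `g m - m = B(w, m) e + B(e, m) w + Q w B(e, m) e ∈ ⟨y⟩` (`eich_eq`): `e ∉ W`, `w ∉ ⟨y⟩`, so `B(e, m) = 0 = B(w, m)`; `m ⊥ W = ⟨y, w⟩`. -/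
theorem cen_2 (c : Ch u y₁) (y0 : nl u y₁ ≠ 0) (h2 : finrank F (O.comm u) = 2) : ∃ m ∈ O.fix u, a = eich Q (nl u y₁) m := by
  have q := s.gq
  have hy : ∀ p ∈ P, p.1 (nl u y₁) = nl u y₁ := fun p hp => c.fx p (s.pu hp)
  have sg := fun x => c.sing q s.u2 y0 h2 (x := x)
  have cm := fun x => c.cm q s.u2 y0 h2 (x := x)
  have ya := c.fx a s.au
  have q0 := c.q0
  have yW := nl_mem u y₁
  generalize nl u y₁ = y at *
  have ty := ts_span_singleton q0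
  obtain ⟨m, ym, rfl⟩ := q.eq_eich q0 y0 ya fun z hz => (s.pa (q.chain s.syl (A := ⊥) (B := ⊥) (C := F ∙ y) (D := perp Q (F ∙ y)) le_rfl
    bot_le ty.le_perp (by rw [perp_perp q.nd]; exact ty.le_perp) (by simp) (by simp) (span_inv hy) (perp_inv (span_inv hy))
    (s.memX (q.eich_mem _ _) (cm z hz).symm) (by simp) (by simp) (fun x hx => by
      obtain ⟨c, rfl⟩ := Submodule.mem_span_singleton.1 hx
      rw [map_smul, nl_eich' q0 hz (pp y), polar_comm, hz]; simp)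
    fun x hx => nl_eich' q0 hz (mem_perp_singleton.1 hx) ▸ sm_self _ _)).symm
  refine ⟨m, ?_, rfl⟩
  obtain ⟨w, wW, wy⟩ := Gq.exists_nmem (W := O.comm u) (W' := F ∙ y) (by have := Gq.fr1 (F := F) y; omega)
  obtain ⟨x, xf, xW, hx⟩ := exists_fix s.syl.pgroup (A := O.comm u) (B := O.fix u) (lt_of_le_of_ne (fun _ => s.wf) fun e => by
    have := O.finrank_comm_add_finrank_fix u
    have := q.dim
    rw [← e] at *
    omega) (fun p hp x => comm_inv (s.pu hp)) fun p hp x => fix_inv (s.pu hp)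
  obtain ⟨l, qe⟩ := sing_ex (mt (sg w wW) wy) (pwf wW xf)
  have ef := add_mem xf (Submodule.smul_mem _ l (s.wf wW))
  have eW : x + l • w ∉ O.comm u := fun k => xW ((add_mem_cancel_right (Submodule.smul_mem _ l wW)).1 k)
  have pe : ∀ p ∈ P, nl p (x + l • w) ∈ O.comm u := fun p hp => by
    rw [map_add, map_smul]; exact add_mem (hx p hp) (Submodule.smul_mem _ _ (sub_mem (comm_inv (s.pu hp) wW) wW))
  generalize x + l • w = e at qe ef eW pe
  have ye := pwf yW ef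
  have we := pwf wW ef
  have ew : polar Q e w = 0 := (polar_comm ..).trans we
  have tc := ts_span_pair q0 qe ye
  have yC : F ∙ y ≤ Submodule.span F {y, e} := Submodule.span_mono (by simp)
  have eC : e ∈ Submodule.span F {y, e} := Submodule.subset_span (by simp)
  have iC : ∀ p ∈ P, ∀ x ∈ Submodule.span F {y, e}, p.1 x ∈ Submodule.span F {y, e} := fun p hp x hx => by
    obtain ⟨α, β, rfl⟩ := Submodule.mem_span_pair.1 hx
    rw [map_add, map_smul, map_smul, hy p hp, ap_eq p e]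
    exact add_mem (yC (sm_self _ _)) (Submodule.smul_mem _ _ (add_mem eC (yC (sg _ (pe p hp) (by rw [Q_nl, polar_comm, pwf (pe p hp) ef])))))
  have gy : nl (eich Q e w) y = 0 := by rw [nl_eich' qe ew ((polar_comm ..).trans ye), pwf wW (s.wf yW), zero_smul]
  have k := s.pa (q.chain s.syl (A := ⊥) (B := F ∙ y) (C := Submodule.span F {y, e}) (D := perp Q (Submodule.span F {y, e})) bot_le yC
    tc.le_perp (by rw [perp_perp q.nd]; exact tc.le_perp) (by simp) (span_inv hy) iC (perp_inv iC)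
    (s.memX (q.eich_mem e w) (eich_cm (O.mem_fix.1 ef) (O.mem_fix.1 (s.wf wW)))) (by simp) (fun x hx => by
      obtain ⟨c, rfl⟩ := Submodule.mem_span_singleton.1 hx
      simp [gy]) (fun x hx => by
      obtain ⟨α, β, rfl⟩ := Submodule.mem_span_pair.1 hx
      simp [gy, nl_eich' qe ew (pp e), we]) fun x hx => nl_eich' qe ew (mem_perp_pair.1 hx).2 ▸ Submodule.smul_mem _ _ eC)
  rw [← mul_inv_eq_iff_eq_mul, conj_eich, nl_zero.1 gy, q.eich_eq q0 y0 (by rw [← nl_zero.1 gy, O.map_polar, ym]) ym, ← nl_apply,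
    nl_eich qe ew, add_right_comm, ← add_smul] at k
  have yw := (Submodule.span_singleton_le_iff_mem _ _).2 yW
  have o := smul_nmem eW ((add_mem_cancel_right (Submodule.smul_mem _ _ wW)).1 (yw k))
  rw [o, zero_smul, zero_add] at k
  rw [smul_nmem wy k, mul_zero, add_zero] at o
  rw [← O.perp_comm q.nd, ← Submodule.eq_of_le_of_finrank_le (sup_le yw ((Submodule.span_singleton_le_iff_mem _ _).2 wW))
    (by rw [finrank_sup_span_singleton' wy, finrank_span_singleton y0, h2]), perp_sup]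
  exact ⟨mem_perp_singleton.2 ym, mem_perp_singleton.2 o⟩

end St1

end Cfsg.Lib.OD
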