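import Cfsg.Agent.Lib.OD.G2

/-!
# OD: the types `a_s`, `c_s` (`s ≥ 4`): the facts `b2`, `b3`, `b4`.  Notation as in `G1`; `X = Ω ⊓ C(u)`.
-/

set_option autoImplicit false
set_option linter.unusedSectionVars false

namespace Cfsg.Lib.OD

open Subgroup Cfsg.Lib.BG Cfsg.Lib.Orth QuadraticMap Module
open scoped Cfsg.Lib.Transfer commutatorElement

variable {F V : Type*} [Field F] [Finite F] [CharP F 2] [AddCommGroup V] [Module F V] [FiniteDimensional F V] {Q : QuadraticForm F V}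
  {u a b c w : O Q} {e m x y v v' y₁ : V}

theorem eq_of_nl {g h : O Q} (k : ∀ x, nl g x = nl h x) : g = h := O.ext fun x => by rw [ap_eq, k, ← ap_eq]
theorem memX {g : O Q} (h : g ∈ Om Q) (k : g * u = u * g) : g ∈ Om Q ⊓ 𝐂[u] := ⟨h, mem_centralizer_singleton_iff.2 k⟩
theorem Cj.refl {G : Type*} [Group G] (X : Subgroup G) (w : G) : Cj X w w := ⟨1, one_mem _, by simp⟩
theorem comm_eich_le' {W : Submodule F V} (he : e ∈ W) (hm : m ∈ W) : O.comm (eich Q e m) ≤ W :=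
  (comm_eich_le e m).trans (Submodule.span_le.2 (Set.pair_subset he hm))

namespace Gq
variable (q : Gq Q) (u2 : u * u = 1)
include q u2

omit u2 in
/-- `commutator_eich`: `[u, E(e, v)] = E(e, N v)`; conjugate `u` by `E(e, v)`. -/
theorem b2_of (he : u.1 e = e) (h0 : Q e = 0) (hv : polar Q e v = 0) : Cj (Om Q) u (u * eich Q e (nl u v)) := ⟨eich Q e (u.1 v), q.eich_mem _ _, by
  have := commutator_eich (g := u⁻¹) h0 (z := u.1 v) (by rw [← hv, ← O.map_polar u e v, he]) ((O.inv_apply_eq u).2 he.symm)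
  rw [O.inv_apply_apply, sub_eq F, add_comm, ← sub_eq F] at this
  rw [nl_apply, ← this, commutatorElement_def]; group⟩

/-- `f = N (v + v')`, `g = E(f, c (v + v'))`, `c = B(N v, v')⁻¹`: `B(f, v + v') = Q f = 0` (`Q_nl`), `u g u⁻¹ = E(f, c (v + v') + c f) = g` (`eich_add_smul_self`), `g e = e`, `g (N v) = N v'`. -/
theorem tr (he : e ∈ O.comm u) (hv : polar Q e v = 0) (hv' : polar Q e v' = 0) (h1 : Q (nl u v) = 0) (h2 : Q (nl u v') = 0)
    (h : polar Q (nl u v) v' ≠ 0) : Cj (Om Q ⊓ 𝐂[u]) (eich Q e (nl u v)) (eich Q e (nl u v')) := by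
  have w : ∀ {x}, x ∈ O.comm u → ∀ y, polar Q (nl u y) x = 0 := fun hx y => pwf (nl_mem u y) (comm_le_fix two0 u2 hx)
  have qf : Q (nl u (v + v')) = 0 := by rw [map_add, Q_add, h1, h2, w (nl_mem u _)]; simp
  have o : polar Q (nl u (v + v')) ((polar Q (nl u v) v')⁻¹ • (v + v')) = 0 := by rw [polar_smul_right', polar_comm _ _ (v + v'), ← Q_nl, qf, mul_zero]
  refine ⟨eich Q (nl u (v + v')) ((polar Q (nl u v) v')⁻¹ • (v + v')), memX (q.eich_mem _ _) ?_, ?_⟩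
  · rw [eq_comm, ← mul_inv_eq_iff_eq_mul, conj_eich, nl_zero.1 (nl_nl u2 _), map_smul, ap_eq u (v + v'), smul_add, eich_add_smul_self qf o]
  · rw [conj_eich, eich_apply_of_perp qf o (w he _), eich_apply_of_perp qf o (w (nl_mem u _) _), polar_smul_left', polar_smul_left',
      polar_add_left, polar_add_left, polar_comm _ v e, hv, polar_comm _ v' e, hv', ← Q_nl, h1, polar_comm _ v', zero_add, zero_add,
      inv_mul_cancel₀ h, mul_zero, zero_smul, add_zero, one_smul, map_add, ← add_assoc, vv F, zero_add]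

/-- `v' ⊥ e` with `B(N v, v') = 1` (`exists_perp_polar_eq`); `tr` for `v'` and `v + v'`, `eich_add`. -/
theorem b3_of (he : e ∈ O.comm u) (hs : ∀ v, polar Q e v = 0 → Q (nl u v) = 0) (h : Sh u e w) : Fu (Om Q ⊓ 𝐂[u]) w := by
  obtain ⟨v, hv, l, rfl⟩ := h
  obtain ⟨v', hv', k⟩ := exists_perp_polar_eq q.nd l.notMem 1
  rw [mem_perp_singleton] at hv'
  have o : polar Q e (v + v') = 0 := by rw [polar_add_right, hv, hv', add_zero]
  obtain ⟨a, ha, a1⟩ := q.tr u2 he hv hv' l.right (hs _ hv') (k ▸ one_ne_zero)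
  obtain ⟨b, hb, b1⟩ := q.tr u2 he hv o l.right (hs _ o) (by rw [polar_add_right, polar_comm, ← Q_nl, l.right, k, zero_add]; exact one_ne_zero)
  exact ⟨memX (q.eich_mem _ _) (eich_cm (O.mem_fix.1 (comm_le_fix two0 u2 he)) (nl_zero.1 (nl_nl u2 _))), eich_sq _ _, a, ha, b, hb, by
    rw [a1, b1, map_add, eich_add l.left l.perp (pwf he (nl_nl u2 _))]⟩

/-- `u a b = E(y, m)`, so `u = E(y, m')` has rank at most two (`eich_add`, `eich_sq`, `comm_eich_le`). -/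
theorem b4_c (h4 : 3 ≤ finrank F (O.comm u)) (ha : Sh u y a) (hb : Sh u y b) (hc : Sh u y c) : u * a * b ≠ c := fun k => by
  obtain ⟨_, -, la, rfl⟩ := ha
  obtain ⟨_, -, lb, rfl⟩ := hb
  obtain ⟨_, -, lc, rfl⟩ := hc
  rw [← eq_mul_inv_iff_mul_eq, ← eq_mul_inv_iff_mul_eq, inv_eq_of_mul_eq_one_left (eich_sq _ _), inv_eq_of_mul_eq_one_left (eich_sq _ _),
    ← eich_add la.left lc.perp lb.perp, ← eich_add la.left (by rw [polar_add_right, lc.perp, lb.perp, add_zero]) la.perp] at k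
  have := (Submodule.finrank_mono (k ▸ comm_eich_le _ _ : O.comm u ≤ _)).trans (finrank_span_pair_le _ _)
  omega

/-- `[V, a] ≤ W`, and `γ_a² = 0`: `N x ∈ [V, a]` implies `N_a x = 0`. -/
def Nil (u a : O Q) : Prop := O.comm a ≤ O.comm u ∧ finrank F (O.comm a) ≤ 2 ∧ ∀ x, nl u x ∈ O.comm a → nl a x = 0

/-- `a = E(e, m)`, `e = N v₁`, `m = N v`, `N x = λ e + μ m`: `x - λ v₁ - μ v ∈ W^⊥`; `B(e, x)`, `B(m, x)` vanish (`Q_nl`, `nl_sym`). -/
theorem nil_of (he : e ∈ O.comm u) (h : Sh u e a) : Nil u a := by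
  obtain ⟨v, hv, l, rfl⟩ := h
  obtain ⟨v₁, rfl⟩ := mem_comm.1 he
  refine ⟨comm_eich_le' he (nl_mem _ _), finrank_comm_le_of_mem_longSet l.lng.mem, fun x hx => ?_⟩
  obtain ⟨α, β, k⟩ := Submodule.mem_span_pair.1 (comm_eich_le _ _ hx)
  have z : x - α • v₁ - β • v ∈ O.fix u := by rw [mem_fix, map_sub, map_sub, map_smul, map_smul, ← k]; abel
  have h1 := pwf he z
  have h2 := pwf (nl_mem u v) z
  rw [polar_sub_right, polar_sub_right, polar_smul_right', polar_smul_right'] at h1 h2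
  rw [polar_comm _ _ v₁, ← Q_nl, l.left, hv] at h1
  rw [polar_comm _ _ v, ← Q_nl, l.right, nl_sym u2 v v₁, polar_comm _ v, hv] at h2
  simp only [mul_zero, sub_zero] at h1 h2
  rw [nl_eich' l.left l.perp h1, h2, zero_smul]

/-- For `g, h` with `[V, ·] ≤ W ≤ W^⊥ ≤ fix`: `N_{g h} = N_g + N_h`. -/
theorem nl_mul {g h : O Q} (hg : O.comm g ≤ O.comm u) (hh : O.comm h ≤ O.comm u) (x : V) : nl (g * h) x = nl g x + nl h x := by
  rw [nl_mul', mem_fix.1 (q.fix_le hg (comm_le_fix two0 u2 (hh (nl_mem h x)))), add_zero]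

theorem comm_mul {g h : O Q} (hg : O.comm g ≤ O.comm u) (hh : O.comm h ≤ O.comm u) : O.comm (g * h) ≤ O.comm u := by
  rintro _ ⟨x, rfl⟩
  exact (q.nl_mul u2 hg hh x).symm ▸ add_mem (hg (nl_mem g x)) (hh (nl_mem h x))

/-- `N = N_a + N_b + N_c`.  For `w = N x ∈ [V, c]`: `w = N_a x + N_b x`.  So `W ≤ [V, a] ⊔ [V, b]`, dimension at most four. -/
theorem b4_a (h6 : 5 ≤ finrank F (O.comm u)) (ha : Nil u a) (hb : Nil u b) (hc : Nil u c) : u * a * b ≠ c := fun k => by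
  have two : (2 : F) = 0 := two0
  have e : ∀ x, nl c x = nl u x + nl a x + nl b x := fun x => by
    rw [← k, q.nl_mul u2 (q.comm_mul u2 le_rfl ha.1) hb.1, q.nl_mul u2 le_rfl ha.1]
  have : O.comm u ≤ O.comm a ⊔ O.comm b := by
    rintro _ ⟨x, rfl⟩
    obtain ⟨x', k⟩ := mem_comm.1 (hc.1 (nl_mem c x))
    have z := hc.2.2 x' (k ▸ nl_mem c x)
    change nl u x ∈ _
    rw [show nl u x = nl a (x + x') + nl b (x + x') by
      rw [map_add, map_add]
      linear_combination (norm := (match_scalars <;> grind)) (1 : F) • e x + k + e x' + z]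
    exact Submodule.add_mem_sup (nl_mem _ _) (nl_mem _ _)
  have := (Submodule.finrank_mono this).trans (Submodule.finrank_add_le_finrank_add_finrank _ _)
  have := ha.2.1
  have := hb.2.1
  omega

/-- Choose a linear `S` with `N (S w) = w` on `W` (`LinearMap.exists_rightInverse_of_surjective` for `rangeRestrict`); `γ_g w = N_g (S w)` is additive in `g` (`nl_mul`), `γ_u = 1`,
`γ_g γ_g = 0` for `Nil u g`.  `α β + β α = 1`, `α γ + γ α = 1`, `β γ + γ β = 0`, so `(1 + α + β + γ)² = 1 ≠ 0` on `W ≠ 0`. -/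
theorem b4_n (u1 : u ≠ 1) (ha : Nil u a) (hb : Nil u b) (hc : Nil u c) (h1 : Nil u (u * a * b)) (h2 : Nil u (u * a * c)) (h3 : Nil u (b * c)) :
    ¬ Nil u (u * a * b * c) := fun h4 => u1 (eq_one_of fun x => by
  have two : (2 : F) = 0 := two0
  have m := fun {g h} => q.nl_mul u2 (g := g) (h := h)
  have ua := q.comm_mul u2 le_rfl ha.1
  obtain ⟨xa, ea⟩ := mem_comm.1 (ha.1 (nl_mem a x))
  obtain ⟨xb, eb⟩ := mem_comm.1 (hb.1 (nl_mem b x))
  obtain ⟨xc, ec⟩ := mem_comm.1 (hc.1 (nl_mem c x))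
  have za := ha.2.2 xa (ea ▸ nl_mem a x)
  have zb := hb.2.2 xb (eb ▸ nl_mem b x)
  have zc := hc.2.2 xc (ec ▸ nl_mem c x)
  have k1 := h1.2.2 (x + xa + xb) ⟨x, by change nl _ x = _; simp only [m ua hb.1, m le_rfl ha.1, map_add, ea, eb]⟩
  have k2 := h2.2.2 (x + xa + xc) ⟨x, by change nl _ x = _; simp only [m ua hc.1, m le_rfl ha.1, map_add, ea, ec]⟩
  have k3 := h3.2.2 (xb + xc) ⟨x, by change nl _ x = _; simp only [m hb.1 hc.1, map_add, eb, ec]⟩
  have k4 := h4.2.2 (x + xa + xb + xc) ⟨x, by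
    change nl _ x = _; simp only [m h1.1 hc.1, m ua hb.1, m le_rfl ha.1, map_add, ea, eb, ec]⟩
  simp only [m h1.1 hc.1, m ua hb.1, m ua hc.1, m le_rfl ha.1, m hb.1 hc.1, map_add, ea, eb, ec, za, zb, zc] at k1 k2 k3 k4
  linear_combination (norm := (match_scalars <;> grind)) (1 : F) • k1 + k2 + k3 + k4)

/-- `w = E(e₁, e₂)`, `e_i = N v_i`; `χ(N x, N x') = B(x, N x')` is alternating on `W`.  Pick `x₁, x₂` with `B(e_i, x_j) = δ_{ij}` (`exists_perp_polar_eq`), replace `x₂` by `x₂ + λ v₁` so that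
`B(N x₁, x₂) = 0`; `f_i = N x_i`; `e₁, e₂, f₁, f₂` is a basis of `W`, `V = W^⊥ + ⟨v_i, x_i⟩`, `u = E(e₁, f₁) E(e₂, f₂)` (`nl_mul`; compare on `W^⊥`, `v_i`, `x_i`).
`a = w`, `b = E(e₁, f₂)`, `c = E(e₂, f₁)`; `a b = E(e₁, e₂ + f₂)`, `a c = E(e₂, e₁ + f₁)`, `u b c = E(e₁ + e₂, f₁ + f₂)`, `u a b c = E(e₁ + e₂, f₁ + f₂ + e₂)`
(`eich_add`, `eich_sw`); `w = E(e₂, e₁) = E(e₁ + e₂, e₂)`; `tr` six times. -/
theorem cfg_a (h : TS Q (O.comm u)) (h4 : finrank F (O.comm u) = 4) (he : e ∈ O.comm u) (hw : Sh u e w) : Cfg (Om Q ⊓ 𝐂[u]) u w := by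
  have two : (2 : F) = 0 := two0
  obtain ⟨v₂, h12, l, rfl⟩ := hw
  obtain ⟨v₁, rfl⟩ := mem_comm.1 he
  have sy : ∀ x y, polar Q (nl u x) y = polar Q (nl u y) x := fun x y => by rw [nl_sym u2, polar_comm]
  have al : ∀ x, polar Q (nl u x) x = 0 := fun x => by rw [polar_comm, ← Q_nl, h _ (nl_mem u x)]
  obtain ⟨x₁, h21, h11⟩ := exists_perp_polar_eq q.nd l.symm.notMem 1
  obtain ⟨x₂, h12', h22, hx⟩ : ∃ x₂, polar Q (nl u v₁) x₂ = 0 ∧ polar Q (nl u v₂) x₂ = 1 ∧ polar Q (nl u x₁) x₂ = 0 := by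
    obtain ⟨x, k1, k2⟩ := exists_perp_polar_eq q.nd l.notMem 1
    refine ⟨x + polar Q (nl u x₁) x • v₁, ?_, ?_, ?_⟩ <;>
      simp only [polar_add_right, polar_smul_right', mem_perp_singleton.1 k1, k2, al, sy v₂ v₁, h12, sy x₁ v₁, h11] <;> grind
  rw [mem_perp_singleton] at h21
  have g := And.intro (And.intro h12 (And.intro h11 (And.intro h21 (And.intro h12' (And.intro h22 hx)))))
    (And.intro ((sy ..).trans h12) (And.intro ((sy ..).trans h11) (And.intro ((sy ..).trans h21) (And.intro ((sy ..).trans h12')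
      (And.intro ((sy ..).trans h22) ((sy ..).trans hx))))))
  have nE : ∀ p r x, nl (eich Q (nl u p) (nl u r)) x = polar Q (nl u r) x • nl u p + polar Q (nl u p) x • nl u r := fun p r x => by
    rw [nl_eich (h _ (nl_mem u p)) (pwf (nl_mem u p) (nl_nl u2 r)), h _ (nl_mem u r), zero_mul, zero_smul, add_zero]
  have cE : ∀ p r, O.comm (eich Q (nl u p) (nl u r)) ≤ O.comm u := fun p r => comm_eich_le' (nl_mem u p) (nl_mem u r)
  have m := fun {g h} => q.nl_mul u2 (g := g) (h := h)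
  have cm := fun {g h} => q.comm_mul u2 (g := g) (h := h)
  have L : ∀ c : Fin 4 → F, (∀ y ∈ [x₁, x₂, v₁, v₂], polar Q (∑ i, c i • ![nl u v₁, nl u v₂, nl u x₁, nl u x₂] i) y = 0) → ∀ i, c i = 0 :=
    fun c k i => by
      simp [Fin.sum_univ_four, polar_smul_left', g, al] at k
      fin_cases i <;> simp [k]
  have sp : Submodule.span F (Set.range ![nl u v₁, nl u v₂, nl u x₁, nl u x₂]) = O.comm u := Submodule.eq_of_le_of_finrank_le
    (Submodule.span_le.2 (by rintro _ ⟨i, rfl⟩; fin_cases i <;> exact nl_mem u _)) (by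
      rw [finrank_span_eq_card (Fintype.linearIndependent_iff.2 fun c k => L c fun y _ => by rw [k, polar_zero_left]), h4]; rfl)
  have N : ∀ y, nl u y = polar Q (nl u x₁) y • nl u v₁ + polar Q (nl u v₁) y • nl u x₁ + (polar Q (nl u x₂) y • nl u v₂ +
      polar Q (nl u v₂) y • nl u x₂) := fun y => by
    rw [← nE, ← nE, ← m (cE _ _) (cE _ _), ← sub_eq_zero]
    obtain ⟨c, hc⟩ := (Submodule.mem_span_range_iff_exists_fun F).1 (sp.ge (sub_mem (nl_mem u y) (cm (cE v₁ x₁) (cE v₂ x₂) (nl_mem _ y))))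
    rw [← hc, funext (L c (by rw [hc]; simp [m (cE _ _) (cE _ _), nE, polar_smul_left', g, al, sy y]))]
    simp
  have T : ∀ {g g' : O Q} (p v v' : V), polar Q (nl u p) v = 0 → polar Q (nl u p) v' = 0 → polar Q (nl u v) v' = 1 →
      (∀ y, nl g y = nl (eich Q (nl u p) (nl u v)) y) → (∀ y, nl g' y = nl (eich Q (nl u p) (nl u v')) y) → Cj (Om Q ⊓ 𝐂[u]) g g' :=
    fun p v v' k1 k2 k3 k4 k5 => by
      rw [eq_of_nl k4, eq_of_nl k5]
      exact q.tr u2 (nl_mem u p) k1 k2 (h _ (nl_mem _ _)) (h _ (nl_mem _ _)) (k3 ▸ one_ne_zero)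
  refine ⟨_, eich Q (nl u v₁) (nl u x₂), eich Q (nl u v₂) (nl u x₁), .refl _ _, T v₁ v₂ x₂ ?_ ?_ ?_ (fun y => ?_) fun y => ?_,
    T v₂ v₁ x₁ ?_ ?_ ?_ (fun y => ?_) fun y => ?_, T v₁ v₂ (v₂ + x₂) ?_ ?_ ?_ (fun y => ?_) fun y => ?_,
    T v₂ v₁ (v₁ + x₁) ?_ ?_ ?_ (fun y => ?_) fun y => ?_, T (v₁ + v₂) v₂ (x₁ + x₂) ?_ ?_ ?_ (fun y => ?_) fun y => ?_,
    T (v₁ + v₂) v₂ (x₁ + x₂ + v₂) ?_ ?_ ?_ (fun y => ?_) fun y => ?_⟩ <;>
  (try simp only [m (cm (cm le_rfl (cE _ _)) (cE _ _)) (cE _ _), m (cm le_rfl (cE _ _)) (cE _ _), m le_rfl (cE _ _), m (cE _ _) (cE _ _), nE]) <;>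
  (try simp only [map_add, polar_add_left, polar_add_right, g, al]) <;>
  first | module | linear_combination two | (match_scalars <;> grind) | (rw [N y]; match_scalars <;> grind)

end Gq

end Cfsg.Lib.OD
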