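import Cfsg.Agent.Lib.OD.Au
import Cfsg.Agent.Lib.OD.G2
import Cfsg.Agent.Lib.Orth.Sum

/-!
# OD, Step 1 for `q = 2`, `dim V ≥ 10`: geometry of a totally singular line `ℓ = ⟨x, y⟩`, `z = E(x, y)`.  Notation as in `G1`.
-/

set_option autoImplicit false
set_option linter.unusedSectionVars false

namespace Cfsg.Lib.OD

open Subgroup Cfsg.Lib.BG Cfsg.Lib.Orth QuadraticMap Module
open scoped Cfsg.Lib.Transfer commutatorElement

variable {F V : Type*} [Field F] [Finite F] [CharP F 2] [AddCommGroup V] [Module F V] [FiniteDimensional F V] {Q : QuadraticForm F V}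
  {r s o c : O Q} {a b m m' u x y : V}

/-- `F = F₂`, `dim V ≥ 10`. -/
structure G2 (Q : QuadraticForm F V) : Prop extends Gq Q where
  two : ∀ c : F, c = 0 ∨ c = 1
  d10 : 10 ≤ finrank F V

/-- `ℓ`. -/
abbrev Ln (F : Type*) [Field F] [Module F V] (x y : V) : Submodule F V := Submodule.span F {x, y}
/-- `m ⊥ ℓ`. -/
def Pp (Q : QuadraticForm F V) (x y m : V) : Prop := polar Q x m = 0 ∧ polar Q y m = 0

theorem nl_ln (hx : r.1 x = x) (hy : r.1 y = y) (ha : a ∈ Ln F x y) : nl r a = 0 := by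
  obtain ⟨c, d, rfl⟩ := Submodule.mem_span_pair.1 ha
  simp [nl_zero.2 hx, nl_zero.2 hy]

/-- `Q_ℓ`. -/
def Ql (Q : QuadraticForm F V) (x y : V) : Subgroup (O Q) where
  carrier := {g | g.1 x = x ∧ g.1 y = y ∧ ∀ m, Pp Q x y m → nl g m ∈ Ln F x y}
  one_mem' := ⟨rfl, rfl, by simp [nl_apply]⟩
  mul_mem' := fun {g h} ⟨a1, a2, a3⟩ ⟨b1, b2, b3⟩ => ⟨by rw [O.mul_apply, b1, a1], by rw [O.mul_apply, b2, a2], fun m k => by
    rw [nl_mul', nl_ln a1 a2 (b3 m k), add_zero]; exact add_mem (a3 m k) (b3 m k)⟩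
  inv_mem' := fun {g} ⟨a1, a2, a3⟩ =>
    have b1 : (g⁻¹).1 x = x := (congrArg _ a1.symm).trans (O.inv_apply_apply g x)
    have b2 : (g⁻¹).1 y = y := (congrArg _ a2.symm).trans (O.inv_apply_apply g y)
    ⟨b1, b2, fun m k => by rw [nl_inv, nl_ln b1 b2 (a3 m k), add_zero]; exact neg_mem (a3 m k)⟩

/-- `Q_a = {E(a, m) | m ⊥ ℓ}`. -/
def Qe (Q : QuadraticForm F V) (x y a : V) (g : O Q) : Prop := ∃ m, Pp Q x y m ∧ g = eich Q a m

/-- Four hyperbolic pairs. -/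
structure Fr (Q : QuadraticForm F V) (e f : Fin 4 → V) : Prop where
  qe : ∀ i, Q (e i) = 0
  qf : ∀ i, Q (f i) = 0
  ee : ∀ i j, polar Q (e i) (e j) = 0
  ff : ∀ i j, polar Q (f i) (f j) = 0
  ef : ∀ i j, polar Q (e i) (f j) = if i = j then 1 else 0

theorem Pp.add (h : Pp Q x y m) (h' : Pp Q x y m') : Pp Q x y (m + m') := ⟨by rw [polar_add_right, h.1, h'.1, add_zero], by rw [polar_add_right, h.2, h'.2, add_zero]⟩
theorem Pp.of_mem (h : Pp Q x y m) (ha : a ∈ Ln F x y) : polar Q a m = 0 := mem_perp.1 (mem_perp_pair.2 h) a ha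
theorem pp_of_mem (l : IsLine Q x y) (ha : a ∈ Ln F x y) : Pp Q x y a ∧ Q a = 0 := ⟨mem_perp_pair.1 (l.ts.le_perp ha), l.ts a ha⟩
theorem Pp.Q_add (l : IsLine Q x y) (h : Pp Q x y m) (ha : a ∈ Ln F x y) : Q (m + a) = Q m := by rw [Orth.Q_add, l.ts a ha, polar_comm, h.of_mem ha, add_zero, add_zero]
theorem lx : x ∈ Ln F x y := Submodule.subset_span (by simp)
theorem ly : y ∈ Ln F x y := Submodule.subset_span (by simp)
theorem Pp.nl_eich (l : IsLine Q x y) (ha : a ∈ Ln F x y) (h : Pp Q x y m) (h' : Pp Q x y m') : nl (eich Q a m) m' = polar Q m m' • a :=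
  nl_eich' (l.ts a ha) (h.of_mem ha) (h'.of_mem ha)
theorem Pp.eich_fix (l : IsLine Q x y) (ha : a ∈ Ln F x y) (h : Pp Q x y m) (hb : b ∈ Ln F x y) : (eich Q a m).1 b = b :=
  nl_zero.1 (by rw [h.nl_eich l ha (pp_of_mem l hb).1, polar_comm, h.of_mem hb, zero_smul])
theorem ql_mul (hr : r ∈ Ql Q x y) (hs : s ∈ Ql Q x y) (h : Pp Q x y m) : nl (r * s) m = nl r m + nl s m := by
  rw [nl_mul', nl_ln hr.1 hr.2.1 (hs.2.2 m h), add_zero]
theorem ql_inv (hr : r ∈ Ql Q x y) (h : Pp Q x y m) : nl r⁻¹ m = nl r m := by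
  rw [nl_inv, nl_ln (inv_mem hr).1 (inv_mem hr).2.1 (hr.2.2 m h), add_zero, neg_eq_of_two (F := F) two0]
theorem eich_comb (l : IsLine Q x y) (α β γ δ : F) : eich Q (α • x + β • y) (γ • x + δ • y) = eich Q x ((α * δ + β * γ) • y) := by
  have k : ∀ α β : F, α • x + β • y ∈ Ln F x y := fun α β => Submodule.mem_span_pair.2 ⟨α, β, rfl⟩
  refine O.ext fun v => ?_
  rw [eich_ap (l.ts _ (k _ _)) (l.ts.polar_eq (k _ _) (k _ _)), eich_ap l.left (by rw [polar_smul_right', l.perp, mul_zero]), l.ts _ (k _ _), Q_smul, l.right]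
  simp only [polar_add_left, polar_smul_left']
  linear_combination (norm := module) (α * γ * polar Q x v) • vv F x + (β * δ * polar Q y v) • vv F y

theorem eich_mem_Ql (l : IsLine Q x y) (ha : a ∈ Ln F x y) (h : Pp Q x y m) : eich Q a m ∈ Ql Q x y := ⟨h.eich_fix l ha lx, h.eich_fix l ha ly, fun _ k => h.nl_eich l ha k ▸ Submodule.smul_mem _ _ ha⟩
/-- `commutator_eich`: `E(y, m') m - m = B(m', m) y`. -/
theorem cm_xy (l : IsLine Q x y) (h : Pp Q x y m) (h' : Pp Q x y m') : ⁅eich Q y m', eich Q x m⁆ = eich Q x (polar Q m' m • y) := by rw [commutator_eich l.left h.1 (h'.eich_fix l ly lx), ← nl_apply, h'.nl_eich l ly h]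
/-- Compare the values (`eich_ap`). -/
theorem eich_xy (l : IsLine Q x y) (h : Pp Q x y m) : eich Q (x + y) m = eich Q x m * eich Q y m * eich Q x (Q m • y) := O.ext fun v => by
  have h1 := h.1
  have h2 := h.2
  have h3 := l.perp
  rw [O.mul_apply, O.mul_apply, eich_ap (l.ts _ (add_mem lx ly)) (h.of_mem (add_mem lx ly)), eich_ap l.left h1, eich_ap l.right h2,
    eich_ap l.left (by rw [polar_smul_right', l.perp, mul_zero])]
  simp only [polar_add_left, polar_add_right, polar_smul_left', polar_smul_right', pp, h1, h2, h3, polar_comm Q m x, polar_comm Q m y, polar_comm Q y x, Q_smul, l.right,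
    mul_zero, add_zero, zero_mul]
  module

namespace G2
variable (q : G2 Q)
include q

theorem mem_ln : a ∈ Ln F x y ↔ a = 0 ∨ a = x ∨ a = y ∨ a = x + y := by
  refine ⟨fun h => ?_, by rintro (rfl | rfl | rfl | rfl); exacts [zero_mem _, lx, ly, add_mem lx ly]⟩
  obtain ⟨c, d, rfl⟩ := Submodule.mem_span_pair.1 h
  rcases q.two c with rfl | rfl <;> rcases q.two d with rfl | rfl <;> simp

/-- An additive map is linear over `F₂`; extend it to `V` (`LinearMap.exists_extend`), `exists_polar_eq_dual`. -/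
theorem dual {S : Submodule F V} (hS : S ≤ perp Q S) (φ : V → F) (h : ∀ m ∈ perp Q S, ∀ m' ∈ perp Q S, φ (m + m') = φ m + φ m') (h0 : ∀ m ∈ S, φ m = 0) :
    ∃ u ∈ perp Q S, ∀ m ∈ perp Q S, φ m = polar Q u m := by
  obtain ⟨g, hg⟩ := LinearMap.exists_extend (p := perp Q S) (V' := F)
    { toFun := fun m => φ m, map_add' := fun m m' => h _ m.2 _ m'.2, map_smul' := fun c m => by rcases q.two c with rfl | rfl <;> simp [h0] }
  obtain ⟨u, hu⟩ := exists_polar_eq_dual q.nd g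
  have k : ∀ m ∈ perp Q S, φ m = polar Q u m := fun m hm => (LinearMap.congr_fun hg ⟨m, hm⟩).symm.trans (hu m)
  exact ⟨u, mem_perp'.2 fun m hm => (k m (hS hm)).symm.trans (h0 m hm), k⟩

/-- A complement of `T ⊓ S^⊥` in `S^⊥` has dimension `≥ 3`: `exists_singular_mem`. -/
theorem exists_sing (S T : Submodule F V) (h : finrank F S + finrank F T ≤ 7) : ∃ a ∈ perp Q S, Q a = 0 ∧ a ∉ T := by
  obtain ⟨C, hC⟩ := T.exists_isCompl
  have := Submodule.finrank_add_eq_of_isCompl hC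
  have := finrank_add_finrank_perp q.nd S
  have := Submodule.finrank_sup_add_finrank_inf_eq (perp Q S) C
  have := (perp Q S ⊔ C).finrank_le
  have := q.d10
  obtain ⟨a, ⟨h1, h2⟩, a0, qa⟩ := exists_singular_mem Q (perp Q S ⊓ C) (by omega)
  exact ⟨a, h1, qa, fun k => a0 (Submodule.disjoint_def.1 hC.disjoint a k h2)⟩

omit q in
theorem li3 (l : IsLine Q x y) (ha : a ∉ Ln F x y) : LinearIndependent F ![a, x, y] :=
  l.linearIndependent.finCons (by simpa [Set.pair_comm y x] using ha)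
theorem exists_pt (l : IsLine Q x y) : ∃ a, Pp Q x y a ∧ Q a = 0 ∧ a ∉ Ln F x y :=
  have ⟨a, h, k⟩ := q.exists_sing (Ln F x y) (Ln F x y) (by rw [l.finrank_span]; omega)
  ⟨a, mem_perp_pair.1 h, k⟩

/-- `exists_isHyp_perp` twice, `exists_isHyp_mem` twice (`nd_inf_hperp`, `finrank_inf_hperp`). -/
theorem exists_fr (l : IsLine Q x y) : ∃ e f, Fr Q e f ∧ e 0 = x ∧ e 1 = y := by
  obtain ⟨a, h, qa, ha⟩ := q.exists_pt l
  have r3 : finrank F (Submodule.span F (Set.range ![a, x, y])) ≤ 3 := finrank_range_le_card (R := F) ![a, x, y]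
  obtain ⟨b, h', qb, hb⟩ := q.exists_sing _ _ ((add_le_add r3 r3).trans (by omega))
  have h0 : polar Q a b = 0 := mem_perp_span.1 h' _ ⟨0, rfl⟩
  have h1 : polar Q x b = 0 := mem_perp_span.1 h' _ ⟨1, rfl⟩
  have h2 : polar Q y b = 0 := mem_perp_span.1 h' _ ⟨2, rfl⟩
  obtain ⟨f, k⟩ := exists_isHypFam q.nd (e := ![x, y, a, b]) (by
      convert ((li3 l ha).finCons hb).comp ![2, 3, 1, 0] (by decide) using 1
      ext i; fin_cases i <;> rfl) (fun i => by fin_cases i; exacts [l.left, l.right, qa, qb])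
    fun i j => by fin_cases i <;> fin_cases j <;> simp [two0 (F := F), h0, h1, h2, h.1, h.2, l.perp, polar_comm Q y x, polar_comm Q a x, polar_comm Q a y, polar_comm Q b]
  exact ⟨_, f, ⟨k.left, k.right, k.ll, k.rr, k.lr⟩, rfl, rfl⟩

theorem witt {n : ℕ} (hn : n ≤ 4) {v v' : Fin n → V} (hv : LinearIndependent F v) (hv' : LinearIndependent F v') (hq : ∀ i, Q (v i) = Q (v' i))
    (hp : ∀ i j, polar Q (v i) (v j) = polar Q (v' i) (v' j)) : ∃ o ∈ Om Q, ∀ i, o.1 (v i) = v' i := by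
  obtain ⟨g, k⟩ := witt_family q.nd hv hv' hq fun i j _ => hp i j
  obtain ⟨w, hw, w0⟩ := TS.exists_nonsingular_perp q.nd (U := Submodule.span F (Set.range v')) (by
    have : finrank F (Submodule.span F (Set.range v')) ≤ n := (finrank_range_le_card (R := F) v').trans (Fintype.card_fin n).le
    have := q.d10
    omega)
  have : g ∈ Om Q ∨ refl Q w * g ∈ Om Q := by
    simp only [commutator_eq_ker_dickson q.nd q.nexc two0, MonoidHom.mem_ker, map_mul, dickson_refl q.nd w0]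
    exact (Int.units_eq_one_or _).imp_right fun e => by simp [e]
  exact this.elim (fun a => ⟨g, a, k⟩) fun a => ⟨_, a, fun i => by
    rw [O.mul_apply, k, refl_apply_of_perp (polar_comm Q _ w ▸ mem_perp_span.1 hw _ ⟨i, rfl⟩)]⟩

/-- `witt_family`; if the Dickson invariant is `-1` multiply by `refl v`, `v` nonsingular orthogonal to the images (their `perp` is too large to be totally singular). -/
theorem tr2 {x' y' : V} (l : IsLine Q x y) (l' : IsLine Q x' y') : ∃ o ∈ Om Q, o.1 x = x' ∧ o.1 y = y' := by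
  obtain ⟨o, ho, k⟩ := q.witt (by omega) l.linearIndependent l'.linearIndependent (fun i => by fin_cases i <;> simp [l.left, l.right, l'.left, l'.right])
    fun i j => by fin_cases i <;> fin_cases j <;> simp [two0 (F := F), l.perp, l'.perp, polar_comm Q y x, polar_comm Q y' x']
  exact ⟨o, ho, k 0, k 1⟩
theorem tr3 (l : IsLine Q x y) (h : Pp Q x y a) (qa : Q a = 0) (ha : a ∉ Ln F x y) (h' : Pp Q x y b) (qb : Q b = 0) (hb : b ∉ Ln F x y) :
    ∃ o ∈ Om Q, o.1 x = x ∧ o.1 y = y ∧ o.1 a = b := by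
  obtain ⟨o, ho, k⟩ := q.witt (by omega) (li3 l ha) (li3 l hb) (fun i => by fin_cases i <;> simp [qa, qb])
    fun i j => by fin_cases i <;> fin_cases j <;> simp [two0 (F := F), h.1, h.2, h'.1, h'.2, polar_comm Q a x, polar_comm Q a y, polar_comm Q b x, polar_comm Q b y]
  exact ⟨o, ho, k 1, k 2, k 0⟩

/-- `E(x, u)` has totally singular commutator space iff `Q u = 0` (`Q_eq_zero_of_ts_comm_eich`, `eich_mem_longSet`, `conj_mem_longSet`, `ts_comm_of_mem_longSet`); `two`. -/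
theorem q_of_conj (hx : Q x = 0) (h0 : x ≠ 0) (h : polar Q x m = 0) (h' : polar Q x m' = 0) (e : r * eich Q x m * r⁻¹ = eich Q x m') : Q m = Q m' := by
  have k : ∀ {r : O Q} {m m'}, polar Q x m = 0 → polar Q x m' = 0 → r * eich Q x m * r⁻¹ = eich Q x m' → Q m = 0 → Q m' = 0 := fun h h' e z =>
    Q_eq_zero_of_ts_comm_eich q.nd hx h0 h' (e ▸ ts_comm_of_mem_longSet (conj_mem_longSet (eich_mem_longSet hx z h) _))
  have k1 := k h h' e
  have k2 := k (r := r⁻¹) h' h (by rw [← e]; group)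
  rcases q.two (Q m) with a | a <;> rcases q.two (Q m') with b | b <;> simp_all

variable (l : IsLine Q x y)
include l

theorem ez (ha : a ∈ Ln F x y) (hb : b ∈ Ln F x y) : eich Q a b = 1 ∨ eich Q a b = eich Q x y := by
  obtain ⟨α, β, rfl⟩ := Submodule.mem_span_pair.1 ha
  obtain ⟨γ, δ, rfl⟩ := Submodule.mem_span_pair.1 hb
  rw [eich_comb l]
  rcases q.two (α * δ + β * γ) with e | e <;> simp [e]
theorem z_ne : eich Q x y ≠ 1 := fun e => l.ne (by simpa [e, O.comm_one] using l.left_mem q.nd)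
omit l in
theorem pt (ha : a ∈ Ln F x y) (h : u ∉ Ln F x y) (hb : b ∈ Ln F x y) (b0 : b ≠ 0) (k : b ∈ Ln F a u) : b = a := by
  rcases q.mem_ln.1 k with rfl | rfl | rfl | rfl
  exacts [absurd rfl b0, rfl, absurd hb h, absurd ((add_mem_cancel_left ha).1 hb) h]
theorem ln_inv (h : r * eich Q x y = eich Q x y * r) (ha : a ∈ Ln F x y) : r.1 a ∈ Ln F x y :=
  (l.comm_eich q.nd).le (comm_inv h ((l.comm_eich q.nd).ge ha))
theorem pp_inv (h : r * eich Q x y = eich Q x y * r) (hm : Pp Q x y m) : Pp Q x y (r.1 m) :=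
  have h' := (Commute.inv_left h).eq
  ⟨by rw [O.polar_right, hm.of_mem (q.ln_inv l h' lx)], by rw [O.polar_right, hm.of_mem (q.ln_inv l h' ly)]⟩

/-- `mem_ln`, `Gq.eich_eq`, `eich_sw`, `eich_add_smul_self`. -/
theorem eich_ln (ha : a ∈ Ln F x y) (a0 : a ≠ 0) (h : Pp Q x y m) : eich Q a m = 1 ∨ eich Q a m = eich Q x y ↔ m ∈ Ln F x y := by
  refine ⟨fun k => by_contra fun n => n ?_, q.ez l ha⟩
  have := (q.comm_eich (l.ts a ha) a0 (h.of_mem ha) fun e => n ((Submodule.span_singleton_le_iff_mem _ _).2 ha e)).ge ly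
  rcases k with k | k
  · rw [k, O.comm_one] at this
    exact bot_le (a := Ln F x y) this
  · rwa [k, l.comm_eich q.nd] at this

/-- `→`: `O.comm_conj`, `IsLine.comm_eich`.  `←`: `conj_eich`, six cases (`mem_ln`, `eich_sw`, `eich_add_smul_self`). -/
theorem cz : r * eich Q x y = eich Q x y * r ↔ r.1 x ∈ Ln F x y ∧ r.1 y ∈ Ln F x y := ⟨fun h => ⟨q.ln_inv l h lx, q.ln_inv l h ly⟩, fun h => mul_inv_eq_iff_eq_mul.1 (by
    rw [conj_eich]
    refine (q.ez l h.1 h.2).resolve_left fun e => q.z_ne l ?_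
    rwa [← conj_eich, conj_eq_one_iff] at e)⟩

/-- If `r` fixes `ℓ^⊥` then `[V, r] ≤ ℓ`; with `f₁, f₂` from `exists_fr`: `r f₁ = f₁ + β y`, `r f₂ = f₂ + β x`, `V = ℓ^⊥ + ⟨f₁, f₂⟩`. -/
theorem eq_z (h : ∀ m, Pp Q x y m → r.1 m = m) : r = 1 ∨ r = eich Q x y := by
  have k : O.comm r ≤ Ln F x y := by
    rw [← O.perp_fix q.nd, ← perp_perp q.nd (Ln F x y)]
    exact perp_anti fun m hm => O.mem_fix.2 (h m (mem_perp_pair.1 hm))
  refine (q.lng_of (eq_one_of fun v => ?_) (fun v hv => l.ts v (k hv)) (l.finrank_span ▸ Submodule.finrank_mono k)).elim .inl ?_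
  · rw [nl_sq, nl_zero, h _ (pp_of_mem l (k (nl_mem r v))).1]
  · rintro ⟨a, b, l', rfl⟩
    exact q.ez l (k (l'.left_mem q.nd)) (k (l'.right_mem q.nd))

/-- `N m = φ₁(m) x + φ₂(m) y` on `ℓ^⊥`, `dual`, `eq_z`; `z = E(x, y)` is absorbed into `m`. -/
theorem ql_eq (h : c ∈ Ql Q x y) : ∃ m m', Pp Q x y m ∧ Pp Q x y m' ∧ c = eich Q x m * eich Q y m' := by
  have k : ∀ f, ∃ u, Pp Q x y u ∧ ∀ m, Pp Q x y m → polar Q (nl c m) f = polar Q u m := fun f =>
    have ⟨u, hu, e⟩ := q.dual l.ts.le_perp (fun m => polar Q (nl c m) f) (fun m _ m' _ => by simp only [map_add, polar_add_left])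
      fun m hm => by simp only [nl_ln h.1 h.2.1 hm, polar_zero_left]
    ⟨u, mem_perp_pair.1 hu, fun m hm => e m (mem_perp_pair.2 hm)⟩
  obtain ⟨f, hf⟩ := exists_polar_eq_of_linearIndependent q.nd l.linearIndependent ![1, 0]
  obtain ⟨f', hf'⟩ := exists_polar_eq_of_linearIndependent q.nd l.linearIndependent ![0, 1]
  obtain ⟨u, hu, e⟩ := k f
  obtain ⟨u', hu', e'⟩ := k f'
  have h1 := eich_mem_Ql l lx hu
  have h2 := eich_mem_Ql l ly hu'
  rcases q.eq_z l (r := (eich Q x u * eich Q y u')⁻¹ * c) fun m hm => by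
    obtain ⟨α, β, hc⟩ := Submodule.mem_span_pair.1 (h.2.2 m hm)
    rw [← nl_zero, ql_mul (inv_mem (mul_mem h1 h2)) h hm, ql_inv (mul_mem h1 h2) hm, ql_mul h1 h2 hm, hu.nl_eich l lx hm, hu'.nl_eich l ly hm, ← e m hm, ← e' m hm, ← hc]
    simp [show polar Q x f = 1 from hf 0, show polar Q y f = 0 from hf 1, show polar Q x f' = 0 from hf' 0, show polar Q y f' = 1 from hf' 1, vv F] with k | k
  · exact ⟨u, u', hu, hu', (inv_mul_eq_one.1 k).symm⟩
  · refine ⟨u, u' + x, hu, hu'.add (pp_of_mem l lx).1, ?_⟩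
    rw [eich_add l.right hu'.2 l.symm.perp, eich_sw l.left l.right l.perp, ← k]; group

theorem ql_le : Ql Q x y ≤ Om Q ⊓ 𝐂[eich Q x y] := fun c hc => ⟨by
    obtain ⟨m, m', -, -, rfl⟩ := q.ql_eq l hc
    exact mul_mem (q.eich_mem _ _) (q.eich_mem _ _), mem_centralizer_singleton_iff.2 ((q.cz l).2 ⟨hc.1.symm ▸ lx, hc.2.1.symm ▸ ly⟩)⟩
/-- `c⁴ = 1`: `c²` fixes `ℓ^⊥`. -/
theorem ql_two : IsPGroup 2 (Ql Q x y) := fun ⟨c, hc⟩ => ⟨2, Subtype.ext (by
    have : c * c * (c * c) = 1 := by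
      rcases q.eq_z l (r := c * c) fun m hm => by rw [← nl_zero, ql_mul hc hc hm, vv F] with e | e <;> simp [e, eich_sq]
    simpa only [show 2 ^ 2 = 4 from rfl, pow_succ, pow_zero, one_mul, mul_assoc, SubmonoidClass.coe_pow, coe_mul, coe_one] using this)⟩
theorem ql_conj (h : r * eich Q x y = eich Q x y * r) (hc : c ∈ Ql Q x y) : r * c * r⁻¹ ∈ Ql Q x y := by
  have h' := (Commute.inv_left h).eq
  have k : ∀ a ∈ Ln F x y, (r * c * r⁻¹).1 a = a := fun a ha => by rw [← nl_zero, nl_cj, nl_ln hc.1 hc.2.1 (q.ln_inv l h' ha), map_zero]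
  exact ⟨k x lx, k y ly, fun m hm => nl_cj r c m ▸ q.ln_inv l h (hc.2.2 _ (q.pp_inv l h' hm))⟩
/-- The commutator fixes `ℓ^⊥`: `eq_z`. -/
theorem ql_cm {d : O Q} (hc : c ∈ Ql Q x y) (hd : d ∈ Ql Q x y) : c * d * c⁻¹ = d ∨ c * d * c⁻¹ = d * eich Q x y := by
  refine (q.eq_z l (r := d⁻¹ * (c * d * c⁻¹)) fun m hm => ?_).imp (fun e => (inv_mul_eq_one.1 e).symm) inv_mul_eq_iff_eq_mul.1
  rw [← nl_zero, ql_mul (inv_mem hd) (mul_mem (mul_mem hc hd) (inv_mem hc)) hm, ql_mul (mul_mem hc hd) (inv_mem hc) hm, ql_mul hc hd hm, ql_inv hc hm, ql_inv hd hm]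
  linear_combination (norm := module) vv F (nl c m) + vv F (nl d m)

/-- As `St1.comm_le`: `r x ∈ ⟨x, m⟩ ⊓ ⟨x, m'⟩` for `m = e 2`, `m' = e 3` (`Gq.comm_eich`), so `r` fixes `x`, `y`; `r m - m ∈ ⟨x⟩ ⊓ ⟨y⟩` (`Gq.eich_eq`; `r m ⊥ ℓ`); `eq_z`. -/
theorem cq (h : ∀ m, Pp Q x y m → r * eich Q x m = eich Q x m * r ∧ r * eich Q y m = eich Q y m * r) : r = 1 ∨ r = eich Q x y := by
  obtain ⟨a, ha, qa, n⟩ := q.exists_pt l
  have z := (h y (pp_of_mem l ly).1).1
  have k : ∀ b ∈ Ln F x y, b ≠ 0 → (∀ m, Pp Q x y m → r * eich Q b m = eich Q b m * r) → ∀ m, Pp Q x y m → r.1 m - m ∈ F ∙ b := fun b hb b0 c m hm => by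
    have e := q.comm_eich (l.ts b hb) b0 (ha.of_mem hb) fun e => n ((Submodule.span_singleton_le_iff_mem _ _).2 hb e)
    have f := q.pt hb n (q.ln_inv l z hb) (O.apply_ne_zero r b0) (e.le (comm_inv (c a ha) (e.ge lx)))
    refine (q.eich_eq (l.ts b hb) b0 ((q.pp_inv l z hm).of_mem hb) (hm.of_mem hb)).1 ?_
    rw [← mul_inv_eq_iff_eq_mul.2 (c m hm), conj_eich, f]
  refine q.eq_z l fun m hm => ?_
  obtain ⟨α, e⟩ := Submodule.mem_span_singleton.1 (k x lx l.ne (fun m hm => (h m hm).1) m hm)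
  obtain ⟨β, e'⟩ := Submodule.mem_span_singleton.1 (k y ly l.ne' (fun m hm => (h m hm).2) m hm)
  rw [← sub_eq_zero, ← e, (l.eq_zero (a := α) (b := β) (by rw [e, e', vv F])).1, zero_smul]

/-- `cq`, `Gq.center_eq`. -/
theorem cO (h : ∀ o ∈ Om Q, r * o = o * r) : r = 1 := ((mem_centralizer_commutator_iff q.nd q.nexc (by have := q.d10; omega)).1 fun o ho => (h o ho).symm).elim id fun e => e.trans (neg_eq_one_of_two_eq_zero two0)

/-- `E(a, u) = E(b, u')` with `u ∉ ℓ`: `⟨a, u⟩ = ⟨b, u'⟩` meets `ℓ` in one point. -/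
theorem qe_eq (ha : a ∈ Ln F x y) (a0 : a ≠ 0) (hb : b ∈ Ln F x y) (b0 : b ≠ 0) (hu : Pp Q x y u) (h : u ∉ Ln F x y) (e : Qe Q x y b (eich Q a u)) : a = b := by
  obtain ⟨u', hu', e⟩ := e
  have k := q.comm_eich (l.ts a ha) a0 (hu.of_mem ha) fun e => h ((Submodule.span_singleton_le_iff_mem _ _).2 ha e)
  refine (q.pt ha h hb b0 (k.le (e ▸ (q.comm_eich (l.ts b hb) b0 (hu'.of_mem hb) fun n => a0 ?_).ge lx))).symm
  simpa [e, eich_of_mem_span (l.ts b hb) n, O.comm_one] using k.ge lx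

/-- `r`, `s` permute `x, y, x + y` (`mem_ln`); in `S₃` a commutator of order at most two is trivial. -/
theorem fix_line (hr : r * eich Q x y = eich Q x y * r) (hs : s * eich Q x y = eich Q x y * s) (h : ⁅r, s⁆ * ⁅r, s⁆ = 1) : ⁅r, s⁆.1 x = x ∧ ⁅r, s⁆.1 y = y := by
  have nz : ∀ i, ![x, y, x + y] i ∈ Ln F x y ∧ ![x, y, x + y] i ≠ 0 := fun i => by
    fin_cases i
    exacts [⟨lx, l.ne⟩, ⟨ly, l.ne'⟩, ⟨add_mem (lx (x := x) (y := y)) ly, fun e => one_ne_zero (l.eq_zero (a := 1) (b := 1) (by simpa using e)).1⟩]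
  have inj : Function.Injective ![x, y, x + y] := by
    have : x ≠ y := fun e => l.notMem (e ▸ Submodule.mem_span_singleton_self x)
    intro i j
    fin_cases i <;> fin_cases j <;> simp [this, this.symm, l.ne, l.ne']
  have k : ∀ g : O Q, g * eich Q x y = eich Q x y * g → ∃ σ : Equiv.Perm (Fin 3), ∀ i, g.1 (![x, y, x + y] i) = ![x, y, x + y] (σ i) := fun g hg => by
    choose σ hσ using fun i => show ∃ j, g.1 (![x, y, x + y] i) = ![x, y, x + y] j from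
      ((q.mem_ln.1 (q.ln_inv l hg (nz i).1)).resolve_left (O.apply_ne_zero g (nz i).2)).elim (⟨0, ·⟩) (·.elim (⟨1, ·⟩) (⟨2, ·⟩))
    exact ⟨.ofBijective σ (Finite.injective_iff_bijective.1 fun i j e => inj (g.1.injective (by rw [hσ, hσ, e]))), hσ⟩
  obtain ⟨σ, hσ⟩ := k r hr
  obtain ⟨τ, hτ⟩ := k s hs
  have i : ∀ {g : O Q} {σ : Equiv.Perm (Fin 3)}, (∀ i, g.1 (![x, y, x + y] i) = ![x, y, x + y] (σ i)) → ∀ i, (g⁻¹).1 (![x, y, x + y] i) = ![x, y, x + y] (σ⁻¹ i) :=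
    fun {g σ} h i => by rw [← O.inv_apply_apply g (![x, y, x + y] (σ⁻¹ i)), h]; simp
  have c : ∀ i, ⁅r, s⁆.1 (![x, y, x + y] i) = ![x, y, x + y] (⁅σ, τ⁆ i) := fun j => by
    simp only [commutatorElement_def, O.mul_apply, i hσ, i hτ, hσ, hτ, Equiv.Perm.mul_apply]
  have d : ⁅σ, τ⁆ = 1 := (by decide +kernel : ∀ σ τ : Equiv.Perm (Fin 3), ⁅σ, τ⁆ * ⁅σ, τ⁆ = 1 → ⁅σ, τ⁆ = 1) σ τ (Equiv.ext fun j => inj (by
    rw [Equiv.Perm.mul_apply, ← c, ← c, ← O.mul_apply, h]; rfl))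
  rw [d] at c
  exact ⟨c 0, c 1⟩

end G2

end Cfsg.Lib.OD
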