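import Cfsg.Agent.Lib.OD.T1

/-!
# OD, Step 1 for `q = 2`: generation, irreducibility, planes.  Notation as in `T1`; `C₀ = Ω ⊓ C(z)`.
-/

set_option autoImplicit false
set_option linter.unusedSectionVars false

namespace Cfsg.Lib.OD

open Subgroup Cfsg.Lib.BG Cfsg.Lib.Orth QuadraticMap Module
open scoped Cfsg.Lib.Transfer commutatorElement

variable {F V : Type*} [Field F] [Finite F] [CharP F 2] [AddCommGroup V] [Module F V] [FiniteDimensional F V] {Q : QuadraticForm F V}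
  {r s o c : O Q} {a b m m' u x y : V} {e f : Fin 4 → V} {H : Subgroup (O Q)}

/-- The group generated by the `E(e_i, e_j)`, in coordinates `01, 02, 03, 12, 13, 23`. -/
noncomputable def zt (Q : QuadraticForm F V) (e : Fin 4 → V) (v : Fin 6 → F) : O Q :=
  eich Q (e 0) (v 0 • e 1 + v 1 • e 2 + v 2 • e 3) * eich Q (e 1) (v 3 • e 2 + v 4 • e 3) * eich Q (e 2) (v 5 • e 3)

namespace Fr
variable (p : Fr Q e f) {i j k : Fin 4} {v w : Fin 6 → F}
include p
theorem fe (i j : Fin 4) : polar Q (f i) (e j) = if j = i then 1 else 0 := by rw [polar_comm, p.ef]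
theorem ef0 (h : i ≠ j) : polar Q (e i) (f j) = 0 := by rw [p.ef, if_neg h]

theorem line (h : i ≠ j) : IsLine Q (e i) (e j) := ⟨p.qe i, p.qe j, p.ee i j, fun z => by simpa [z] using p.ef i i, fun k => by
    obtain ⟨c, k⟩ := Submodule.mem_span_singleton.1 k
    simpa [p.ef, h] using congrArg (polar Q · (f j)) k⟩
/-- `s_{ij} = E(e_i, f_j)`: `e_j ↦ e_j + e_i`. -/
theorem s_ap (h : i ≠ j) (k : Fin 4) : (eich Q (e i) (f j)).1 (e k) = if k = j then e k + e i else e k := by rw [eich_ap (p.qe i) (p.ef0 h), p.fe, p.ee, p.qf]; split_ifs <;> simp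
theorem s_ap' (h : i ≠ j) (k : Fin 4) : (eich Q (e i) (f j)).1 (f k) = if k = i then f k + f j else f k := by rw [eich_ap (p.qe i) (p.ef0 h), p.ff, p.ef, p.qf]; simp only [eq_comm (a := k)]; split_ifs <;> simp
theorem s_add (h1 : i ≠ k) (h2 : j ≠ k) : eich Q (e i + e j) (f k) = eich Q (e i) (f k) * eich Q (e j) (f k) := by
  have a := polar_comm Q (e i) (f k) ▸ p.ef0 h1
  have b := polar_comm Q (e j) (f k) ▸ p.ef0 h2
  rw [eich_sw (p.qf k) (p.qe i) a, eich_sw (p.qf k) (p.qe j) b, eich_sw (p.qf k) (by simp [Orth.Q_add, p.qe, p.ee]) (by simp [a, b]), eich_add (p.qf k) a b]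

/-- `eich_sw`, `eich_add`. -/
theorem s_cm (h1 : i ≠ k) (h2 : j ≠ k) : eich Q (e i) (f k) * eich Q (e j) (f k) = eich Q (e j) (f k) * eich Q (e i) (f k) := by rw [← p.s_add h1 h2, add_comm, p.s_add h2 h1]
/-- `conj_eich`. -/
theorem s_cj (h1 : i ≠ j) (h2 : i ≠ k) (h3 : j ≠ k) :
    eich Q (e i) (f j) * eich Q (e j) (f k) = eich Q (e i) (f k) * eich Q (e j) (f k) * eich Q (e i) (f j) := by rw [← mul_inv_eq_iff_eq_mul, conj_eich, p.s_ap h1, p.s_ap' h1, if_pos rfl, if_neg h2.symm, add_comm, p.s_add h2 h3]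
/-- Both sides are `E(e_i + e_j, f_i + f_j)` (`conj_eich`, `eich_sq`). -/
theorem braid (h : i ≠ j) : eich Q (e i) (f j) * eich Q (e j) (f i) * eich Q (e i) (f j) = eich Q (e j) (f i) * eich Q (e i) (f j) * eich Q (e j) (f i) := by
  have k : ∀ {i j}, i ≠ j → eich Q (e i) (f j) * eich Q (e j) (f i) * eich Q (e i) (f j) = eich Q (e j + e i) (f i + f j) := fun {i j} h => by
    have := conj_eich (eich Q (e i) (f j)) (e j) (f i)
    rwa [inv_eq_of_mul_eq_one_left (eich_sq _ _), p.s_ap h, p.s_ap' h, if_pos rfl, if_pos rfl] at this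
  rw [k h, k h.symm, add_comm (e i), add_comm (f i)]
/-- `eich_ap` three times. -/
theorem zt_ap (v : Fin 6 → F) (x : V) : (zt Q e v).1 x = x + (v 0 * polar Q (e 1) x + v 1 * polar Q (e 2) x + v 2 * polar Q (e 3) x) • e 0 +
    (v 0 * polar Q (e 0) x + v 3 * polar Q (e 2) x + v 4 * polar Q (e 3) x) • e 1 + (v 1 * polar Q (e 0) x + v 3 * polar Q (e 1) x + v 5 * polar Q (e 3) x) • e 2 +
    (v 2 * polar Q (e 0) x + v 4 * polar Q (e 1) x + v 5 * polar Q (e 2) x) • e 3 := by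
  rw [zt, O.mul_apply, O.mul_apply, eich_ap (p.qe 0) (by simp [p.ee]), eich_ap (p.qe 1) (by simp [p.ee]), eich_ap (p.qe 2) (by simp [p.ee])]
  simp only [Orth.Q_add, Q_smul, polar_add_left, polar_add_right, polar_smul_left', polar_smul_right', p.qe, p.ee, mul_zero, add_zero, zero_mul]
  module
theorem zt_fix (v : Fin 6 → F) (i : Fin 4) : (zt Q e v).1 (e i) = e i := by simp [p.zt_ap, p.ee]
theorem zt_add (v w : Fin 6 → F) : zt Q e (v + w) = zt Q e v * zt Q e w := O.ext fun x => by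
  rw [O.mul_apply, p.zt_ap, p.zt_ap, p.zt_ap]
  simp only [polar_add_right, polar_smul_right', p.ee, mul_zero, add_zero, Pi.add_apply]
  module
/-- `B(f_i, zt v f_j)`. -/
theorem zt_inj : Function.Injective (zt Q e) := fun v w h => by
  have k := fun i j => congrArg (fun g : O Q => polar Q (f i) (g.1 (f j))) h
  ext i
  fin_cases i
  exacts [by simpa [p.zt_ap, p.ef, p.fe] using k 0 1, by simpa [p.zt_ap, p.ef, p.fe] using k 0 2, by simpa [p.zt_ap, p.ef, p.fe] using k 0 3,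
    by simpa [p.zt_ap, p.ef, p.fe] using k 1 2, by simpa [p.zt_ap, p.ef, p.fe] using k 1 3, by simpa [p.zt_ap, p.ef, p.fe] using k 2 3]
theorem zt_01 : zt Q e ![1, 0, 0, 0, 0, 0] = eich Q (e 0) (e 1) := by simp [zt]
theorem zt_02 : zt Q e ![0, 1, 0, 0, 0, 0] = eich Q (e 0) (e 2) := by simp [zt]
theorem zt_12 : zt Q e ![0, 0, 0, 1, 0, 0] = eich Q (e 1) (e 2) := by simp [zt]
theorem zt_cj (g : O Q) (v : Fin 6 → F) (x : V) : (g * zt Q e v * g⁻¹).1 x =
    x + (v 0 * polar Q (g.1 (e 1)) x + v 1 * polar Q (g.1 (e 2)) x + v 2 * polar Q (g.1 (e 3)) x) • g.1 (e 0) +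
    (v 0 * polar Q (g.1 (e 0)) x + v 3 * polar Q (g.1 (e 2)) x + v 4 * polar Q (g.1 (e 3)) x) • g.1 (e 1) +
    (v 1 * polar Q (g.1 (e 0)) x + v 3 * polar Q (g.1 (e 1)) x + v 5 * polar Q (g.1 (e 3)) x) • g.1 (e 2) +
    (v 2 * polar Q (g.1 (e 0)) x + v 4 * polar Q (g.1 (e 1)) x + v 5 * polar Q (g.1 (e 2)) x) • g.1 (e 3) := by
  simp only [O.mul_apply, p.zt_ap, map_add, map_smul, O.apply_inv_apply, O.polar_left]

/-- `s * zt v = zt v' * s`: apply to `x` (`zt_ap`, `s_ap`, `B(e_i, s x) = B(s e_i, x)` as `s² = 1`). -/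
theorem zt_20 (v : Fin 6 → F) : eich Q (e 2) (f 0) * zt Q e v * (eich Q (e 2) (f 0))⁻¹ = zt Q e ![v 0, v 1, v 2, v 3 + v 0, v 4, v 5 + v 2] := O.ext fun x => by
  rw [p.zt_cj, p.zt_ap]
  simp [p.s_ap]
  linear_combination (norm := module) (v 1 * polar Q (e 2) x) • vv F (e 2)
theorem zt_01' (v : Fin 6 → F) : eich Q (e 0) (f 1) * zt Q e v * (eich Q (e 0) (f 1))⁻¹ = zt Q e ![v 0, v 1 + v 3, v 2 + v 4, v 3, v 4, v 5] := O.ext fun x => by
  rw [p.zt_cj, p.zt_ap]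
  simp [p.s_ap]
  linear_combination (norm := module) (v 0 * polar Q (e 0) x) • vv F (e 0)
theorem zt_21 (v : Fin 6 → F) : eich Q (e 2) (f 1) * zt Q e v * (eich Q (e 2) (f 1))⁻¹ = zt Q e ![v 0, v 1 + v 0, v 2, v 3, v 4, v 5 + v 4] := O.ext fun x => by
  rw [p.zt_cj, p.zt_ap]
  simp [p.s_ap]
  linear_combination (norm := module) (v 3 * polar Q (e 2) x) • vv F (e 2)
theorem zt_03 (v : Fin 6 → F) : eich Q (e 0) (f 3) * zt Q e v * (eich Q (e 0) (f 3))⁻¹ = zt Q e ![v 0 + v 4, v 1 + v 5, v 2, v 3, v 4, v 5] := O.ext fun x => by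
  rw [p.zt_cj, p.zt_ap]
  simp [p.s_ap]
  linear_combination (norm := module) (v 2 * polar Q (e 0) x) • vv F (e 0)
theorem zt_13 (v : Fin 6 → F) : eich Q (e 1) (f 3) * zt Q e v * (eich Q (e 1) (f 3))⁻¹ = zt Q e ![v 0 + v 2, v 1, v 2, v 3 + v 5, v 4, v 5] := O.ext fun x => by
  rw [p.zt_cj, p.zt_ap]
  simp [p.s_ap]
  linear_combination (norm := module) (v 4 * polar Q (e 1) x) • vv F (e 1)
/-- `U = ⟨e₀, …, e₃⟩`; `r f_j + f_j ⊥ U^⊥`, so `r f_j = f_j + Σ M_ij e_i`; `Q (r f_j) = 0` and `B(r f_i, r f_j) = 0` make `M` alternating; `x + Σ B(e_i, x) f_i ∈ U^⊥`; `zt_ap`. -/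
theorem eq_zt (hQ : ND Q) (h : ∀ m, (∀ i, polar Q (e i) m = 0) → r.1 m = m) : ∃ v, r = zt Q e v := by
  have U : ∀ x, nl r x ∈ Submodule.span F (Set.range e) := fun x => by
    rw [← perp_perp hQ (Submodule.span F _)]
    exact perp_anti (fun m hm => O.mem_fix.2 (h m fun i => mem_perp_span.1 hm _ (Set.mem_range_self i))) ((O.perp_fix hQ r).ge (nl_mem r x))
  have t := ts_span_range p.qe p.ee
  have c : ∀ x, nl r x = polar Q (f 0) (nl r x) • e 0 + polar Q (f 1) (nl r x) • e 1 + polar Q (f 2) (nl r x) • e 2 + polar Q (f 3) (nl r x) • e 3 := fun x => by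
    obtain ⟨c, k⟩ := (Submodule.mem_span_range_iff_exists_fun F).1 (U x)
    simp [← k, Fin.sum_univ_four, p.fe]
  have r2 : r * r = 1 := eq_one_of fun x => by rw [nl_sq, nl_zero, h _ fun i => t.polar_eq (Submodule.subset_span ⟨i, rfl⟩) (U x)]
  have d : ∀ x, polar Q x (nl r x) = 0 := fun x => (Q_nl r x).symm.trans (t _ (U x))
  have s : ∀ i j, polar Q (f j) (nl r (f i)) = polar Q (f i) (nl r (f j)) := fun i j => by rw [← nl_sym r2, polar_comm]
  refine ⟨![polar Q (f 0) (nl r (f 1)), polar Q (f 0) (nl r (f 2)), polar Q (f 0) (nl r (f 3)), polar Q (f 1) (nl r (f 2)), polar Q (f 1) (nl r (f 3)),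
    polar Q (f 2) (nl r (f 3))], O.ext fun x => ?_⟩
  have k := fun i => (nl_sym r2 (f i) x).symm.trans (congrArg (polar Q · x) (c (f i)))
  rw [ap_eq, p.zt_ap, c x, k, k, k, k]
  simp [d, s 0 1, s 0 2, s 0 3, s 1 2, s 1 3, s 2 3, add_assoc]
end Fr

theorem Gq.zt_mem (q : Gq Q) (v : Fin 6 → F) : zt Q e v ∈ Om Q := mul_mem (mul_mem (q.eich_mem _ _) (q.eich_mem _ _)) (q.eich_mem _ _)

end Cfsg.Lib.OD
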