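import Cfsg.Agent.Lib.OD.T2

/-!
# OD, Step 1 for `q = 2`: generation, irreducibility, planes.  Notation as in `T1`; `C₀ = Ω ⊓ C(z)`.
-/

set_option autoImplicit false
set_option linter.unusedSectionVars false

namespace Cfsg.Lib.OD

open Subgroup Cfsg.Lib.BG Cfsg.Lib.Orth QuadraticMap Module
open scoped Cfsg.Lib.Transfer commutatorElement

variable {F V : Type*} [Field F] [Finite F] [CharP F 2] [AddCommGroup V] [Module F V] [FiniteDimensional F V] {Q : QuadraticForm F V}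
  {r s o c : O Q} {a b m m' u v x y : V} {e f : Fin 4 → V} {H : Subgroup (O Q)}

theorem xl : x ∈ Ln F x y := Submodule.subset_span (by simp)
theorem yl : y ∈ Ln F x y := Submodule.subset_span (by simp)
theorem fix_ln (hx : o.1 x = x) (hy : o.1 y = y) (ha : a ∈ Ln F x y) : o.1 a = a := by
  obtain ⟨c, d, rfl⟩ := Submodule.mem_span_pair.1 ha
  simp [hx, hy]
theorem Pp.fix (h : Pp Q x y m) (hx : o.1 x = x) (hy : o.1 y = y) : Pp Q x y (o.1 m) := ⟨by rw [← hx, O.map_polar, h.1], by rw [← hy, O.map_polar, h.2]⟩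
theorem Fr.pp (p : Fr Q e f) (k : Fin 4) : Pp Q (e 0) (e 1) (e k) := ⟨p.ee _ _, p.ee _ _⟩
theorem Fr.ppf (p : Fr Q e f) {k : Fin 4} (h0 : 0 ≠ k) (h1 : 1 ≠ k) : Pp Q (e 0) (e 1) (f k) := ⟨by simp [p.ef, h0], by simp [p.ef, h1]⟩
theorem pi_perp (h : Pp Q (e 0) (e 1) m) (h2 : polar Q (e 2) m = 0) (ha : a ∈ Ln F (e 0) (e 1) ⊔ F ∙ e 2) : polar Q a m = 0 := by
  obtain ⟨c, hc, d, hd, rfl⟩ := Submodule.mem_sup.1 ha
  obtain ⟨k, rfl⟩ := Submodule.mem_span_singleton.1 hd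
  simp [h.of_mem hc, h2]
theorem Fr.pi_e (p : Fr Q e f) (ha : a ∈ Ln F (e 0) (e 1) ⊔ F ∙ e 2) (k : Fin 4) : polar Q (e k) a = 0 := by rw [polar_comm, pi_perp (p.pp k) (p.ee _ _) ha]
theorem Fr.pi_pp (p : Fr Q e f) (ha : a ∈ Ln F (e 0) (e 1) ⊔ F ∙ e 2) : Pp Q (e 0) (e 1) a := ⟨p.pi_e ha 0, p.pi_e ha 1⟩
theorem Fr.e2_nl (p : Fr Q e f) : e 2 ∉ Ln F (e 0) (e 1) := fun h => by simpa [p.ef] using (p.ppf (k := 2) (by decide) (by decide)).of_mem h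

namespace G2
variable (q : G2 Q) (l : IsLine Q x y)
include q l
theorem ex_m : ∃ m m', Pp Q x y m ∧ Pp Q x y m' ∧ polar Q m' m = 1 ∧ m ∉ Ln F x y := by
  obtain ⟨e, f, p, rfl, rfl⟩ := q.exists_fr l
  exact ⟨e 2, f 2, p.pp 2, p.ppf (by decide) (by decide), by rw [polar_comm]; simp [p.ef], p.e2_nl⟩
theorem ln_map (h : r * eich Q x y = eich Q x y * r) (ha : a ∈ Ln F x y) : r.1 a ∈ Ln F x y := by
  obtain ⟨c, d, rfl⟩ := Submodule.mem_span_pair.1 ha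
  rw [map_add, map_smul, map_smul]
  exact add_mem (Submodule.smul_mem _ _ ((q.cz l).1 h).1) (Submodule.smul_mem _ _ ((q.cz l).1 h).2)
theorem pp_map (h : r * eich Q x y = eich Q x y * r) (hm : Pp Q x y m) : Pp Q x y (r.1 m) := by
  have := (q.cz l).1 (Commute.inv_left h).eq
  exact ⟨by rw [O.polar_right, hm.of_mem this.1], by rw [O.polar_right, hm.of_mem this.2]⟩
theorem line_of (ha : a ∈ Ln F x y) (a0 : a ≠ 0) (hb : b ∈ Ln F x y) (b0 : b ≠ 0) (ab : a ≠ b) : IsLine Q a b :=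
  ⟨(pp_of_mem l ha).2, (pp_of_mem l hb).2, (pp_of_mem l hb).1.of_mem ha, a0, fun h => by
    obtain ⟨c, rfl⟩ := Submodule.mem_span_singleton.1 h
    rcases q.two c with rfl | rfl <;> simp at b0 ab⟩
theorem c0_of (ho : o ∈ Om Q) (hx : o.1 x = x) (hy : o.1 y = y) : o ∈ Om Q ⊓ 𝐂[eich Q x y] := ⟨ho, mem_cent1.2 (eich_cm hx hy).symm⟩
theorem eich_eq' (ha : a ∈ Ln F x y) (a0 : a ≠ 0) (h : Pp Q x y m) (h' : Pp Q x y m') (e : eich Q a m = eich Q a m') : ∃ c : F, m = m' + c • a := by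
  obtain ⟨c, hc⟩ := Submodule.mem_span_singleton.1 ((q.toGq.eich_eq (pp_of_mem l ha).2 a0 (h.of_mem ha) (h'.of_mem ha)).1 e)
  exact ⟨c, by rw [hc, add_sub_cancel]⟩
omit q in
theorem xy_ne : x ≠ y ∧ x + y ≠ 0 ∧ x ≠ x + y ∧ y ≠ x + y :=
  ⟨fun h => l.notMem (h ▸ Submodule.mem_span_singleton_self x), fun h => by simpa using l.eq_zero (a := 1) (b := 1) (by simpa using h), by simpa using l.ne', by simpa using l.ne⟩
end G2

theorem Fr.s01 (p : Fr Q e f) (q : G2 Q) : eich Q (e 0) (f 1) ∈ Om Q ⊓ 𝐂[eich Q (e 0) (e 1)] :=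
  ⟨q.eich_mem _ _, mem_cent1.2 ((q.cz (p.line (by decide))).2 (by simp [p.s_ap (show (0 : Fin 4) ≠ 1 by decide), q.mem_ln, add_comm]))⟩

theorem fr_ins (a : V) (S : Set V) : finrank F (Submodule.span F (insert a S)) ≤ finrank F (Submodule.span F S) + 1 := by
  rw [Submodule.span_insert]
  exact (Submodule.finrank_add_le_finrank_add_finrank _ _).trans (by have := Gq.fr1 (F := F) a; omega)
theorem fr_4 (a b c d : V) : finrank F (Submodule.span F {a, b, c, d}) ≤ 4 := by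
  have := fr_ins (F := F) a {b, c, d}; have := fr_ins (F := F) b {c, d}; have := fr_ins (F := F) c {d}; have := Gq.fr1 (F := F) d; omega
theorem eich_fix (qa : Q a = 0) (ab : polar Q a b = 0) (h1 : polar Q a v = 0) (h2 : polar Q b v = 0) : (eich Q a b).1 v = v := by
  rw [eich_apply_of_perp qa ab h1, h2, zero_smul, add_zero]
theorem eich_hit (qa : Q a = 0) (h : polar Q a u = 1) (h' : polar Q a v = 1) (e : Q v = Q u) : (eich Q a (v - u)).1 u = v := by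
  have k := Q_add Q (v - u) u
  rw [sub_add_cancel, e] at k
  rw [eich_ap qa (by simp [h, h']), h, show polar Q (v - u) u = - Q (v - u) by linear_combination -k]; module
theorem Fr.ndW (p : Fr Q e f) : ND (Q.restrict (Submodule.span F {e 0, e 1, f 0, f 1})) := nd_restrict_iff.2 fun w hw h => by
  simp only [Submodule.mem_span_insert, Submodule.mem_span_singleton] at hw
  obtain ⟨a, _, ⟨b, _, ⟨c, _, ⟨d, rfl⟩, rfl⟩, rfl⟩, rfl⟩ := hw
  have h0 := h (e 0) (Submodule.subset_span (by simp))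
  have h1 := h (e 1) (Submodule.subset_span (by simp))
  have h2 := h (f 0) (Submodule.subset_span (by simp))
  have h3 := h (f 1) (Submodule.subset_span (by simp))
  simp [p.ee, p.ff, p.ef, polar_comm Q (f _) (e _)] at h0 h1 h2 h3
  simp [h0, h1, h2, h3]
theorem Fu.conj {G : Type*} [Group G] {X : Subgroup G} {w g : G} (h : Fu X w) (hg : g ∈ X) : Fu X (g * w * g⁻¹) := by
  obtain ⟨h1, h2, a, ha, b, hb, e⟩ := h
  have m : ∀ x ∈ X, g * x * g⁻¹ ∈ X := fun x hx => mul_mem (mul_mem hg hx) (inv_mem hg)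
  exact ⟨m w h1, by rw [conj_mul, h2]; simp, _, m a ha, _, m b hb, by
    rw [show g * b * g⁻¹ * (g * w * g⁻¹) * (g * b * g⁻¹)⁻¹ = g * (b * w * b⁻¹) * g⁻¹ by group, e]; group⟩

namespace G2
variable (q : G2 Q) (l : IsLine Q x y)
include q l

omit l in
theorem frU (a b c d : V) : 6 ≤ finrank F (perp Q (Submodule.span F {a, b, c, d})) := by
  have := finrank_add_finrank_perp q.nd (Submodule.span F {a, b, c, d}); have := fr_4 (F := F) a b c d; have := q.d10; omega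
omit l in
theorem ex_b (a b c d : V) : ∃ u ∈ perp Q (Submodule.span F {a, b, c, d}), ∃ v ∈ perp Q (Submodule.span F {a, b, c, d}), polar Q u v = 1 := by
  obtain ⟨u, hu, n⟩ := Gq.exists_nmem (W := perp Q (Submodule.span F {a, b, c, d})) (W' := Submodule.span F {a, b, c, d}) (by
    have := q.frU a b c d; have := fr_4 (F := F) a b c d; omega)
  exact ⟨u, hu, exists_perp_polar_eq q.nd n 1⟩
theorem c0_tr (ha : a ∈ Ln F x y) (a0 : a ≠ 0) (hb : b ∈ Ln F x y) (b0 : b ≠ 0) : ∃ o ∈ Om Q ⊓ 𝐂[eich Q x y], o.1 a = b := by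
  have ex : ∀ a ∈ Ln F x y, a ≠ 0 → ∃ a' ∈ Ln F x y, IsLine Q a a' := fun a ha a0 => by
    by_cases h : a = x
    · exact ⟨y, yl, h ▸ l⟩
    · exact ⟨x, xl, q.line_of l ha a0 xl l.ne h⟩
  obtain ⟨a', ha', l1⟩ := ex a ha a0
  obtain ⟨b', hb', l2⟩ := ex b hb b0
  obtain ⟨o, ho, h1, h2⟩ := q.tr2 l1 l2
  have e : Ln F a a' = Ln F x y := Submodule.eq_of_le_of_finrank_eq (Submodule.span_le.2 (by rintro _ (rfl | rfl) <;> assumption)) (by rw [l1.finrank_span, l.finrank_span])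
  have : ∀ c ∈ Ln F x y, o.1 c ∈ Ln F x y := fun c hc => by
    obtain ⟨k, k', rfl⟩ := Submodule.mem_span_pair.1 (e ▸ hc : c ∈ Ln F a a')
    rw [map_add, map_smul, map_smul, h1, h2]
    exact add_mem (Submodule.smul_mem _ _ hb) (Submodule.smul_mem _ _ hb')
  exact ⟨o, ⟨ho, mem_cent1.2 ((q.cz l).2 ⟨this _ xl, this _ yl⟩)⟩, h1⟩

/-- The singular vectors generate `ℓ^⊥`: `m = c + m'`, `c ∈ ℓ`, `m' ∈ hperp ⊓ hperp` (`IsHyp.exists_decomp₂`, `IsHyp.nd_inf`, `le_of_singular_mem`). -/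
theorem sing_ind {P : V → Prop} (h0 : ∀ m, Pp Q x y m → Q m = 0 → P m) (h1 : ∀ m m', P m → P m' → P (m + m')) (h : Pp Q x y m) : P m := by
  obtain ⟨e, f, p, rfl, rfl⟩ := q.exists_fr l
  let S : AddSubgroup V := ⟨⟨⟨{m | P m}, h1 _ _⟩, h0 0 ⟨by simp, by simp⟩ (by simp)⟩, fun {m} hm => by rwa [neg_eq_of_two (F := F) two0]⟩
  have hc : polar Q (f 0) m • e 0 + polar Q (f 1) m • e 1 ∈ Ln F (e 0) (e 1) := add_mem (Submodule.smul_mem _ _ xl) (Submodule.smul_mem _ _ yl)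
  rw [← sub_add_cancel m (polar Q (f 0) m • e 0 + polar Q (f 1) m • e 1)]
  refine h1 _ _ (le_of_singular_mem (nd_restrict_perp q.nd p.ndW) (by have := q.frU (e 0) (e 1) (f 0) (f 1); omega) (S := S) (fun v hv => h0 v ?_) ?_)
    (h0 _ (pp_of_mem l hc).1 (pp_of_mem l hc).2)
  · exact ⟨mem_perp_span.1 hv _ (by simp), mem_perp_span.1 hv _ (by simp)⟩
  · simp [mem_perp_span, h.1, h.2, p.ee, p.ef, polar_comm Q (f _) (e _)]

/-- For singular `a ⊥ ℓ`, `a ∉ ℓ`: `b ⊥ ℓ, a`, `m ⊥ ℓ` with `B(b, m) = 1`, `B(a, m) = 0` (`b ∈ ⟨x, y, a⟩^⊥` outside `⟨x, y, a⟩`), `E(a, b) m = m + a`, so `φ a = 0`.  `sing_ind`. -/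
theorem qinv (φ : V → F) (h : ∀ m m', Pp Q x y m → Pp Q x y m' → φ (m + m') = φ m + φ m') (h0 : ∀ m ∈ Ln F x y, φ m = 0)
    (hi : ∀ o ∈ Om Q, o.1 x = x → o.1 y = y → ∀ m, Pp Q x y m → φ (o.1 m) = φ m) (hm : Pp Q x y m) : φ m = 0 := by
  refine (q.sing_ind l (P := fun m => Pp Q x y m ∧ φ m = 0) (fun a ha qa => ⟨ha, ?_⟩) (fun m m' a b => ⟨a.1.add b.1, by rw [h _ _ a.1 b.1, a.2, b.2, add_zero]⟩) hm).2
  obtain ⟨b, hb, m, hm, e⟩ := q.ex_b x y a a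
  simp only [mem_perp_span, Set.mem_insert_iff, Set.mem_singleton_iff, forall_eq_or_imp, forall_eq] at hb hm
  have := hi _ (q.eich_mem a b) (eich_fix qa hb.2.2.1 (by rw [polar_comm, ha.1]) (by rw [polar_comm, hb.1])) (eich_fix qa hb.2.2.1 (by rw [polar_comm, ha.2]) (by rw [polar_comm, hb.2.1]))
    m ⟨hm.1, hm.2.1⟩
  rwa [eich_apply_of_perp qa hb.2.2.1 hm.2.2.1, e, one_smul, h _ _ ⟨hm.1, hm.2.1⟩ ha, add_eq_left] at this

theorem ex_o (hm : Pp Q x y m) (h : m ∉ Submodule.span F {x, y, m'}) :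
    ∃ o ∈ Om Q, ∃ a, Pp Q x y a ∧ Q a = 0 ∧ a ∉ Ln F x y ∧ o.1 x = x ∧ o.1 y = y ∧ o.1 m' = m' ∧ o.1 m = m + a := by
  obtain ⟨b, hb, e⟩ := exists_perp_polar_eq q.nd h 1
  obtain ⟨a, ha, qa, n⟩ := q.exists_sing (Submodule.span F {x, y, m', b, m}) (Ln F x y) (by
    have := fr_ins (F := F) x {y, m', b, m}; have := fr_4 (F := F) y m' b m; have := l.finrank_span; simp only [Ln]; omega)
  simp only [mem_perp_span, Set.mem_insert_iff, Set.mem_singleton_iff, forall_eq_or_imp, forall_eq] at hb ha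
  have ab : polar Q a b = 0 := by rw [polar_comm, ha.2.2.2.1]
  refine ⟨_, q.eich_mem a b, a, ⟨ha.1, ha.2.1⟩, qa, n, ?_, ?_, ?_, by rw [eich_apply_of_perp qa ab (by rw [polar_comm, ha.2.2.2.2]), polar_comm, e, one_smul]⟩ <;>
    refine eich_fix qa ab ?_ ?_ <;> rw [polar_comm] <;> simp [ha, hb]

/-- `m ∈ Y ∖ ℓ`; `b ⊥ ℓ` with `B(b, m) = 1`, `a` singular, `⊥ ℓ, b, m`, `a ∉ ℓ` (`exists_sing`): `E(a, b) m = m + a`, so `a ∈ Y`; `tr3`, `sing_ind`. -/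
theorem irr {Y : V → Prop} (h1 : ∀ m m', Y m → Y m' → Y (m + m')) (h0 : ∀ m ∈ Ln F x y, Y m) (hi : ∀ o ∈ Om Q, o.1 x = x → o.1 y = y → ∀ m, Y m → Y (o.1 m))
    (hm : Pp Q x y m) (h : m ∉ Ln F x y) (hY : Y m) (hu : Pp Q x y u) : Y u := by
  obtain ⟨o, ho, a, ha, qa, n, hx, hy, -, e⟩ := q.ex_o l (m' := y) hm (by simpa using h)
  have ya : Y a := by
    have := h1 _ _ hY (hi o ho hx hy m hY)
    rwa [e, ← add_assoc, vv F, zero_add] at this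
  refine q.sing_ind l (fun b hb qb => ?_) h1 hu
  by_cases k : b ∈ Ln F x y
  · exact h0 b k
  · obtain ⟨o, ho, hx, hy, rfl⟩ := q.tr3 l ha qa n hb qb k
    exact hi o ho hx hy a ya

/-- `exists_fix` for `⊥ < ℓ`: `A` fixes some `a ∈ ℓ`, and its images under `C₀` (`tr2`, `cz`), so `x` and `y`.  `exists_fix` for `ℓ < ℓ^⊥`; `irr` for `Y m = ∀ p ∈ A, N_p m ∈ ℓ`. -/
theorem o2 {A : Subgroup (O Q)} (hA : IsPGroup 2 A) (h : A ≤ 𝐂[eich Q x y]) (hn : Om Q ⊓ 𝐂[eich Q x y] ≤ 𝐍(A)) : A ≤ Ql Q x y := by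
  have cz : ∀ p ∈ A, p * eich Q x y = eich Q x y * p := fun p hp => mem_cent1.1 (h hp)
  obtain ⟨a, ha, a0, k⟩ := exists_fix hA (A := ⊥) (B := Ln F x y) (bot_lt_iff_ne_bot.2 fun e => l.ne (by simpa [e] using (xl : x ∈ Ln F x y)))
    (fun p _ v hv => by simp_all) fun p hp v hv => q.ln_map l (cz p hp) hv
  have fx : ∀ b ∈ Ln F x y, b ≠ 0 → ∀ p ∈ A, p.1 b = b := fun b hb b0 p hp => by
    obtain ⟨o, ho, rfl⟩ := q.c0_tr l ha (by simpa using a0) hb b0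
    have := nl_zero.1 ((Submodule.mem_bot F).1 (k _ (conj_mem_of_norm' (hn ho) hp)))
    rwa [O.mul_apply, O.mul_apply, O.inv_apply_eq] at this
  obtain ⟨m₀, -, h₀, -, -, n₀⟩ := q.ex_m l
  obtain ⟨m, hm, n, k'⟩ := exists_fix hA (A := Ln F x y) (B := perp Q (Ln F x y)) (lt_of_le_not_ge (fun a ha => mem_perp_pair.2 (pp_of_mem l ha).1) fun e => n₀ (e (mem_perp_pair.2 h₀)))
    (fun p hp v hv => q.ln_map l (cz p hp) hv) fun p hp v hv => mem_perp_pair.2 (q.pp_map l (cz p hp) (mem_perp_pair.1 hv))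
  refine fun p hp => ⟨fx x xl l.ne p hp, fx y yl l.ne' p hp, fun u hu => q.irr l (Y := fun m => ∀ p ∈ A, nl p m ∈ Ln F x y) (fun m m' a b p hp => map_add (nl p) m m' ▸ add_mem (a p hp) (b p hp))
    (fun m hm p hp => sub_mem (q.ln_map l (cz p hp) hm) hm) (fun o ho hx hy m a p hp => ?_) (mem_perp_pair.1 hm) n k' hu p hp⟩
  have := a _ (conj_mem_of_norm' (hn (q.c0_of l ho hx hy)) hp)
  rw [← fix_ln hx hy this, nl_apply, map_sub, O.mul_apply, O.mul_apply, O.apply_inv_apply] at this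
  exact this

/-- `E(x, m)` for singular `m ⊥ ℓ`, `m ∉ ℓ` is `Fu` as in `Gq.b0` (`E(x, m) = E(m, x)`; `s = E(y, f₁)`, `n` from `tr3`-like swaps: use `o₁, o₂ ∈ Ω` fixing `m` with `x, y ↦ y, x` resp. `x + y, y`,
from `witt_family`, or `s`, `s' = E(x, f₂)` with `f_i ⊥ m`); the same for `E(y, m)`; `z = E(x, m + y) E(x, m)`; `sing_ind`, `ql_eq`. -/
theorem ql_ind (h : ∀ c, Fu (Om Q ⊓ 𝐂[eich Q x y]) c → c ∈ H) : Ql Q x y ≤ H := by
  have em := q.eich_mem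
  obtain ⟨e, f, p, rfl, rfl⟩ := q.exists_fr l
  have a := p.s_ap (show (0 : Fin 4) ≠ 1 by decide)
  have b := p.s_ap (show (1 : Fin 4) ≠ 0 by decide)
  have c1 : eich Q (e 1) (f 0) ∈ Om Q ⊓ 𝐂[eich Q (e 0) (e 1)] := ⟨em _ _, mem_cent1.2 ((q.cz l).2 (by simp [b, q.mem_ln]))⟩
  have f0 : Fu (Om Q ⊓ 𝐂[eich Q (e 0) (e 1)]) (eich Q (e 0) (e 2)) := by
    refine ⟨q.ql_le l (eich_mem_Ql l xl (p.pp 2)), eich_sq _ _, _, mul_mem (p.s01 q) c1, _, c1, ?_⟩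
    rw [conj_eich, conj_eich]
    simp only [O.mul_apply]
    simp only [a, b, map_add, Fin.reduceEq, reduceIte]
    rw [add_left_comm, vv F, add_zero, ← eich_sw (p.qe 0) (p.qe 2) (p.ee _ _), ← eich_sw (p.qe 1) (p.qe 2) (p.ee _ _), ← eich_add (p.qe 2) (p.ee _ _) (p.ee _ _),
      eich_sw (p.qe 2) (by simp [Q_add, p.qe, p.ee]) (by simp [p.ee])]
  have f1 : ∀ a ∈ Ln F (e 0) (e 1), a ≠ 0 → ∀ m, Pp Q (e 0) (e 1) m → Q m = 0 → m ∉ Ln F (e 0) (e 1) → eich Q a m ∈ H := fun a ha a0 m hm qm n => by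
    obtain ⟨o, ho, rfl⟩ := q.c0_tr l xl l.ne ha a0
    have oi := mem_cent1.1 (inv_mem ho).2
    obtain ⟨o', ho', h0, h1, h2⟩ := q.tr3 l (p.pp 2) (p.qe 2) p.e2_nl (q.pp_map l oi hm) (by rw [O.map_Q, qm]) fun k => n (by simpa using q.ln_map l (mem_cent1.1 ho.2) k)
    have := (f0.conj (q.c0_of l ho' h0 h1)).conj ho
    rw [conj_eich, conj_eich, h0, h2, O.apply_inv_apply] at this
    exact h _ this
  have z : eich Q (e 0) (e 1) ∈ H := by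
    have := mul_mem (f1 _ xl l.ne _ (p.pp 2) (p.qe 2) p.e2_nl) (f1 _ xl l.ne _ ((p.pp 2).add (p.pp 1)) (by simp [Q_add, p.qe, p.ee]) fun k => p.e2_nl (by simpa using sub_mem k yl))
    rwa [eich_add (p.qe 0) (p.ee _ _) (p.ee _ _), ← mul_assoc, eich_sq, one_mul] at this
  have f2 : ∀ a ∈ Ln F (e 0) (e 1), a ≠ 0 → ∀ m, Pp Q (e 0) (e 1) m → eich Q a m ∈ H := fun a ha a0 m hm => by
    refine (q.sing_ind l (P := fun m => Pp Q (e 0) (e 1) m ∧ eich Q a m ∈ H) (fun m hm qm => ⟨hm, ?_⟩)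
      (fun m m' u v => ⟨u.1.add v.1, by rw [eich_add (pp_of_mem l ha).2 (u.1.of_mem ha) (v.1.of_mem ha)]; exact mul_mem u.2 v.2⟩) hm).2
    by_cases k : m ∈ Ln F (e 0) (e 1)
    · rcases (q.eich_ln l ha a0 hm).2 k with k | k <;> simp [k, z]
    · exact f1 a ha a0 m hm qm k
  intro c hc
  obtain ⟨m, m', h1, h2, rfl⟩ := q.ql_eq l hc
  exact mul_mem (f2 _ xl l.ne m h1) (f2 _ yl l.ne' m' h2)

/-- `f₁, f₂` from `exists_fr`.  `E(x, o f₁ + f₁) f₁ = o f₁`, then `E(y, o f₂ + f₂)`: WLOG `o` fixes `W = ⟨x, y, f₁, f₂⟩`, `o = extR o'` (`isOSum_perp`, `range_extR`), `o' ∈ Ω(W^⊥)`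
(`dickson_extR`, `commutator_eq_ker_dickson`) is a product of long root elements (`commutator_eq_closure_longSet`, `extR_eich`).  For `a, b ⊥ ℓ` singular and orthogonal:
`E(a, b) = [E(b, b'), E(a, v)]` with `b', v ⊥ x, y, a, b`, `B(b', v) = 1` (`commutator_eich`; `⟨x, y, a, b⟩^⊥` has dimension `≥ 6`), `eich_sq`. -/
theorem fix_ind (h1 : Ql Q x y ≤ H) (h2 : ∀ u ∈ Om Q ⊓ 𝐂[eich Q x y], ∀ v ∈ Om Q ⊓ 𝐂[eich Q x y], ⁅u, v⁆ * ⁅u, v⁆ = 1 → ⁅u, v⁆ ∈ H)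
    (ho : o ∈ Om Q) (hx : o.1 x = x) (hy : o.1 y = y) : o ∈ H := by
  have em := q.eich_mem
  obtain ⟨e, f, p, rfl, rfl⟩ := q.exists_fr l
  have key : ∀ o ∈ Om Q, o ∈ fixer Q (Submodule.span F {e 0, e 1, f 0, f 1}) → o ∈ H := fun o ho hf => by
    have S := isOSum_perp p.ndW
    obtain ⟨o', rfl⟩ : o ∈ S.extR.range := (S.range_extR q.nd).symm ▸ hf
    have d := q.frU (e 0) (e 1) (f 0) (f 1)
    have h' : o' ∈ Subgroup.closure (longSet _) := by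
      rw [← commutator_eq_closure_longSet (S.nd_right q.nd) (by omega), commutator_eq_ker_dickson (S.nd_right q.nd) (not_exc_of_five_le (by omega)) two0, MonoidHom.mem_ker,
        ← S.dickson_extR q.nd, ← MonoidHom.mem_ker, ← commutator_eq_ker_dickson q.nd q.nexc two0]
      exact ho
    refine (closure_le (H.comap S.extR)).2 ?_ h'
    rintro _ ⟨⟨a, ha⟩, ⟨b, hb⟩, qa, qb, ab, rfl⟩
    rw [SetLike.mem_coe, mem_comap, S.extR_eich]
    obtain ⟨b', hb', v, hv, k⟩ := q.ex_b (e 0) (e 1) a b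
    simp only [mem_perp_span, Set.mem_insert_iff, Set.mem_singleton_iff, forall_eq_or_imp, forall_eq] at ha hb hb' hv
    replace qa : Q a = 0 := qa
    replace qb : Q b = 0 := qb
    replace ab : polar Q a b = 0 := by simpa using ab
    have : ⁅eich Q b b', eich Q a v⁆ = eich Q a b := by
      rw [commutator_eich qa hv.2.2.1 (eich_fix qb hb'.2.2.2 (by rw [polar_comm, ab]) (by rw [polar_comm, hb'.2.2.1])), eich_apply_of_perp qb hb'.2.2.2 hv.2.2.2, k, one_smul,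
        add_sub_cancel_left]
    refine this ▸ h2 _ (q.c0_of l (em _ _) ?_ ?_) _ (q.c0_of l (em _ _) ?_ ?_) (by rw [this, eich_sq]) <;> refine eich_fix (by assumption) (by simp [hb', hv]) ?_ ?_ <;>
      rw [polar_comm] <;> simp [ha, hb, hb', hv]
  have pe : ∀ (o : O Q) (a v : V), o.1 a = a → polar Q a (o.1 v) = polar Q a v := fun o a v h => by rw [← O.map_polar o a v, h]
  have p1 : Pp Q (e 0) (e 1) (o.1 (f 0) - f 0) := ⟨by simp [pe o _ _ hx], by simp [pe o _ _ hy]⟩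
  have c1 := eich_mem_Ql l xl p1
  have e1 := eich_hit (p.qe 0) (u := f 0) (v := o.1 (f 0)) (by simp [p.ef]) (by simp [pe o _ _ hx, p.ef]) (O.map_Q _ _)
  generalize eich Q (e 0) (o.1 (f 0) - f 0) = c at c1 e1
  have fx : ∀ {c o : O Q} {v}, c.1 v = o.1 v → (c⁻¹ * o).1 v = v := fun h => by rw [O.mul_apply, O.inv_apply_eq, h]
  have x1 := fx (c1.1.trans hx.symm)
  have y1 := fx (c1.2.1.trans hy.symm)
  have z1 := fx e1
  rw [← mul_mem_cancel_left (inv_mem (h1 c1))]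
  replace ho : c⁻¹ * o ∈ Om Q := mul_mem (inv_mem (q.ql_le l c1).1) ho
  generalize c⁻¹ * o = o at *
  have p2 : Pp Q (e 0) (e 1) (o.1 (f 1) - f 1) := ⟨by simp [pe o _ _ x1], by simp [pe o _ _ y1]⟩
  have c2 := eich_mem_Ql l yl p2
  rw [← mul_mem_cancel_left (inv_mem (h1 c2))]
  refine key _ (mul_mem (inv_mem (em _ _)) ho) fun w hw => Submodule.span_induction ?_ (map_zero _) (fun _ _ _ _ a b => by rw [map_add, a, b]) (fun _ _ _ a => by rw [map_smul, a]) hw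
  rintro _ (rfl | rfl | rfl | rfl)
  · exact fx (c2.1.trans x1.symm)
  · exact fx (c2.2.1.trans y1.symm)
  · exact fx ((eich_fix (p.qe 1) p2.2 (by simp [p.ef]) (by rw [polar_comm]; simp [pe o _ _ z1])).trans z1.symm)
  · exact fx (eich_hit (p.qe 1) (by simp [p.ef]) (by simp [pe o _ _ y1, p.ef]) (O.map_Q _ _))

/-- Every element `E(x, m) E(y, m')` of `Y` has `m`, `m'` or `m + m'` in `ℓ`.  Otherwise `b ⊥ ℓ, m'`, `B(b, m) = 1`, `a` singular `⊥ ℓ, m', b, m`, `a ∉ ℓ`, `o = E(a, b)`: `(o c o⁻¹) c⁻¹ = E(x, a) ∈ Y`,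
`Q_x ≤ Y` (`irr`), also `E(y, m') ∈ Y`, not abelian (`cm_xy`).  So every element lies in `Q_y`, `Q_x` or `Q_{x+y}` (`eich_xy`; `E(a, m) ∈ {1, z}` for `a, m ∈ ℓ`).
An element outside `{1, z}` in `Q_a` gives `Q_a ≤ Y` (`irr`); two different `Q_a`, `Q_b` do not commute (`cm_xy` for the basis `a, b`). -/
theorem pen {Y : Subgroup (O Q)} (h : Y ≤ Ql Q x y) (hz : eich Q x y ∈ Y) (hc : ∀ c ∈ Y, ∀ d ∈ Y, c * d = d * c)
    (hn : ∀ o ∈ Om Q, o.1 x = x → o.1 y = y → o ∈ 𝐍(Y)) (h1 : ∃ c ∈ Y, c ≠ 1 ∧ c ≠ eich Q x y) : ∃ a ∈ Ln F x y, a ≠ 0 ∧ ∀ c, c ∈ Y ↔ Qe Q x y a c := by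
  have all : ∀ a ∈ Ln F x y, a ≠ 0 → ∀ u, Pp Q x y u → u ∉ Ln F x y → eich Q a u ∈ Y → ∀ v, Pp Q x y v → eich Q a v ∈ Y := fun a ha a0 u hu n k v hv =>
    (q.irr l (Y := fun m => Pp Q x y m ∧ eich Q a m ∈ Y) (fun m m' u v => ⟨u.1.add v.1, by rw [eich_add (pp_of_mem l ha).2 (u.1.of_mem ha) (v.1.of_mem ha)]; exact mul_mem u.2 v.2⟩)
      (fun m hm => ⟨(pp_of_mem l hm).1, by rcases (q.eich_ln l ha a0 (pp_of_mem l hm).1).2 hm with k | k <;> simp [k, hz]⟩)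
      (fun o ho hx hy m hm => ⟨hm.1.fix hx hy, by rw [← fix_ln hx hy ha, ← conj_eich]; exact conj_mem_of_norm (hn o ho hx hy) hm.2⟩) hu n ⟨hu, k⟩ hv).2
  have ncm : ∀ a ∈ Ln F x y, a ≠ 0 → ∀ b ∈ Ln F x y, b ≠ 0 → (∀ v, Pp Q x y v → eich Q a v ∈ Y) → ∀ u, Pp Q x y u → u ∉ Ln F x y → eich Q b u ∈ Y → a = b :=
    fun a ha a0 b hb b0 h u hu n k => by_contra fun ab => by
      obtain ⟨v, hv, e⟩ := exists_perp_polar_eq q.nd n 1
      replace hv : Pp Q x y v := mem_perp_pair.1 hv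
      have l' := q.line_of l ha a0 hb b0 ab
      have c := cm_xy l' ⟨hv.of_mem ha, hv.of_mem hb⟩ ⟨hu.of_mem ha, hu.of_mem hb⟩
      rw [e, one_smul] at c
      exact l'.lng.ne_one q.nd (c ▸ commutatorElement_eq_one_iff_mul_comm.2 (hc _ k _ (h v hv)))
  have qz : ∀ a ∈ Ln F x y, a ≠ 0 → ∀ b ∈ Ln F x y, b ≠ 0 → ∀ m ∈ Ln F x y, Qe Q x y a (eich Q b m) := fun a ha a0 b hb b0 m hm => by
    rcases (q.eich_ln l hb b0 (pp_of_mem l hm).1).2 hm with k | k <;> rw [k]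
    · exact ⟨0, ⟨by simp, by simp⟩, by simp⟩
    · obtain ⟨o, ho, rfl⟩ := q.c0_tr l xl l.ne ha a0
      exact ⟨_, q.pp_map l (mem_cent1.1 ho.2) (pp_of_mem l yl).1, by rw [← conj_eich, mem_cent1.1 ho.2, mul_inv_cancel_right]⟩
  have qm : ∀ a ∈ Ln F x y, ∀ c d, Qe Q x y a c → Qe Q x y a d → Qe Q x y a (c * d) := by
    rintro a ha _ _ ⟨m, hm, rfl⟩ ⟨m', hm', rfl⟩
    exact ⟨_, hm.add hm', (eich_add (pp_of_mem l ha).2 (hm.of_mem ha) (hm'.of_mem ha)).symm⟩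
  obtain ⟨n1, n2, -⟩ := xy_ne l
  have B : ∀ c ∈ Y, ∃ a ∈ Ln F x y, a ≠ 0 ∧ Qe Q x y a c := fun c hY => by
    obtain ⟨m, m', hm, hm', rfl⟩ := q.ql_eq l (h hY)
    by_cases k1 : m' ∈ Ln F x y
    · exact ⟨x, xl, l.ne, qm _ xl _ _ ⟨m, hm, rfl⟩ (qz _ xl l.ne _ yl l.ne' _ k1)⟩
    by_cases k2 : m ∈ Ln F x y
    · exact ⟨y, yl, l.ne', qm _ yl _ _ (qz _ yl l.ne' _ xl l.ne _ k2) ⟨m', hm', rfl⟩⟩
    by_cases k3 : m + m' ∈ Ln F x y
    · have sl : x + y ∈ Ln F x y := add_mem xl yl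
      refine ⟨_, sl, n2, ?_⟩
      convert qm _ sl _ _ (qm _ sl _ _ ⟨m, hm, rfl⟩ (qz _ sl n2 _ xl l.ne _ (Submodule.smul_mem _ (Q m) yl))) (qz _ sl n2 _ yl l.ne' _ k3) using 1
      rw [eich_xy l hm, mul_assoc _ (eich Q x _) (eich Q x _), eich_sq, mul_one, eich_add l.right hm.2 hm'.2, mul_assoc, ← mul_assoc (eich Q y m), eich_sq, one_mul]
    obtain ⟨o, ho, a, ha, qa, n, hx, hy, e1, e2⟩ := q.ex_o l (m' := m') hm fun k => by
      rw [Set.pair_comm y, Set.insert_comm x, Submodule.mem_span_insert] at k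
      obtain ⟨k, c, hc, rfl⟩ := k
      rcases q.two k with rfl | rfl
      · exact k2 (by simpa using hc)
      · exact k3 (by rwa [one_smul, add_right_comm, vv F, zero_add])
    have := mul_mem (conj_mem_of_norm (hn o ho hx hy) hY) (inv_mem hY)
    rw [← conj_mul, conj_eich, conj_eich, hx, hy, e1, e2, add_comm, eich_add l.left ha.1 hm.1, mul_assoc (eich Q x a), mul_inv_cancel_right] at this
    have hx := all x xl l.ne a ha n this
    exact absurd (ncm x xl l.ne y yl l.ne' hx m' hm' k1 ((mul_mem_cancel_left (hx m hm)).1 hY)) n1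
  obtain ⟨c, hY, c1, c2⟩ := h1
  obtain ⟨a, ha, a0, u, hu, rfl⟩ := B c hY
  have ha' := all a ha a0 u hu (fun k => ((q.eich_ln l ha a0 hu).2 k).elim c1 c2) hY
  refine ⟨a, ha, a0, fun d => ⟨fun hd => ?_, fun ⟨v, hv, e⟩ => e ▸ ha' v hv⟩⟩
  obtain ⟨b, hb, b0, v, hv, rfl⟩ := B d hd
  by_cases k : v ∈ Ln F x y
  · exact qz a ha a0 b hb b0 v k
  · exact ⟨v, hv, by rw [ncm a ha a0 b hb b0 ha' v hv k hd]⟩

omit l in
/-- `o` permutes `x, y, x + y` (`cz`, `mem_ln`); six cases, multiply by words in `s₀₁`, `s₁₀` (`Fr.s_ap`). -/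
theorem c0_ind (p : Fr Q e f) (h : ∀ o ∈ Om Q, o.1 (e 0) = e 0 → o.1 (e 1) = e 1 → o ∈ H) (h1 : eich Q (e 0) (f 1) ∈ H) (h2 : eich Q (e 1) (f 0) ∈ H) :
    Om Q ⊓ 𝐂[eich Q (e 0) (e 1)] ≤ H := by
  have l := p.line (show (0 : Fin 4) ≠ 1 by decide)
  have a := p.s_ap (show (0 : Fin 4) ≠ 1 by decide)
  have b := p.s_ap (show (1 : Fin 4) ≠ 0 by decide)
  have c0 := p.s01 q
  have c1 : eich Q (e 1) (f 0) ∈ Om Q ⊓ 𝐂[eich Q (e 0) (e 1)] := ⟨q.eich_mem _ _, mem_cent1.2 ((q.cz l).2 (by simp [b, q.mem_ln]))⟩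
  have A : ∀ o ∈ Om Q ⊓ 𝐂[eich Q (e 0) (e 1)], o.1 (e 0) = e 0 → o ∈ H := fun o ho k => by
    rcases q.mem_ln.1 ((q.cz l).1 (mem_cent1.1 ho.2)).2 with k' | k' | k' | k'
    · exact absurd k' (O.apply_ne_zero o l.ne')
    · exact absurd (o.1.injective (k.trans k'.symm)) (xy_ne l).1
    · exact h o ho.1 k k'
    · refine (mul_mem_cancel_left h1).1 (h _ (mul_mem c0.1 ho.1) (by simp [k, a]) ?_)
      rw [O.mul_apply, k', map_add, a, a, if_neg (by decide), if_pos rfl, add_left_comm, vv F, add_zero]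
  have B : ∀ o ∈ Om Q ⊓ 𝐂[eich Q (e 0) (e 1)], o.1 (e 0) = e 0 + e 1 → o ∈ H := fun o ho k =>
    (mul_mem_cancel_left h2).1 (A _ (mul_mem c1 ho) (by rw [O.mul_apply, k, map_add, b, b, if_pos rfl, if_neg (by decide), add_assoc, vv F, add_zero]))
  intro o ho
  rcases q.mem_ln.1 ((q.cz l).1 (mem_cent1.1 ho.2)).1 with k | k | k | k
  · exact absurd k (O.apply_ne_zero o l.ne)
  · exact A o ho k
  · exact (mul_mem_cancel_left h1).1 (B _ (mul_mem c0 ho) (by rw [O.mul_apply, k, a, if_pos rfl, add_comm]))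
  · exact B o ho k

omit l in
/-- `π = ⟨e₀, e₁, e₂⟩`.  On `π^⊥`, `φ m ≡ m + μ(m) e₂`, `μ m = B(φ m + m, f₂)` is additive and vanishes on `π`: `μ = B(u, ·)`, `u ⊥ π` (`dual`).  `φ' = E(e₂, u) φ` is trivial on `π^⊥` modulo `ℓ`;
`B(φ' f₂, m) = B(φ' f₂, φ' m) = B(f₂, m)` for `m ⊥ π`, so `φ' f₂ + f₂ ∈ π`, and `Q (φ' f₂) = 0` kills the coefficient of `e₂`; `ℓ^⊥ = π^⊥ + ⟨f₂⟩`. -/
theorem fin (p : Fr Q e f) (φ : V → V) (h0 : ∀ m, Pp Q (e 0) (e 1) m → Pp Q (e 0) (e 1) (φ m) ∧ Q (φ m) = Q m)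
    (h1 : ∀ m m', Pp Q (e 0) (e 1) m → Pp Q (e 0) (e 1) m' → φ (m + m') + φ m + φ m' ∈ Ln F (e 0) (e 1) ∧ polar Q (φ m) (φ m') = polar Q m m')
    (h2 : ∀ m ∈ Ln F (e 0) (e 1), φ m ∈ Ln F (e 0) (e 1)) (h3 : φ (e 2) + e 2 ∈ Ln F (e 0) (e 1))
    (h4 : ∀ m, Pp Q (e 0) (e 1) m → polar Q (e 2) m = 0 → φ m + m ∈ Ln F (e 0) (e 1) ⊔ F ∙ e 2) :
    ∃ u, Pp Q (e 0) (e 1) u ∧ polar Q (e 2) u = 0 ∧ ∀ m, Pp Q (e 0) (e 1) m → (eich Q (e 2) u).1 (φ m) + m ∈ Ln F (e 0) (e 1) := by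
  have l := p.line (show (0 : Fin 4) ≠ 1 by decide)
  have f2 := p.ppf (k := 2) (by decide) (by decide)
  have mp : ∀ {m}, m ∈ perp Q (Ln F (e 0) (e 1) ⊔ F ∙ e 2) ↔ Pp Q (e 0) (e 1) m ∧ polar Q (e 2) m = 0 := by
    intro m; rw [perp_sup, Submodule.mem_inf, mem_perp_pair, mem_perp_singleton]; rfl
  have dec : ∀ a ∈ Ln F (e 0) (e 1) ⊔ F ∙ e 2, ∃ c ∈ Ln F (e 0) (e 1), a = c + polar Q a (f 2) • e 2 := fun a ha => by
    obtain ⟨c, hc, d, hd, rfl⟩ := Submodule.mem_sup.1 ha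
    obtain ⟨k, rfl⟩ := Submodule.mem_span_singleton.1 hd
    exact ⟨c, hc, by simp [f2.of_mem hc, p.ef]⟩
  have ad : ∀ m m', Pp Q (e 0) (e 1) m → Pp Q (e 0) (e 1) m' → ∃ c ∈ Ln F (e 0) (e 1), φ (m + m') = c + φ m + φ m' := fun m m' hm hm' =>
    ⟨_, (h1 m m' hm hm').1, by rw [show φ (m + m') + φ m + φ m' + φ m + φ m' = φ (m + m') + (φ m + φ m) + (φ m' + φ m') by abel, vv F, vv F, add_zero, add_zero]⟩
  obtain ⟨u, hu, k⟩ := q.dual (S := Ln F (e 0) (e 1) ⊔ F ∙ e 2) (fun a ha => mp.2 ⟨p.pi_pp ha, p.pi_e ha 2⟩) (fun m => polar Q (φ m + m) (f 2))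
    (fun m hm m' hm' => by
      obtain ⟨c, hc, e⟩ := ad m m' (mp.1 hm).1 (mp.1 hm').1
      simp only [e, polar_add_left, f2.of_mem hc]; ring)
    (fun m hm => by
      obtain ⟨c, hc, e₁⟩ := dec m hm
      refine f2.of_mem ?_
      rcases q.two (polar Q m (f 2)) with k | k <;> rw [k] at e₁
      · rw [zero_smul, add_zero] at e₁; exact e₁ ▸ add_mem (h2 c hc) hc
      · obtain ⟨d, hd, e'⟩ := ad c _ (pp_of_mem l hc).1 (p.pp 2)
        rw [e₁, one_smul, e', show d + φ c + φ (e 2) + (c + e 2) = d + φ c + c + (φ (e 2) + e 2) by abel]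
        exact add_mem (add_mem (add_mem hd (h2 c hc)) hc) h3)
  obtain ⟨hu, u2⟩ := mp.1 hu
  have fl : ∀ c ∈ Ln F (e 0) (e 1), (eich Q (e 2) u).1 c = c := fun c hc =>
    eich_fix (p.qe 2) u2 (by rw [polar_comm, (p.pp 2).of_mem hc]) (by rw [polar_comm, hu.of_mem hc])
  have A : ∀ m, Pp Q (e 0) (e 1) m → polar Q (e 2) m = 0 → (eich Q (e 2) u).1 (φ m) + m ∈ Ln F (e 0) (e 1) := fun m hm m2 => by
    obtain ⟨c, hc, e₁⟩ := dec _ (h4 m hm m2)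
    simp only [k m (mp.2 ⟨hm, m2⟩)] at e₁
    rw [← eq_sub_iff_add_eq] at e₁
    rw [eich_apply_of_perp (p.qe 2) u2 (by simp [e₁, m2, p.ee, polar_comm Q (e 2) c, (p.pp 2).of_mem hc])]
    convert hc using 1
    rw [e₁]
    simp only [polar_sub_right, polar_add_right, polar_smul_right, polar_comm Q u c, hu.of_mem hc, polar_comm Q u (e 2), u2]
    module
  have pf : Pp Q (e 0) (e 1) ((eich Q (e 2) u).1 (φ (f 2))) := (h0 _ f2).1.fix (fl _ xl) (fl _ yl)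
  have B : (eich Q (e 2) u).1 (φ (f 2)) + f 2 ∈ Ln F (e 0) (e 1) := by
    obtain ⟨c, hc, e₁⟩ := dec ((eich Q (e 2) u).1 (φ (f 2)) + f 2) (by
      rw [← perp_perp q.nd (_ ⊔ _)]
      refine mem_perp.2 fun m hm => ?_
      obtain ⟨hm, m2⟩ := mp.1 hm
      have := pf.of_mem (A m hm m2)
      rw [polar_add_left, O.map_polar, (h1 _ _ hm f2).2, add_comm] at this
      rwa [polar_add_right])
    generalize polar Q ((eich Q (e 2) u).1 (φ (f 2)) + f 2) (f 2) = κ at e₁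
    have := (h0 _ f2).2
    rw [← O.map_Q (eich Q (e 2) u), eq_sub_of_add_eq e₁, sub_eq F, add_assoc, add_comm, (show Pp Q _ _ (κ • e 2 + f 2) from ⟨by simp [p.ee, p.ef], by simp [p.ee, p.ef]⟩).Q_add l hc] at this
    obtain rfl : κ = 0 := by simpa [Q_add, Q_smul, p.qe, p.qf, p.ef] using this
    rw [e₁]; simpa
  refine ⟨u, hu, u2, fun m hm => ?_⟩
  rcases q.two (polar Q (e 2) m) with m2 | m2
  · exact A m hm m2
  · obtain ⟨c, hc, e₁⟩ := ad _ _ (hm.add f2) f2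
    rw [add_assoc, vv F, add_zero] at e₁
    convert add_mem (add_mem hc (A _ (hm.add f2) (by simp [m2, p.ef, CharTwo.add_self_eq_zero]))) B using 1
    rw [e₁, map_add, map_add, fl c hc]
    rw [← sub_eq_zero, ← neg_eq_zero, ← vv F (f 2)]; abel

omit l in
/-- `π = ⟨e_i, e_j, e_k⟩`; `r` commutes with the `E(a, m)`, `a ∈ π`, `m ⊥ π`.  As in `cq`: `r e_i ∈ ⟨e_i, e_j⟩ ⊓ ⟨e_i, e_k⟩`, so `r` fixes `e_i`, `e_j`, and `r m - m ∈ ⟨e_i⟩ ⊓ ⟨e_j⟩`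
for `m ⊥ π` (`cz` for the lines `e_i e_j`, `e_i e_k`, `e_j e_k`; `Gq.eich_eq`).  `Fr.eq_zt`. -/
theorem cpi (p : Fr Q e f) {i j k : Fin 4} (h1 : i ≠ j) (h2 : i ≠ k) (h3 : j ≠ k)
    (h : ∀ o ∈ Om Q, o.1 (e i) = e i → o.1 (e j) = e j → o.1 (e k) = e k → r * o = o * r) : ∃ v, r = zt Q e v := by
  have cm : ∀ a m, (∀ i, polar Q (e i) m = 0) → r * eich Q (e a) m = eich Q (e a) m * r := fun a m hm =>
    have fx : ∀ b, (eich Q (e a) m).1 (e b) = e b := fun b => eich_fix (p.qe a) (hm a) (p.ee _ _) (by rw [polar_comm, hm])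
    h _ (q.eich_mem _ _) (fx i) (fx j) (fx k)
  have fx : ∀ {i j k : Fin 4}, i ≠ j → i ≠ k → j ≠ k → r.1 (e i) = e i := fun {i j k} h1 h2 h3 => by
    have a := (show Pp Q (e i) (e k) (f j) from ⟨by simp [p.ef, h1], by simp [p.ef, h3.symm]⟩).of_mem ((q.cz (p.line h2)).1 (cm i _ fun _ => p.ee _ _)).1
    rcases q.mem_ln.1 ((q.cz (p.line h1)).1 (cm i _ fun _ => p.ee _ _)).1 with b | b | b | b
    · exact absurd b (O.apply_ne_zero r (p.line h1).ne)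
    · exact b
    all_goals simp [b, p.ef, h1] at a
  refine p.eq_zt q.nd fun m hm => ?_
  have key : ∀ {i j k : Fin 4}, i ≠ j → i ≠ k → j ≠ k → ∃ c : F, c • e i = r.1 m - m := fun {i j k} h1 h2 h3 => by
    have := mul_inv_eq_iff_eq_mul.2 (cm i m hm)
    rw [conj_eich, fx h1 h2 h3] at this
    exact Submodule.mem_span_singleton.1 ((q.toGq.eich_eq (p.qe i) (p.line h1).ne (by rw [← fx h1 h2 h3, O.map_polar, hm]) (hm i)).1 this)
  obtain ⟨c, hc⟩ := key h1 h2 h3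
  obtain ⟨d, hd⟩ := key h1.symm h3 h2
  have : c = 0 := by simpa [p.ef, h1.symm] using congrArg (polar Q · (f i)) (hc.trans hd.symm)
  rwa [this, zero_smul, eq_comm, sub_eq_zero] at hc

end G2

end Cfsg.Lib.OD
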