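import Cfsg.Agent.Lib.OD.T2b
import Cfsg.Agent.Lib.OD.Out

/-!
# OD, Step 1 for `q = 2`: the group layer.  `ψ : Ω → G`, `K = C(t) ⊓ C(ψ Ω)`, `Z = ψ z`, `X = C(t) ⊓ C(Z)`, `C₀ = Ω ⊓ C(z)`.
-/

set_option autoImplicit false
set_option linter.unusedSectionVars false

namespace Cfsg.Lib.OD

open Subgroup Cfsg.Lib.BG Cfsg.Lib.Orth QuadraticMap Module
open scoped Cfsg.Lib.Transfer commutatorElement

variable {F V : Type*} [Field F] [Finite F] [CharP F 2] [AddCommGroup V] [Module F V] [FiniteDimensional F V] {Q : QuadraticForm F V}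
  {G : Type*} [Group G] [Finite G] {ψ : O Q → G} {t g g' h k : G} {r r' o o' c : O Q} {x y : V}

/-- `g` acts on `ψ Ω` as `r`. -/
def Ac (ψ : O Q → G) (g : G) (r : O Q) : Prop := ∀ o ∈ Om Q, g * ψ o * g⁻¹ = ψ (r * o * r⁻¹)
/-- `K`. -/
def Kt (ψ : O Q → G) (t : G) : Subgroup G := 𝐂[t] ⊓ centralizer (ψ '' Om Q)
/-- `X`. -/
def Xz (ψ : O Q → G) (t : G) (x y : V) : Subgroup G := 𝐂[t] ⊓ 𝐂[ψ (eich Q x y)]
/-- The centralizer of the elements of odd order of `K`. -/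
def Co (ψ : O Q → G) (t : G) : Subgroup G := centralizer {k | k ∈ Kt ψ t ∧ Odd (orderOf k)}
/-- `g` swaps `t` and `t Z`. -/
def Swp (ψ : O Q → G) (t : G) (x y : V) (g : G) : Prop := g * t * g⁻¹ = t * ψ (eich Q x y) ∧ g * ψ (eich Q x y) = ψ (eich Q x y) * g

theorem mem_Kt : g ∈ Kt ψ t ↔ g * t = t * g ∧ ∀ o ∈ Om Q, g * ψ o = ψ o * g :=
  and_congr mem_cent1 ⟨fun h o ho => (h _ ⟨o, ho, rfl⟩).symm, by rintro h _ ⟨o, ho, rfl⟩; exact (h o ho).symm⟩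
theorem mem_Xz : g ∈ Xz ψ t x y ↔ g * t = t * g ∧ g * ψ (eich Q x y) = ψ (eich Q x y) * g := and_congr mem_cent1 mem_cent1
theorem mem_Co : g ∈ Co ψ t ↔ ∀ k ∈ Kt ψ t, Odd (orderOf k) → g * k = k * g := ⟨fun h k a b => (h k ⟨a, b⟩).symm, fun h k a => (h k a.1 a.2).symm⟩
theorem om_cj (ho : o ∈ Om Q) (r : O Q) : r * o * r⁻¹ ∈ Om Q := (inferInstance : (Om Q).Normal).conj_mem _ ho r
theorem Ac.mul (a : Ac ψ g r) (a' : Ac ψ g' r') : Ac ψ (g * g') (r * r') := fun o ho => by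
  rw [show g * g' * ψ o * (g * g')⁻¹ = g * (g' * ψ o * g'⁻¹) * g⁻¹ by group, a' o ho, a _ (om_cj ho r'), show r * (r' * o * r'⁻¹) * r⁻¹ = r * r' * o * (r * r')⁻¹ by group]
theorem Ac.inv (a : Ac ψ g r) : Ac ψ g⁻¹ r⁻¹ := fun o ho => by
  have := a _ (om_cj ho r⁻¹)
  rw [show r * (r⁻¹ * o * r⁻¹⁻¹) * r⁻¹ = o by group] at this
  rw [← this]; group

/-- All that is used about `G`. -/
structure Cx (ψ : O Q → G) (t : G) : Prop extends G2 Q where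
  mul : ∀ a ∈ Om Q, ∀ b ∈ Om Q, ψ (a * b) = ψ a * ψ b
  inj : ∀ a ∈ Om Q, ∀ b ∈ Om Q, ψ a = ψ b → a = b
  t2 : t * t = 1
  tn : ∀ o ∈ Om Q, ψ o ≠ t
  tL : ∀ o ∈ Om Q, ψ o * t = t * ψ o
  ac : ∀ g, g * t = t * g → ∃ r, Ac ψ g r
  kinv : ∀ g ∈ Kt ψ t, g * g = 1 → g = 1 ∨ g = t
  fu : ∀ (X : Subgroup G) (g d w : G), X ≤ 𝐂[d] → g * d * g⁻¹ = t → Fu X w → ∃ o ∈ Om Q, g * w * g⁻¹ = ψ o
  zne : ∀ g z, Lng z → g * ψ z * g⁻¹ ≠ t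
  cen : ∀ T : Subgroup G, IsPGroup 2 T → T ≤ 𝐂[t] → ∃ z, Lng z ∧ ψ z ∈ 𝐂(T)

/-- `ψ o = if h : o ∈ Ω then j ⟨o, h⟩ else 1`.  `surjective_rho` (`dim ≠ 8`), `au_of_surj`, `Sg.ex`, `Gq.iv`, `Iv.transport`, `Ex.fu`, `Ex.zne`, `Ex.cen`.
`ac`: `g` induces `β : MulAut Ω`, `exists_mk`, `ind_of_rho`; `φ.σ = 1` (`two`), `mem_range_ofO`, `cj_ofO`. -/
theorem Sg.cx {L : Subgroup G} (s : Sg L t) (q : G2 Q) (j : Om Q ≃* L) : ∃ ψ : O Q → G, Cx ψ t ∧ ∀ o : Om Q, ψ o = j o := by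
  classical
  have su := surjective_rho q.nd (by have := q.d10; omega) (fun h => by have := q.d10; omega)
  obtain ⟨K, a⟩ := q.toGq.au_of_surj su
  obtain ⟨N, x⟩ := s.ex q.toGq a j
  have i := q.toGq.iv.transport j
  let ψ : O Q → G := fun o => if h : o ∈ Om Q then j ⟨o, h⟩ else 1
  have e : ∀ o (h : o ∈ Om Q), ψ o = j ⟨o, h⟩ := fun o h => dif_pos h
  have su' : ∀ l ∈ L, ∃ o ∈ Om Q, l = ψ o := fun l hl => by
    obtain ⟨o, ho⟩ := j.surjective ⟨l, hl⟩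
    exact ⟨o, o.2, by rw [e _ o.2, ho]⟩
  refine ⟨ψ, ⟨q, fun a ha b hb => ?_, fun a ha b hb h => ?_, s.t2, fun o ho h => x.tn (by rw [← h, e o ho]; exact (j _).2), fun o ho => by rw [e o ho]; exact s.tL _ (j _).2,
    fun g hg => ?_, fun g hg => s.kinv g (mem_Kt.1 hg).1 (mem_cent.2 fun l hl => ?_), fun X g d w hX h hw => su' _ (x.fu hX h hw), fun g z hz => x.zne i ⟨⟨z, hz.mem_commutator q.nd (by have := q.d10; omega)⟩, hz, (e _ _).symm⟩,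
    fun T hT h => ?_⟩, fun o => e _ o.2⟩
  · rw [e _ ha, e _ hb, e _ (mul_mem ha hb), ← coe_mul, ← map_mul]; rfl
  · rw [e _ ha, e _ hb] at h
    exact congrArg Subtype.val (j.injective (Subtype.ext h))
  · let β : MulAut (Om Q) := MulAut.congr j.symm (L.normalizerMonoidHom ⟨g, s.cn g hg⟩)
    have hβ : ∀ o, (j (β o) : G) = g * j o * g⁻¹ := fun o => congrArg Subtype.val (j.apply_symm_apply _)
    obtain ⟨i, hi⟩ := q.toGq.exists_mk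
    obtain ⟨φ, hφ⟩ := su (MulAut.congr i β)
    obtain ⟨φ, hφ⟩ := q.toGq.ind_of_rho hi hφ
    obtain ⟨r, rfl⟩ := (Gam.mem_range_ofO (g := φ)).2 ⟨RingEquiv.ext fun c => by rcases q.two c with rfl | rfl <;> simp, hφ.1⟩
    refine ⟨r, fun o ho => ?_⟩
    have := hφ.2 ⟨o, ho⟩
    rw [Gam.cj_ofO] at this
    rw [e _ ho, ← hβ, e _ (om_cj ho r)]
    exact congrArg (fun y => (j y : G)) (Subtype.ext this)
  · obtain ⟨o, ho, rfl⟩ := su' l hl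
    exact ((mem_Kt.1 hg).2 o ho).symm
  · obtain ⟨_, ⟨z, hz, rfl⟩, h⟩ := x.cen i hT h
    exact ⟨z, hz, by rwa [e _ z.2]⟩

namespace Cx
variable (s : Cx ψ t)
include s

theorem one : ψ 1 = 1 := by have := s.mul 1 (one_mem _) 1 (one_mem _); rw [mul_one] at this; exact left_eq_mul.1 this
/-- `ψ` as a homomorphism. -/
def hom : Om Q →* G := .mk' (fun o => ψ o) fun a b => s.mul _ a.2 _ b.2
theorem inv (ho : o ∈ Om Q) : ψ o⁻¹ = (ψ o)⁻¹ := map_inv s.hom ⟨o, ho⟩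
theorem conj (ho : o ∈ Om Q) (ho' : o' ∈ Om Q) : ψ o * ψ o' * (ψ o)⁻¹ = ψ (o * o' * o⁻¹) := by
  rw [s.mul _ (mul_mem ho ho') _ (inv_mem ho), s.mul _ ho _ ho', s.inv ho]
theorem cm (ho : o ∈ Om Q) (ho' : o' ∈ Om Q) : ψ ⁅o, o'⁆ = ⁅ψ o, ψ o'⁆ := map_commutatorElement s.hom ⟨o, ho⟩ ⟨o', ho'⟩
theorem ac_of (ho : o ∈ Om Q) : Ac ψ (ψ o) o := fun _ h => s.conj ho h
theorem conj_eich (ho : o ∈ Om Q) (a m : V) : ψ o * ψ (eich Q a m) * (ψ o)⁻¹ = ψ (eich Q (o.1 a) (o.1 m)) := by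
  rw [s.conj ho (s.toGq.eich_mem _ _), Orth.conj_eich]
theorem sq (a m : V) : ψ (eich Q a m) * ψ (eich Q a m) = 1 := by rw [← s.mul _ (s.toGq.eich_mem _ _) _ (s.toGq.eich_mem _ _), eich_sq, s.one]
theorem co_of (ho : o ∈ Om Q) : ψ o ∈ Co ψ t := mem_Co.2 fun _ hk _ => ((mem_Kt.1 hk).2 o ho).symm
omit s in
theorem co_t : t ∈ Co ψ t := mem_Co.2 fun _ hk _ => (mem_Kt.1 hk).1.symm
theorem tK : t ∈ Kt ψ t := mem_Kt.2 ⟨rfl, fun o ho => (s.tL o ho).symm⟩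
omit s in
/-- `g` commutes with `ψ Ω`. -/
theorem k_of (hg : g * t = t * g) (a : Ac ψ g 1) : g ∈ Kt ψ t := mem_Kt.2 ⟨hg, fun o ho => mul_inv_eq_iff_eq_mul.1 (by simpa using a o ho)⟩

variable (l : IsLine Q x y)
include l

/-- `G2.cO`. -/
theorem ac_eq (a : Ac ψ g r) (a' : Ac ψ g r') : r = r' := by
  refine (inv_mul_eq_one.1 (s.toG2.cO l fun o ho => mul_inv_eq_iff_eq_mul.1 (s.inj _ (om_cj ho _) _ ho ?_))).symm
  rw [← a'.inv.mul a o ho]; simp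
theorem z1 : ψ (eich Q x y) ≠ 1 := fun h => l.lng.ne_one s.nd (s.inj _ (s.toGq.eich_mem _ _) _ (one_mem _) (h.trans s.one.symm))
/-- `kinv`, `tn`. -/
theorem zK : ψ (eich Q x y) ∉ Kt ψ t := fun h => (s.kinv _ h (s.sq x y)).elim (s.z1 l) (s.tn _ (s.toGq.eich_mem _ _))
omit l in
theorem x_of (ho : o ∈ Om Q ⊓ 𝐂[eich Q x y]) : ψ o ∈ Xz ψ t x y :=
  mem_Xz.2 ⟨s.tL o ho.1, by rw [← s.mul _ ho.1 _ (s.toGq.eich_mem _ _), mem_cent1.1 ho.2, s.mul _ (s.toGq.eich_mem _ _) _ ho.1]⟩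
omit l in
theorem ac_z (hg : g ∈ Xz ψ t x y) : ∃ r, Ac ψ g r ∧ r * eich Q x y = eich Q x y * r := by
  obtain ⟨r, hr⟩ := s.ac g (mem_Xz.1 hg).1
  refine ⟨r, hr, mul_inv_eq_iff_eq_mul.1 (s.inj _ (om_cj (s.toGq.eich_mem _ _) r) _ (s.toGq.eich_mem _ _) ?_)⟩
  rw [← hr _ (s.toGq.eich_mem _ _), (mem_Xz.1 hg).2, mul_inv_cancel_right]
omit l in
theorem ac_cm (a : Ac ψ g r) (ho : o ∈ Om Q) (h : g * ψ o = ψ o * g) : r * o = o * r :=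
  mul_inv_eq_iff_eq_mul.1 (s.inj _ (om_cj ho r) _ ho (by rw [← a o ho, h, mul_inv_cancel_right]))
omit l in
theorem tz (x y : V) : t * ψ (eich Q x y) = ψ (eich Q x y) * t := (s.tL _ (s.toGq.eich_mem _ _)).symm
omit s l in
theorem x_le : Xz ψ t x y ≤ 𝐂[t * ψ (eich Q x y)] := fun h hh => mem_cent1.2 (by rw [← mul_assoc, (mem_Xz.1 hh).1, mul_assoc, (mem_Xz.1 hh).2, mul_assoc])

/-- `ac`, `inj`, `G2.cq`; if `r = z` then `g Z` acts trivially. -/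
theorem cQ (hg : g * t = t * g) (h : ∀ m, Pp Q x y m → g * ψ (eich Q x m) = ψ (eich Q x m) * g ∧ g * ψ (eich Q y m) = ψ (eich Q y m) * g) :
    g ∈ Kt ψ t ∨ g * ψ (eich Q x y) ∈ Kt ψ t := by
  obtain ⟨r, hr⟩ := s.ac g hg
  rcases s.toG2.cq l (r := r) fun m hm => ⟨s.ac_cm hr (s.toGq.eich_mem _ _) (h m hm).1, s.ac_cm hr (s.toGq.eich_mem _ _) (h m hm).2⟩ with rfl | rfl
  · exact Or.inl (k_of hg hr)
  · exact Or.inr (k_of (by rw [mul_assoc, ← s.tz, ← mul_assoc, hg, mul_assoc]) (eich_sq (Q := Q) x y ▸ hr.mul (s.ac_of (s.toGq.eich_mem x y))))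

/-- `T` Sylow in `X`.  `S` Sylow in `C(t)`, `cen`, `Gq.lng_cj`: a conjugate of `S` lies in `X`, so `T` is Sylow in `C(t)` and in `C(t Z) = g ⋆ C(t)`; correct `g` by an element of `C(t Z)`: `g ∈ N(T)`.
`t ∈ T`, and `{ψ c | c ∈ Q_ℓ}` is a normal `2`-subgroup of `X` (`ql_two`, `ac_z`, `ql_conj`, `ql_le`), so lies in `T` (`Syl.ge_of_norm_p`).  `a = g Z g⁻¹` centralizes `T`: `cQ`, `kinv`:
`a ∈ {1, t, Z, t Z}`; `z1`, `zne`, `tn`. -/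
theorem exists_sw (e : g * t * g⁻¹ = t * ψ (eich Q x y)) : ∃ g, Swp ψ t x y g := by
  have : Fact (Nat.Prime 2) := ⟨Nat.prime_two⟩
  have em := s.toGq.eich_mem
  obtain ⟨T, hT⟩ := Syl.exists 2 (Xz ψ t x y)
  obtain ⟨S, hS⟩ := Syl.exists 2 𝐂[t]
  obtain ⟨z, hz, c⟩ := s.cen S hS.pgroup hS.le
  obtain ⟨o, ho, e'⟩ := s.toGq.lng_cj hz l.lng
  have zm : z ∈ Om Q := hz.mem_commutator s.nd (by have := s.d10; omega)
  have le : ψ o ⋆ S ≤ Xz ψ t x y := le_inf (conj_le_of_mem hS.le (mem_cent1.2 (s.tL o ho))) (by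
    rw [← e', ← s.conj ho zm, ← conj_cent1]; exact map_mono (le_cent1_iff.2 c))
  have h1 : Syl 2 T 𝐂[t] := hS.of_card_le' hT.pgroup (hT.le.trans inf_le_left) (by
    rw [← Transfer.card_conj (ψ o) S]; exact hT.card_le ((pgroup_conj _).2 hS.pgroup) le)
  have h2 : Syl 2 (g ⋆ T) 𝐂[t * ψ (eich Q x y)] := by rw [← e, ← conj_cent1]; exact h1.conj g
  have h3 : Syl 2 T 𝐂[t * ψ (eich Q x y)] := h2.of_card_le' hT.pgroup (hT.le.trans x_le) (by rw [Transfer.card_conj])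
  obtain ⟨c, hc, h4⟩ := h2.exists_conj_eq h3
  have e1 : c * g * t * (c * g)⁻¹ = t * ψ (eich Q x y) := by
    rw [show c * g * t * (c * g)⁻¹ = c * (g * t * g⁻¹) * c⁻¹ by group, e, mem_cent1.1 hc, mul_inv_cancel_right]
  have n : c * g ∈ 𝐍(T) := norm_of_conj_eq (by rw [← Transfer.conj_conj, ← h4])
  generalize c * g = g at e1 n
  refine ⟨g, e1, ?_⟩
  have zT : ψ (eich Q x y) ∈ 𝐂(T) := le_cent1_iff.1 (hT.le.trans inf_le_right)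
  have aT : g * ψ (eich Q x y) * g⁻¹ ∈ 𝐂(T) := conj_mem_of_norm (norm_cent le_rfl n) zT
  have tT : t ∈ T := hT.ge_of_norm_p' (zpowers_le.2 (mem_Xz.2 ⟨rfl, s.tz x y⟩)) (pg_inv s.t2) (norm_of_cent (zpowers_le.2 (le_cent1_iff.1 (hT.le.trans inf_le_left)))) (mem_zpowers t)
  have qT : ((Ql Q x y).comap (Om Q).subtype).map s.hom ≤ T := by
    refine hT.ge_of_norm_p ?_ ((s.toG2.ql_two l).comap_subtype.map _) (le_norm_iff.2 ?_)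
    · rintro _ ⟨c, hc, rfl⟩
      exact s.x_of (s.toG2.ql_le l hc)
    · rintro a ha _ ⟨c, hc, rfl⟩
      obtain ⟨r, hr, rz⟩ := s.ac_z (hT.le ha)
      exact ⟨⟨_, om_cj c.2 r⟩, s.toG2.ql_conj l rz hc, (hr _ c.2).symm⟩
  have cq : ∀ c ∈ Ql Q x y, g * ψ (eich Q x y) * g⁻¹ * ψ c = ψ c * (g * ψ (eich Q x y) * g⁻¹) := fun c hc =>
    (mem_cent.1 aT _ (qT ⟨⟨c, (s.toG2.ql_le l hc).1⟩, hc, rfl⟩)).symm
  have xl : x ∈ Ln F x y := Submodule.subset_span (by simp)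
  have yl : y ∈ Ln F x y := Submodule.subset_span (by simp)
  have a2 : g * ψ (eich Q x y) * g⁻¹ * (g * ψ (eich Q x y) * g⁻¹) = 1 := by rw [conj_mul, s.sq]; simp
  rcases s.cQ l (mem_cent.1 aT t tT).symm fun m hm => ⟨cq _ (eich_mem_Ql l xl hm), cq _ (eich_mem_Ql l yl hm)⟩ with h | h
  · rcases s.kinv _ h a2 with h | h
    · exact absurd (by simpa using h) (s.z1 l)
    · exact absurd h (s.zne _ _ l.lng)
  · have c : Commute (g * ψ (eich Q x y) * g⁻¹) (ψ (eich Q x y)) := cq _ (eich_mem_Ql l xl (pp_of_mem l yl).1)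
    rcases s.kinv _ h (by rw [← pow_two, c.mul_pow, pow_two, pow_two, a2, s.sq, mul_one]) with h | h
    · rw [mul_eq_one_iff_eq_inv, inv_eq_of_mul_eq_one_right (s.sq x y)] at h
      exact mul_inv_eq_iff_eq_mul.1 h
    · rw [← eq_mul_inv_iff_mul_eq, inv_eq_of_mul_eq_one_right (s.sq x y), ← e1, mul_left_inj, mul_right_inj] at h
      exact absurd h (s.tn _ (em _ _))

omit l in
theorem sw_inv (w : Swp ψ t x y g) : Swp ψ t x y g⁻¹ := by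
  have c : Commute g⁻¹ (ψ (eich Q x y)) := Commute.inv_left w.2
  refine ⟨?_, c⟩
  have : t = g * t * g⁻¹ * ψ (eich Q x y) := by rw [w.1, mul_assoc, s.sq, mul_one]
  conv_lhs => rw [this, mul_assoc (g * t), c.eq]
  group
omit s l in
theorem sw_mul (hh : h ∈ Xz ψ t x y) (w : Swp ψ t x y g) : Swp ψ t x y (h * g) :=
  ⟨by rw [show h * g * t * (h * g)⁻¹ = h * (g * t * g⁻¹) * h⁻¹ by group, w.1, mem_cent1.1 (x_le hh), mul_inv_cancel_right], Commute.mul_left (mem_Xz.1 hh).2 w.2⟩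
omit s l in
theorem sw_mul' (w : Swp ψ t x y g) (hh : h ∈ Xz ψ t x y) : Swp ψ t x y (g * h) :=
  ⟨by rw [mul_assoc g, (mem_Xz.1 hh).1, ← w.1]; group, Commute.mul_left w.2 (mem_Xz.1 hh).2⟩
omit l in
theorem sw_sw (w : Swp ψ t x y g) (w' : Swp ψ t x y g') : g * g' ∈ Xz ψ t x y := by
  refine mem_Xz.2 ⟨?_, Commute.mul_left w.2 w'.2⟩
  rw [mul_assoc, mul_inv_eq_iff_eq_mul.1 w'.1, ← mul_assoc, ← mul_assoc, mul_inv_eq_iff_eq_mul.1 w.1, mul_assoc _ g, w.2, ← mul_assoc, mul_assoc t, s.sq, mul_one, mul_assoc]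
omit l in
theorem sw_conj (w : Swp ψ t x y g) (hh : h ∈ Xz ψ t x y) : g * h * g⁻¹ ∈ Xz ψ t x y := s.sw_sw (sw_mul' w hh) (s.sw_inv w)

/-- `H = {c ∈ Ω | g (ψ c) g⁻¹ ∈ ψ Ω}` contains `Q_ℓ` (`ql_ind`; `fu` for `X`, `d = t Z`).  `A = {o ∈ Ω | ∃ c ∈ Q_ℓ, ψ o = g (ψ c) g⁻¹}` is a `2`-group centralizing `z`, normalized by `C₀`
(`g⁻¹ (ψ u) g ∈ X`, `ac_z`, `ql_conj`): `o2`. -/
theorem sw_Q (w : Swp ψ t x y g) (hc : c ∈ Ql Q x y) : ∃ c' ∈ Ql Q x y, g * ψ c * g⁻¹ = ψ c' := by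
  have q := s.toG2
  let H : Subgroup (O Q) :=
    { carrier := {c | c ∈ Om Q ∧ ∃ o ∈ Om Q, g * ψ c * g⁻¹ = ψ o}
      one_mem' := ⟨one_mem _, 1, one_mem _, by simp [s.one]⟩
      mul_mem' := by
        rintro a b ⟨ha, o, ho, e⟩ ⟨hb, o', ho', e'⟩
        exact ⟨mul_mem ha hb, _, mul_mem ho ho', by rw [s.mul _ ha _ hb, s.mul _ ho _ ho', ← e, ← e', conj_mul]⟩
      inv_mem' := by
        rintro a ⟨ha, o, ho, e⟩
        exact ⟨inv_mem ha, _, inv_mem ho, by rw [s.inv ha, s.inv ho, ← e]; group⟩ }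
  have hH : Ql Q x y ≤ H := q.ql_ind l fun c ⟨h1, h2, a, ha, b, hb, e⟩ => ⟨h1.1, s.fu (Xz ψ t x y) g _ _ x_le (by rw [← (s.sw_inv w).1]; group)
    ⟨s.x_of h1, by rw [← s.mul _ h1.1 _ h1.1, h2, s.one], _, s.x_of ha, _, s.x_of hb, by
      rw [s.conj hb.1 h1.1, s.conj ha.1 h1.1, e, s.mul _ h1.1 _ (om_cj h1.1 a)]⟩⟩
  let A : Subgroup (O Q) :=
    { carrier := {o | o ∈ Om Q ∧ ∃ c ∈ Ql Q x y, g * ψ c * g⁻¹ = ψ o}
      one_mem' := ⟨one_mem _, 1, one_mem _, by simp [s.one]⟩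
      mul_mem' := by
        rintro a b ⟨ha, o, ho, e⟩ ⟨hb, o', ho', e'⟩
        exact ⟨mul_mem ha hb, _, mul_mem ho ho', by rw [s.mul _ ha _ hb, s.mul _ (hH ho).1 _ (hH ho').1, ← e, ← e', conj_mul]⟩
      inv_mem' := by
        rintro a ⟨ha, o, ho, e⟩
        exact ⟨inv_mem ha, _, inv_mem ho, by rw [s.inv ha, s.inv (hH ho).1, ← e]; group⟩ }
  have pw : ∀ o ∈ Om Q, ∀ n : ℕ, ψ (o ^ n) = ψ o ^ n := fun o ho n => map_pow s.hom ⟨o, ho⟩ n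
  suffices hA : A ≤ Ql Q x y by
    obtain ⟨h1, o, ho, e⟩ := hH hc
    exact ⟨o, hA ⟨ho, c, hc, e⟩, e⟩
  refine q.o2 l ?_ ?_ (le_norm_iff.2 ?_)
  · rintro ⟨o, ho, c, hc, e⟩
    obtain ⟨n, hn⟩ := q.ql_two l ⟨c, hc⟩
    refine ⟨n, Subtype.ext (s.inj _ (pow_mem ho _) _ (one_mem _) ?_)⟩
    rw [pw o ho, ← e, conj_pow, ← pw c (hH hc).1, show c ^ 2 ^ n = 1 from congrArg Subtype.val hn, s.one]; simp [s.one]
  · rintro o ⟨ho, c, hc, e⟩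
    exact mem_cent1.2 <| s.ac_cm (s.ac_of ho) (q.eich_mem _ _) (e ▸ (mem_Xz.1 (s.sw_conj w (s.x_of (q.ql_le l hc)))).2)
  · rintro u hu o ⟨ho, c, hc, e⟩
    obtain ⟨r, hr, rz⟩ := s.ac_z (s.sw_conj (s.sw_inv w) (s.x_of hu))
    exact ⟨om_cj ho u, _, q.ql_conj l rz hc, by rw [← hr c (hH hc).1, ← s.conj hu.1 ho, ← e]; group⟩

/-- `sw_conj`, `sw_Q` for `g⁻¹`, `cQ`. -/
theorem k_sw (w : Swp ψ t x y g) (hk : k ∈ Kt ψ t) : g * k * g⁻¹ ∈ Kt ψ t ∨ g * k * g⁻¹ * ψ (eich Q x y) ∈ Kt ψ t := by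
  have cq : ∀ c ∈ Ql Q x y, g * k * g⁻¹ * ψ c = ψ c * (g * k * g⁻¹) := fun c hc => by
    obtain ⟨c', hc', e⟩ := s.sw_Q l (s.sw_inv w) hc
    rw [show ψ c = g * ψ c' * g⁻¹ by rw [← e]; group, conj_mul, conj_mul, (mem_Kt.1 hk).2 _ (s.toG2.ql_le l hc').1]
  exact s.cQ l (mem_Xz.1 (s.sw_conj w (mem_Xz.2 ⟨(mem_Kt.1 hk).1, (mem_Kt.1 hk).2 _ (s.toGq.eich_mem _ _)⟩))).1
    fun m hm => ⟨cq _ (eich_mem_Ql l (Submodule.subset_span (by simp)) hm), cq _ (eich_mem_Ql l (Submodule.subset_span (by simp)) hm)⟩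

/-- `k² = t` would give `t Z = (g k g⁻¹)² ∈ K` (`k_sw`), against `zK`.  So `k ^ 2 ^ (a + 1) = 1 → k² = 1` on `K` (`kinv`, induction); write `orderOf k = 2 ^ a * m`: `k ^ m ∈ {1, t}`. -/
theorem k_odd (w : Swp ψ t x y g) (hk : k ∈ Kt ψ t) : Odd (orderOf k) ∨ Odd (orderOf (k * t)) := by
  have no4 : ∀ k ∈ Kt ψ t, k * k ≠ t := fun k hk e => s.zK l (by
    have e1 : ψ (eich Q x y) = t⁻¹ * (g * k * g⁻¹ * (g * k * g⁻¹)) := by rw [conj_mul, e, w.1, inv_mul_cancel_left]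
    rcases s.k_sw l w hk with h | h
    · exact e1 ▸ mul_mem (inv_mem s.tK) (mul_mem h h)
    · have c : Commute (g * k * g⁻¹) (ψ (eich Q x y)) := (mem_Xz.1 (s.sw_conj w (mem_Xz.2 ⟨(mem_Kt.1 hk).1, (mem_Kt.1 hk).2 _ (s.toGq.eich_mem _ _)⟩))).2
      have : g * k * g⁻¹ * (g * k * g⁻¹) = g * k * g⁻¹ * ψ (eich Q x y) * (g * k * g⁻¹ * ψ (eich Q x y)) := by
        rw [← pow_two (_ * ψ _), c.mul_pow, pow_two (ψ _), s.sq, mul_one, pow_two]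
      exact e1 ▸ this ▸ mul_mem (inv_mem s.tK) (mul_mem h h))
  have sq : ∀ (a : ℕ), ∀ k ∈ Kt ψ t, k ^ 2 ^ a = 1 → k = 1 ∨ k = t := fun a => by
    induction a with
    | zero => exact fun k _ h => Or.inl (by simpa using h)
    | succ a ih => exact fun k hk h => s.kinv k hk ((ih (k * k) (mul_mem hk hk) (by rwa [← pow_two, ← pow_mul, ← pow_succ'])).resolve_right (no4 k hk))
  obtain ⟨a, m, hm, e⟩ := Nat.exists_eq_two_pow_mul_odd (orderOf_pos k).ne'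
  rcases sq a (k ^ m) (pow_mem hk m) (by rw [← pow_mul, mul_comm, ← e, pow_orderOf_eq_one]) with h | h
  · exact Or.inl (hm.of_dvd_nat (orderOf_dvd_of_pow_eq_one h))
  · refine Or.inr (hm.of_dvd_nat (orderOf_dvd_of_pow_eq_one ?_))
    obtain ⟨n, rfl⟩ := hm
    rw [Commute.mul_pow (mem_Kt.1 hk).1, h, pow_succ t, pow_mul, pow_two, s.t2, one_pow, one_mul, s.t2]

/-- For `k ∈ K` of odd order `m`, `g⁻¹ k g ∈ K` (else `(g⁻¹ k g Z) ^ m = Z ∈ K`). -/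
theorem co_conj (w : Swp ψ t x y g) (ho : o ∈ Om Q) : g * ψ o * g⁻¹ ∈ Co ψ t := mem_Co.2 fun k hk ⟨n, hn⟩ => by
  have h : g⁻¹ * k * g⁻¹⁻¹ ∈ Kt ψ t := (s.k_sw l (s.sw_inv w) hk).resolve_right fun h => s.zK l (by
    have c : Commute (g⁻¹ * k * g⁻¹⁻¹) (ψ (eich Q x y)) := (mem_Xz.1 (s.sw_conj (s.sw_inv w) (mem_Xz.2 ⟨(mem_Kt.1 hk).1, (mem_Kt.1 hk).2 _ (s.toGq.eich_mem _ _)⟩))).2
    have := pow_mem h (orderOf k)
    rwa [c.mul_pow, conj_pow, pow_orderOf_eq_one, hn, pow_succ, pow_mul, pow_two, s.sq, one_pow, mul_one, mul_inv_cancel, one_mul, one_mul] at this)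
  have := (mem_Kt.1 h).2 o ho
  calc _ = g * (ψ o * (g⁻¹ * k * g⁻¹⁻¹)) * g⁻¹ := by group
    _ = _ := by rw [← this]; group

end Cx

end Cfsg.Lib.OD
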