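import Mathlib

/-!
# OD, Step 1 for `q = 2`: the abstract contradiction in the bad case.
-/

set_option autoImplicit false

namespace Cfsg.Lib.OD

variable {F G : Type*} [Field F] [CharP F 2] [Group G]

theorem cj_mul (A x y : G) : A * (x * y) * A⁻¹ = A * x * A⁻¹ * (A * y * A⁻¹) := by group
theorem cj_cj (A B x : G) : A * (B * x * B⁻¹) * A⁻¹ = A * B * x * (A * B)⁻¹ := by group

theorem bad_false {ζ : (Fin 6 → F) → G} {t a b c d A B C D E : G} (add : ∀ v w, ζ (v + w) = ζ v * ζ w) (inj : Function.Injective ζ) (tn : ∀ v, ζ v ≠ t)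
    (t2 : t * t = 1) (b2 : b * b = 1) (c2 : c * c = 1) (zt : ∀ v, ζ v * t = t * ζ v) (za : ∀ v, ζ v * a * (ζ v)⁻¹ = a) (zb : ∀ v, ζ v * b * (ζ v)⁻¹ = b)
    (zc : ∀ v, ζ v * c * (ζ v)⁻¹ = c) (zd : ∀ v, ζ v * d * (ζ v)⁻¹ = d) (At : A * t = t * A) (Bt : B * t = t * B) (Ct : C * t = t * C) (Dt : D * t = t * D) (Et : E * t = t * E)
    (bt : b * t * b⁻¹ = t * ζ ![0, 1, 0, 0, 0, 0]) (ct : c * t * c⁻¹ = t * ζ ![0, 0, 0, 1, 0, 0])
    (Az : ∀ v, A * ζ v * A⁻¹ = ζ ![v 0, v 1, v 2, v 3 + v 0, v 4, v 5 + v 2]) (Bz : ∀ v, B * ζ v * B⁻¹ = ζ ![v 0, v 1 + v 3, v 2 + v 4, v 3, v 4, v 5])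
    (Cz : ∀ v, C * ζ v * C⁻¹ = ζ ![v 0, v 1 + v 0, v 2, v 3, v 4, v 5 + v 4]) (Dz : ∀ v, D * ζ v * D⁻¹ = ζ ![v 0 + v 4, v 1 + v 5, v 2, v 3, v 4, v 5])
    (Ez : ∀ v, E * ζ v * E⁻¹ = ζ ![v 0 + v 2, v 1, v 2, v 3 + v 5, v 4, v 5])
    (A2 : A * A = 1) (C2 : C * C = 1) (D2 : D * D = 1) (E2 : E * E = 1) (DE : D * E = E * D) (CB : C * B = B * C) (AB : A * B = C * B * A)
    (Ac : A * c * A⁻¹ = c) (Bb : B * b * B⁻¹ = b) (Cb : C * b * C⁻¹ = b) (Db : D * b * D⁻¹ = b) (Dc : D * c * D⁻¹ = c) (Eb : E * b * E⁻¹ = b) (Ec : E * c * E⁻¹ = c)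
    (Ba : B * a * B⁻¹ = a * ζ ![1, 0, 0, 0, 0, 0]) (Cc : C * c * C⁻¹ = c * ζ ![0, 0, 0, 1, 0, 0])
    (Aa : ∃ τ v, (τ = 1 ∨ τ = t) ∧ A * a * A⁻¹ = τ * ζ v * a * c) (Bc : ∃ τ v, (τ = 1 ∨ τ = t) ∧ B * c * B⁻¹ = τ * ζ v * c * b)
    (Ca : ∃ τ v, (τ = 1 ∨ τ = t) ∧ C * a * C⁻¹ = τ * ζ v * a * b) (Dd : ∃ τ v, (τ = 1 ∨ τ = t) ∧ D * d * D⁻¹ = τ * ζ v * d * b)
    (Ed : ∃ τ v, (τ = 1 ∨ τ = t) ∧ E * d * E⁻¹ = τ * ζ v * d * c) : False := by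
  have z0 : ζ 0 = 1 := by have := add 0 0; rw [add_zero] at this; exact left_eq_mul.1 this
  have vv : ∀ v : Fin 6 → F, v + v = 0 := fun v => funext fun i => CharTwo.add_self_eq_zero _
  have z2 : ∀ v, ζ v * ζ v = 1 := fun v => by rw [← add, vv, z0]
  have mv : ∀ {x : G}, (∀ v, ζ v * x * (ζ v)⁻¹ = x) → ∀ v, x * ζ v = ζ v * x := fun h v => (mul_inv_eq_iff_eq_mul.1 (h v)).symm
  have mv' : ∀ {x : G}, (∀ v, ζ v * x * (ζ v)⁻¹ = x) → ∀ v y, x * (ζ v * y) = ζ v * (x * y) := fun h v y => by rw [← mul_assoc, mv h, mul_assoc]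
  have fx : ∀ {A τ : G}, A * t = t * A → (τ = 1 ∨ τ = t) → A * τ * A⁻¹ = τ := by
    rintro A τ h (rfl | rfl)
    · simp
    · rw [h]; simp
  have tt : ∀ {τ : G}, (τ = 1 ∨ τ = t) → ∀ y, τ * (τ * y) = y := by
    rintro τ (rfl | rfl) y
    · simp
    · rw [← mul_assoc, t2, one_mul]
  have tz : ∀ {τ : G}, (τ = 1 ∨ τ = t) → ∀ v y, ζ v * (τ * y) = τ * (ζ v * y) := by
    rintro τ (rfl | rfl) v y
    · simp
    · rw [← mul_assoc, zt, mul_assoc]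
  have ad : ∀ v w y, ζ v * (ζ w * y) = ζ (v + w) * y := fun v w y => by rw [add, mul_assoc]
  -- an involution fixes the `ζ` part
  have L1 : ∀ {A τ x y : G} {v w : Fin 6 → F}, A * A = 1 → A * t = t * A → (τ = 1 ∨ τ = t) → y * y = 1 → A * y * A⁻¹ = y → A * ζ v * A⁻¹ = ζ w →
      A * x * A⁻¹ = τ * ζ v * x * y → w = v := by
    intro A τ x y v w h2 ht hτ y2 hy hv hx
    have e : A * (A * x * A⁻¹) * A⁻¹ = x := by rw [cj_cj, h2]; simp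
    rw [hx, cj_mul, cj_mul, cj_mul, hx, hy, hv, fx ht hτ] at e
    simp only [mul_assoc, y2, mul_one, tz hτ, tt hτ, ad] at e
    have : w + v = 0 := inj (by rw [z0]; exact mul_eq_right.1 e)
    rw [← add_zero w, ← vv v, ← add_assoc, this, zero_add]
  obtain ⟨τ₁, y, h₁, Aa⟩ := Aa
  obtain ⟨τ₂, y', h₂, Bc⟩ := Bc
  obtain ⟨τ₃, y'', h₃, Ca⟩ := Ca
  obtain ⟨τ₄, u, h₄, Dd⟩ := Dd
  obtain ⟨τ₅, u', h₅, Ed⟩ := Ed
  have u5 : u 5 = 0 := by simpa using congrFun (L1 D2 Dt h₄ b2 Db (Dz u) Dd) 1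
  have u5' : u' 5 = 0 := by simpa using congrFun (L1 E2 Et h₅ c2 Ec (Ez u') Ed) 3
  have y0 : y 0 = 0 := by simpa using congrFun (L1 A2 At h₁ c2 Ac (Az y) Aa) 3
  have y0'' : y'' 0 = 0 := by simpa using congrFun (L1 C2 Ct h₃ b2 Cb (Cz y'') Ca) 1
  have bi : b⁻¹ = b := inv_eq_of_mul_eq_one_right b2
  have ci : c⁻¹ = c := inv_eq_of_mul_eq_one_right c2
  -- `D E = E D` on `d`
  obtain ⟨w, w1, e1⟩ : ∃ w : Fin 6 → F, w 1 = 0 ∧ b * c = ζ w * (c * b) := by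
    have e : D * (E * d * E⁻¹) * D⁻¹ = E * (D * d * D⁻¹) * E⁻¹ := by rw [cj_cj, cj_cj, DE]
    conv_lhs at e => rw [Ed, cj_mul, cj_mul, cj_mul, Dd, Dc, Dz, fx Dt h₅]
    conv_rhs at e => rw [Dd, cj_mul, cj_mul, cj_mul, Ed, Eb, Ez, fx Et h₄]
    simp only [mul_assoc, tz h₄, tz h₅, ad] at e
    have t45 : ∀ y, τ₅ * (τ₄ * y) = τ₄ * (τ₅ * y) := by
      rcases h₄ with rfl | rfl <;> rcases h₅ with rfl | rfl <;> simp
    rw [t45, mul_right_inj, mul_right_inj, ← mv' zd, ← mv' zd, mul_right_inj] at e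
    refine ⟨_, ?_, by rw [← one_mul (b * c), ← z2, mul_assoc, e, ad]⟩
    show u' 1 + u' 5 + u 1 + (u 1 + u' 1) = 0
    linear_combination u5' + (u 1 + u' 1) * CharTwo.two_eq_zero (R := F)
  have e2 : c * b * (c * b) = ζ w := by
    have : c * b * (ζ w * (c * b)) = 1 := by rw [← e1, mul_assoc, ← mul_assoc b, b2, one_mul, c2]
    rw [mul_assoc, mv' zb, mv' zc, ← z2 w, mul_right_inj] at this
    rw [← this, mul_assoc]
  -- `B c B⁻¹` is an involution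
  have e3 : τ₂ * ζ y' * c * b * (τ₂ * ζ y' * c * b) = 1 := by rw [← Bc, ← cj_mul, c2]; simp
  obtain rfl : τ₂ = 1 := by
    refine h₂.resolve_right fun h => ?_
    subst h
    have k : c * (b * τ₂) = τ₂ * (ζ (![0, 0, 0, 1, 0, 0] + ![0, 1, 0, 0, 0, 0]) * (c * b)) := by
      rw [mul_inv_eq_iff_eq_mul.1 bt, ← mul_assoc, ← mul_assoc, mul_inv_eq_iff_eq_mul.1 ct]
      simp only [mul_assoc, mv' zc, ad]
    have k' : ∀ y, c * (b * (τ₂ * y)) = τ₂ * (ζ (![0, 0, 0, 1, 0, 0] + ![0, 1, 0, 0, 0, 0]) * (c * (b * y))) := fun y => by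
      rw [← mul_assoc b, ← mul_assoc c, k]; simp only [mul_assoc]
    simp only [mul_assoc] at e3 e2
    rw [k', tz (Or.inr rfl), tt (Or.inr rfl), mv' zb, mv' zc, e2, ad, ad, ← add, ← z0] at e3
    have : y' 1 + (0 + 1) + y' 1 + w 1 = 0 := congrFun (inj e3) 1
    exact one_ne_zero (α := F) (by linear_combination this - w1 - y' 1 * CharTwo.two_eq_zero (R := F))
  have bc : b * c = c * b := by
    simp only [mul_assoc, one_mul] at e3 e2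
    rw [mv' zb, mv' zc, ← mul_assoc, z2, one_mul] at e3
    rw [e1, ← e2, e3, one_mul]
  -- `C B = B C` on `c`
  have y1 : y' 0 = 1 := by
    have e : C * (B * c * B⁻¹) * C⁻¹ = B * (C * c * C⁻¹) * B⁻¹ := by rw [cj_cj, cj_cj, CB]
    conv_lhs at e => rw [Bc, one_mul, cj_mul, cj_mul, Cc, Cb, Cz]
    conv_rhs at e => rw [Cc, cj_mul, Bc, Bz, one_mul]
    simp only [mul_assoc, mv zb, mv' zc, ad, mul_left_inj] at e
    simpa using congrFun (inj e) 1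
  -- `A B = C B A` on `a`
  have e : A * (B * a * B⁻¹) * A⁻¹ = C * (B * (A * a * A⁻¹) * B⁻¹) * C⁻¹ := by rw [cj_cj, cj_cj, cj_cj, AB]
  conv_lhs at e => rw [Ba, cj_mul, Aa, Az]
  conv_rhs at e => rw [Aa, cj_mul B, cj_mul B, cj_mul B, Ba, Bc, Bz, fx Bt h₁, one_mul]; simp only [cj_mul C, Ca, Cc, Cb, Cz, fx Ct h₁]
  have bcb : b * (c * b) = c := by rw [← mul_assoc, bc, mul_assoc, b2, mul_one]
  simp only [mul_assoc, mv zc, mv' za, mv' zb, mv' zc, tz h₃, ad, bcb, mul_right_inj] at e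
  rw [← mul_assoc τ₃, mul_left_inj] at e
  rcases h₃ with rfl | rfl
  · rw [one_mul] at e
    have : y 0 + 1 = y 0 + y'' 0 + (1 + (y' 0 + 0)) := congrFun (inj e) 0
    exact one_ne_zero (α := F) (by linear_combination -this - y0'' - y1)
  · have k : ∀ v w, ζ v = τ₃ * ζ w → False := fun v w h => tn (v + w) (by rw [add, h, mul_assoc, z2, mul_one])
    exact k _ _ e

end Cfsg.Lib.OD
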