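import Cfsg.Agent.Lib.OD.T3
import Cfsg.Agent.Lib.OD.T6

/-!
# OD, Step 1 for `q = 2`: an element swapping `t`, `t Z` and centralizing `ψ Q_ℓ`.  Notation as in `T3`; `π = ⟨e₀, e₁, e₂⟩`, `s_{ij} = E(e_i, f_j)`.
-/

set_option autoImplicit false
set_option linter.unusedSectionVars false

namespace Cfsg.Lib.OD

open Subgroup Cfsg.Lib.BG Cfsg.Lib.Orth QuadraticMap Module
open scoped Cfsg.Lib.Transfer commutatorElement

variable {F V : Type*} [Field F] [Finite F] [CharP F 2] [AddCommGroup V] [Module F V] [FiniteDimensional F V] {Q : QuadraticForm F V}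
  {G : Type*} [Group G] [Finite G] {ψ : O Q → G} {t g g' n : G} {r o : O Q} {x y a b a' b' m m' : V} {φ : V → V} {e f : Fin 4 → V}

/-- `g` maps `ψ Q_a` into `ψ Q_b`. -/
def Mp (ψ : O Q → G) (x y : V) (g : G) (a b : V) : Prop := ∀ m, Pp Q x y m → ∃ m', Pp Q x y m' ∧ g * ψ (eich Q a m) * g⁻¹ = ψ (eich Q b m')
/-- `g` acts on `Q_x` and `Q_y` as `φ`, modulo `z`. -/
def Ph (ψ : O Q → G) (x y : V) (g : G) (φ : V → V) : Prop := ∀ m, Pp Q x y m → Pp Q x y (φ m) ∧ g * ψ (eich Q x m) * g⁻¹ = ψ (eich Q x (φ m)) ∧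
  ∃ c ∈ Ln F x y, g * ψ (eich Q y m) * g⁻¹ = ψ (eich Q y (φ m + c))
/-- `g` is trivial on `E(e₀, π^⊥)` modulo `E(e₀, π)`. -/
def Tp (ψ : O Q → G) (e : Fin 4 → V) (g : G) : Prop := ∀ m, Pp Q (e 0) (e 1) m → polar Q (e 2) m = 0 →
  ∃ c ∈ Ln F (e 0) (e 1) ⊔ F ∙ e 2, g * ψ (eich Q (e 0) m) * g⁻¹ = ψ (eich Q (e 0) (m + c))
/-- `g` centralizes `ψ Q_ℓ`. -/
def Wq (ψ : O Q → G) (x y : V) (g : G) : Prop := ∀ m, Pp Q x y m → g * ψ (eich Q x m) = ψ (eich Q x m) * g ∧ g * ψ (eich Q y m) = ψ (eich Q y m) * g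

theorem cj_inj {A B : G} (h : g * A * g⁻¹ = g * B * g⁻¹) : A = B := by simpa using h
theorem Mp.mul (h : Mp ψ x y g b a') (h' : Mp ψ x y g' a b) : Mp ψ x y (g * g') a a' := fun m hm => by
  obtain ⟨m', h1, e⟩ := h' m hm
  obtain ⟨m'', h2, e'⟩ := h m' h1
  exact ⟨m'', h2, by rw [← e', ← e]; group⟩
theorem Ph.mp (h : Ph ψ x y g φ) : Mp ψ x y g x x := fun m hm => ⟨_, (h m hm).1, (h m hm).2.1⟩
/-- `m + c ⊥ π`. -/
theorem Tp.mul (p : Fr Q e f) (h : Tp ψ e g) (h' : Tp ψ e g') : Tp ψ e (g * g') := fun m hm h2 => by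
  obtain ⟨c, hc, e₁⟩ := h' m hm h2
  obtain ⟨c', hc', e₂⟩ := h _ (hm.add (p.pi_pp hc)) (by simp [h2, p.pi_e hc])
  exact ⟨c + c', add_mem hc hc', by rw [← add_assoc, ← e₂, ← e₁]; group⟩

namespace Cx
variable (s : Cx ψ t)
include s

/-- `conj_eich`. -/
theorem tp_of (ho : o ∈ Om Q) (h0 : o.1 (e 0) = e 0) (h : ∀ m, Pp Q (e 0) (e 1) m → polar Q (e 2) m = 0 → o.1 m + m ∈ Ln F (e 0) (e 1) ⊔ F ∙ e 2) : Tp ψ e (ψ o) :=
  fun m hm h2 => ⟨_, h m hm h2, by rw [s.conj_eich ho, h0, add_comm, add_assoc, vv F, add_zero]⟩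
/-- `s_{ij} m = m + B(f_j, m) e_i` for `m ⊥ π`. -/
theorem tp_s (p : Fr Q e f) {i j : Fin 4} (h : i ≠ j) (hi : i ≠ 3) (hj : j ≠ 0) : Tp ψ e (ψ (eich Q (e i) (f j))) := by
  refine s.tp_of (s.toGq.eich_mem _ _) (by rw [p.s_ap h, if_neg hj.symm]) fun m hm h2 => ?_
  have hi' : e i ∈ Ln F (e 0) (e 1) ⊔ F ∙ e 2 := by
    fin_cases i
    exacts [Submodule.mem_sup_left xl, Submodule.mem_sup_left yl, Submodule.mem_sup_right (Submodule.mem_span_singleton_self _), absurd rfl hi]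
  rw [eich_apply_of_perp (p.qe i) (by simp [p.ef, h]) (pi_perp hm h2 hi'), add_right_comm, vv F, zero_add]
  exact Submodule.smul_mem _ _ hi'

section
variable (l : IsLine Q x y)
include l

/-- `cz`: `o` preserves `ℓ` and `ℓ^⊥`. -/
theorem mp_of (ho : o ∈ Om Q ⊓ 𝐂[eich Q x y]) (a : V) : Mp ψ x y (ψ o) a (o.1 a) :=
  fun _ hm => ⟨_, s.toG2.pp_map l (mem_cent1.1 ho.2) hm, s.conj_eich ho.1 _ _⟩
/-- `conj_eich`; `o` fixes `ℓ`. -/
theorem ph_mul (ho : o ∈ Om Q) (hx : o.1 x = x) (hy : o.1 y = y) (h : Ph ψ x y g φ) : Ph ψ x y (ψ o * g) fun m => o.1 (φ m) := fun m hm => by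
  obtain ⟨h1, h2, c, hc, h3⟩ := h m hm
  refine ⟨h1.fix hx hy, ?_, c, hc, ?_⟩
  · rw [← cj_cj, h2, s.conj_eich ho, hx]
  · rw [← cj_cj, h3, s.conj_eich ho, hy, map_add, fix_ln hx hy hc]
/-- Else `ψ E(a, m)` and `ψ E(b, m')` commute; but `a, b` is a basis of `ℓ` (`mem_ln`; an `IsLine` with the same `Pp`), `cm_xy` with `m = e 2`, `m' = f 2` from `exists_fr`. -/
theorem mp_ne (ha : a ∈ Ln F x y) (a0 : a ≠ 0) (hb : b ∈ Ln F x y) (b0 : b ≠ 0) (ab : a ≠ b) (ha' : a' ∈ Ln F x y) (h : Mp ψ x y g a a') : ¬ Mp ψ x y g b a' := fun h' => by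
  have em := s.toGq.eich_mem
  obtain ⟨m, m', h1, h2, h3, -⟩ := s.toG2.ex_m l
  obtain ⟨u, hu, e⟩ := h m h1
  obtain ⟨u', hu', e'⟩ := h' m' h2
  have l' := s.toG2.line_of l ha a0 hb b0 ab
  have c := cm_xy l' ⟨h1.of_mem ha, h1.of_mem hb⟩ ⟨h2.of_mem ha, h2.of_mem hb⟩
  rw [h3, one_smul] at c
  refine l'.lng.ne_one s.nd (c ▸ commutatorElement_eq_one_iff_mul_comm.2 (s.inj _ (mul_mem (em _ _) (em _ _)) _ (mul_mem (em _ _) (em _ _)) (cj_inj (g := g) ?_)))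
  rw [s.mul _ (em _ _) _ (em _ _), s.mul _ (em _ _) _ (em _ _), cj_mul, cj_mul, e, e', ← s.mul _ (em _ _) _ (em _ _), ← s.mul _ (em _ _) _ (em _ _),
    eich_comm (pp_of_mem l ha').2 (hu'.of_mem ha') (hu.of_mem ha')]

variable (w : Swp ψ t x y g)
include w

/-- `H = {o ∈ C₀ | ∀ r, Ac (g (ψ o) g⁻¹) r → r x = x ∧ r y = y}` is a subgroup (`sw_conj`, `ac_z`, `ac_eq`, `Ac.mul`).  `fix_ind`: `sw_Q`, `ac_of`; for a commutator of square one, `r = [r_u, r_v]`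
has square one (`ac_eq` with `Ac 1 1`), `fix_line`. -/
theorem sw_fix (ho : o ∈ Om Q) (hx : o.1 x = x) (hy : o.1 y = y) (h : Ac ψ (g * ψ o * g⁻¹) r) : r.1 x = x ∧ r.1 y = y := by
  have q := s.toG2
  have ex : ∀ u ∈ Om Q ⊓ 𝐂[eich Q x y], ∃ r, Ac ψ (g * ψ u * g⁻¹) r ∧ r * eich Q x y = eich Q x y * r := fun u hu => s.ac_z (s.sw_conj w (s.x_of hu))
  let H : Subgroup (O Q) :=
    { carrier := {o | o ∈ Om Q ∧ ∃ r, Ac ψ (g * ψ o * g⁻¹) r ∧ r.1 x = x ∧ r.1 y = y}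
      one_mem' := ⟨one_mem _, 1, fun o _ => by simp [s.one], rfl, rfl⟩
      mul_mem' := by
        rintro a b ⟨ha, r, h1, h2, h3⟩ ⟨hb, r', h1', h2', h3'⟩
        exact ⟨mul_mem ha hb, r * r', by rw [s.mul _ ha _ hb, cj_mul]; exact h1.mul h1', by rw [O.mul_apply, h2', h2], by rw [O.mul_apply, h3', h3]⟩
      inv_mem' := by
        rintro a ⟨ha, r, h1, h2, h3⟩
        exact ⟨inv_mem ha, r⁻¹, by rw [s.inv ha, ← conj_inv]; exact h1.inv, (O.inv_apply_eq _).2 h2.symm, (O.inv_apply_eq _).2 h3.symm⟩ }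
  suffices k : o ∈ H by
    obtain ⟨-, r', h1, h2⟩ := k
    rwa [s.ac_eq l h h1]
  refine q.fix_ind l (H := H) (fun c hc => ?_) (fun u hu v hv e => ?_) ho hx hy
  · obtain ⟨c', hc', e⟩ := s.sw_Q l w hc
    exact ⟨(q.ql_le l hc).1, c', e ▸ s.ac_of (q.ql_le l hc').1, hc'.1, hc'.2.1⟩
  · obtain ⟨r, h1, h2⟩ := ex u hu
    obtain ⟨r', h1', h2'⟩ := ex v hv
    have m : ⁅u, v⁆ ∈ Om Q := mul_mem (mul_mem (mul_mem hu.1 hv.1) (inv_mem hu.1)) (inv_mem hv.1)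
    have a : Ac ψ (g * ψ ⁅u, v⁆ * g⁻¹) ⁅r, r'⁆ := by rw [s.cm hu.1 hv.1, conjugate_commutatorElement]; exact ((h1.mul h1').mul h1.inv).mul h1'.inv
    refine ⟨m, _, a, q.fix_line l h2 h2' (s.ac_eq l (a.mul a) fun o _ => ?_)⟩
    rw [← cj_mul, ← s.mul _ m _ m, e, s.one]; simp

/-- `pen` for `Y = {c ∈ Q_ℓ | ∃ m ⊥ ℓ, ψ c = g (ψ E(a, m)) g⁻¹}` (`eich_add`; `z ∈ Q_a`).  For `o ∈ Ω` fixing `ℓ`, `g⁻¹ (ψ o) g` acts as some `r` fixing `ℓ` (`sw_fix` for `g⁻¹`), so `o` normalizes `Y`.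
`h1`: `m = e 2`, `eich_ln`.  `sw_Q`. -/
theorem sw_pen (ha : a ∈ Ln F x y) (a0 : a ≠ 0) : ∃ b ∈ Ln F x y, b ≠ 0 ∧ Mp ψ x y g a b := by
  have q := s.toG2
  have em := q.eich_mem
  have qa := (pp_of_mem l ha).2
  have om : ∀ {c}, c ∈ Ql Q x y → c ∈ Om Q := fun h => (q.ql_le l h).1
  let Y : Subgroup (O Q) :=
    { carrier := {c | c ∈ Ql Q x y ∧ ∃ m, Pp Q x y m ∧ g * ψ (eich Q a m) * g⁻¹ = ψ c}
      one_mem' := ⟨one_mem _, 0, ⟨by simp, by simp⟩, by simp [s.one]⟩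
      mul_mem' := by
        rintro c d ⟨hc, m, h1, e⟩ ⟨hd, m', h1', e'⟩
        exact ⟨mul_mem hc hd, _, h1.add h1', by rw [eich_add qa (h1.of_mem ha) (h1'.of_mem ha), s.mul _ (em _ _) _ (em _ _), cj_mul, e, e', s.mul _ (om hc) _ (om hd)]⟩
      inv_mem' := by
        rintro c ⟨hc, m, h1, e⟩
        exact ⟨inv_mem hc, m, h1, by rw [s.inv (om hc), ← e, conj_inv, inv_eq_of_mul_eq_one_right (s.sq a m)]⟩ }
  have mem : ∀ m, Pp Q x y m → ∃ c ∈ Y, g * ψ (eich Q a m) * g⁻¹ = ψ c := fun m hm =>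
    let ⟨c, hc, e⟩ := s.sw_Q l w (eich_mem_Ql l ha hm); ⟨c, ⟨hc, m, hm, e⟩, e⟩
  have gz : g * ψ (eich Q x y) * g⁻¹ = ψ (eich Q x y) := by rw [w.2, mul_inv_cancel_right]
  refine (q.pen l (Y := Y) (fun c hc => hc.1) ⟨eich_mem_Ql l xl (pp_of_mem l yl).1, ?_⟩ ?_ (fun o ho hx hy => mem_normalizer_fintype ?_) ?_).imp
    fun b ⟨hb, b0, h⟩ => ⟨hb, b0, fun m hm => let ⟨c, hc, e⟩ := mem m hm; let ⟨m', h1, e'⟩ := (h c).1 hc; ⟨m', h1, e' ▸ e⟩⟩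
  · rcases q.mem_ln.1 ha with rfl | rfl | rfl | rfl
    · exact absurd rfl a0
    · exact ⟨y, (pp_of_mem l yl).1, gz⟩
    · exact ⟨x, (pp_of_mem l xl).1, by rwa [eich_sw l.left l.right l.perp]⟩
    · refine ⟨x, (pp_of_mem l xl).1, ?_⟩
      rwa [eich_sw l.left qa ((pp_of_mem l ha).1.1), show x + y = y + (1 : F) • x by rw [one_smul, add_comm], eich_add_smul_self l.left l.perp]
  · rintro c ⟨hc, m, h1, e⟩ d ⟨hd, m', h1', e'⟩
    refine s.inj _ (om (mul_mem hc hd)) _ (om (mul_mem hd hc)) ?_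
    rw [s.mul _ (om hc) _ (om hd), s.mul _ (om hd) _ (om hc), ← e, ← e', ← cj_mul, ← cj_mul, ← s.mul _ (em _ _) _ (em _ _), ← s.mul _ (em _ _) _ (em _ _),
      eich_comm qa (h1.of_mem ha) (h1'.of_mem ha)]
  · rintro c ⟨hc, m, h1, e⟩
    obtain ⟨r, hr, -⟩ := s.ac_z (s.sw_conj (s.sw_inv w) (s.x_of (q.c0_of l ho hx hy)))
    obtain ⟨rx, ry⟩ := s.sw_fix l (s.sw_inv w) ho hx hy hr
    refine ⟨q.ql_conj l (eich_cm hx hy).symm hc, _, h1.fix rx ry, ?_⟩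
    rw [← fix_ln rx ry ha, ← Orth.conj_eich, ← hr _ (em _ _), ← s.conj ho (om hc), ← e]; group
  · obtain ⟨m, -, hm, -, -, h⟩ := q.ex_m l
    obtain ⟨c, hc, e⟩ := mem m hm
    refine ⟨c, hc, fun k => h ((q.eich_ln l ha a0 hm).1 (Or.inl ?_)), fun k => h ((q.eich_ln l ha a0 hm).1 (Or.inr ?_))⟩
    · exact s.inj _ (em _ _) _ (one_mem _) (cj_inj (g := g) (by simp [e, k, s.one]))
    · exact s.inj _ (em _ _) _ (em _ _) (cj_inj (g := g) (by rw [e, k, gz]))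

/-- `sw_pen` for `g⁻¹`, `Mp.mul`, `qe_eq` (`m = e 2`). -/
theorem mp_inv (ha : a ∈ Ln F x y) (a0 : a ≠ 0) (hb : b ∈ Ln F x y) (b0 : b ≠ 0) (h : Mp ψ x y g a b) : Mp ψ x y g⁻¹ b a := by
  obtain ⟨a', ha', a0', h'⟩ := s.sw_pen l (s.sw_inv w) hb b0
  obtain ⟨m, -, hm, -, -, n⟩ := s.toG2.ex_m l
  obtain ⟨m', h1, e⟩ := h'.mul h m hm
  rwa [s.toG2.qe_eq l ha a0 ha' a0' hm n ⟨m', h1, s.inj _ (s.toGq.eich_mem _ _) _ (s.toGq.eich_mem _ _) (by simpa using e)⟩]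

/-- `sw_pen`; `o ∈ C₀` with `o b = x` (three cases, `tr2`, `cz`), `mp_of`. -/
theorem sw_x : ∃ g, Swp ψ t x y g ∧ Mp ψ x y g x x := by
  have q := s.toG2
  obtain ⟨b, hb, b0, h⟩ := s.sw_pen l w xl l.ne
  obtain ⟨n1, n2, n3, n4⟩ := G2.xy_ne l
  obtain ⟨o, ho, e⟩ : ∃ o ∈ Om Q ⊓ 𝐂[eich Q x y], o.1 b = x := by
    rcases q.mem_ln.1 hb with rfl | rfl | rfl | rfl
    · exact absurd rfl b0
    · exact ⟨1, one_mem _, rfl⟩
    · obtain ⟨o, ho, h1, h2⟩ := q.tr2 l l.symm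
      exact ⟨o, ⟨ho, mem_cent1.2 ((q.cz l).2 ⟨h1 ▸ yl, h2 ▸ xl⟩)⟩, h2⟩
    · obtain ⟨o, ho, h1, h2⟩ := q.tr2 l (q.line_of l hb b0 yl l.ne' n4.symm)
      exact ⟨o, ⟨ho, mem_cent1.2 ((q.cz l).2 ⟨h1 ▸ hb, h2.symm ▸ yl⟩)⟩, by rw [map_add, h1, h2, add_assoc, vv F, add_zero]⟩
  exact ⟨_, sw_mul (s.x_of ho) w, (e ▸ s.mp_of l ho b).mul h⟩

/-- The image of `x + y` is `x + y` (`sw_pen`, `mp_ne`).  Choose `φ`, `φ'` for `x`, `y`; `eich_xy` on both sides: `E(x, φ m) E(y, φ' m) z^{Q m} = E(x, m'') E(y, m'') z^{Q m''}`, so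
`E(x, φ m + m'' + γ y) = E(y, φ' m + m'')` and both arguments lie in `ℓ` (`qe_eq`, `x ≠ y`). -/
theorem ph_of (hx : Mp ψ x y g x x) (hy : Mp ψ x y g y y) : ∃ φ, Ph ψ x y g φ := by
  have q := s.toG2
  have em := q.eich_mem
  obtain ⟨n1, n2, n3, n4⟩ := G2.xy_ne l
  have sl : x + y ∈ Ln F x y := add_mem xl yl
  obtain ⟨b, hb, b0, h⟩ := s.sw_pen l w sl n2
  obtain rfl : b = x + y := by
    rcases q.mem_ln.1 hb with rfl | rfl | rfl | rfl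
    exacts [absurd rfl b0, absurd h (s.mp_ne l xl l.ne sl n2 n3 xl hx), absurd h (s.mp_ne l yl l.ne' sl n2 n4 yl hy), rfl]
  choose! φ h1 h2 using hx
  refine ⟨φ, fun m hm => ⟨h1 m hm, h2 m hm, ?_⟩⟩
  obtain ⟨u, hu, e⟩ := hy m hm
  obtain ⟨v, hv, e'⟩ := h m hm
  have py : ∀ c : F, Pp Q x y (c • y) := fun c => (pp_of_mem l (Submodule.smul_mem _ c yl)).1
  have gz : g * ψ (eich Q x (Q m • y)) * g⁻¹ = ψ (eich Q x (Q m • y)) := by
    rcases q.two (Q m) with k | k <;> simp [k, s.one, w.2]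
  rw [eich_xy l hm, eich_xy l hv, s.mul _ (mul_mem (em _ _) (em _ _)) _ (em _ _), s.mul _ (em _ _) _ (em _ _), cj_mul, cj_mul, h2 m hm, e, gz,
    ← s.mul _ (em _ _) _ (em _ _), ← s.mul _ (mul_mem (em _ _) (em _ _)) _ (em _ _)] at e'
  replace e' := s.inj _ (mul_mem (mul_mem (em _ _) (em _ _)) (em _ _)) _ (mul_mem (mul_mem (em _ _) (em _ _)) (em _ _)) e'
  have cz : ∀ (c : F) {u}, Pp Q x y u → eich Q y u * eich Q x (c • y) = eich Q x (c • y) * eich Q y u := fun c u hu => by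
    refine (eich_cm ?_ ?_).symm <;> rw [eich_apply_of_perp l.right hu.2] <;> simp [polar_comm Q u, hu.1, hu.2, polar_comm Q y x, l.perp, l.right]
  have p1 := (h1 m hm).add (py (Q m))
  have p2 := hv.add (py (Q v))
  rw [mul_assoc, mul_assoc, cz _ hu, cz _ hv, ← mul_assoc, ← mul_assoc, ← eich_add l.left (h1 m hm).1 (py _).1, ← eich_add l.left hv.1 (py _).1] at e'
  have e'' : eich Q x (v + Q v • y + (φ m + Q m • y)) = eich Q y (v + u) := by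
    rw [eich_add l.left p2.1 p1.1, eich_add l.right hv.2 hu.2, ← mul_left_inj (eich Q y u), mul_assoc, e', ← mul_assoc, eich_sq, one_mul, mul_assoc, eich_sq, mul_one]
  have k1 : v + Q v • y + (φ m + Q m • y) ∈ Ln F x y := by_contra fun k => n1 (q.qe_eq l xl l.ne yl l.ne' (p2.add p1) k ⟨_, hv.add hu, e''⟩)
  have k2 : v + u ∈ Ln F x y := by_contra fun k => n1 (q.qe_eq l yl l.ne' xl l.ne (hv.add hu) k ⟨_, p2.add p1, e''.symm⟩).symm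
  refine ⟨u - φ m, ?_, by rw [e, add_sub_cancel]⟩
  convert add_mem (sub_mem k2 k1) (Submodule.smul_mem _ (Q v + Q m) yl) using 1
  module

variable (h : Ph ψ x y g φ)
include h

/-- `eich_ln`, `g Z = Z g`. -/
theorem ph_ln (hm : Pp Q x y m) : φ m ∈ Ln F x y ↔ m ∈ Ln F x y := by
  have em := s.toGq.eich_mem
  have gz : g * ψ (eich Q x y) * g⁻¹ = ψ (eich Q x y) := by rw [w.2, mul_inv_cancel_right]
  have k : ∀ c ∈ Om Q, g * ψ c * g⁻¹ = ψ c → (eich Q x (φ m) = c ↔ eich Q x m = c) := fun c hc e =>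
    ⟨fun k => s.inj _ (em _ _) _ hc (cj_inj (g := g) (by rw [(h m hm).2.1, k, e])), fun k => s.inj _ (em _ _) _ hc (by rw [← (h m hm).2.1, k, e])⟩
  rw [← s.toG2.eich_ln l xl l.ne hm, ← s.toG2.eich_ln l xl l.ne (h m hm).1, k _ (em _ _) gz, k 1 (one_mem _) (by simp [s.one])]
/-- `eich_add`, `Gq.eich_eq`; `cm_xy`, `two`, `z1`. -/
theorem ph_add (hm : Pp Q x y m) (hm' : Pp Q x y m') : φ (m + m') + φ m + φ m' ∈ Ln F x y ∧ polar Q (φ m) (φ m') = polar Q m m' := by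
  have q := s.toG2
  have em := q.eich_mem
  obtain ⟨p1, e1, -⟩ := h m' hm'
  obtain ⟨p2, e2, c, hc, e3⟩ := h m hm
  obtain ⟨p3, e4, -⟩ := h _ (hm.add hm')
  constructor
  · rw [eich_add l.left hm.1 hm'.1, s.mul _ (em _ _) _ (em _ _), cj_mul, e1, e2, ← s.mul _ (em _ _) _ (em _ _), ← eich_add l.left p2.1 p1.1] at e4
    obtain ⟨c, e⟩ := q.eich_eq' l xl l.ne p3 (p2.add p1) (s.inj _ (em _ _) _ (em _ _) e4).symm
    rw [e, show φ m + φ m' + c • x + φ m + φ m' = (φ m + φ m) + (φ m' + φ m') + c • x by abel, vv F, vv F, zero_add, zero_add]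
    exact Submodule.smul_mem _ _ xl
  · have e : g * ψ ⁅eich Q y m, eich Q x m'⁆ * g⁻¹ = ψ ⁅eich Q y (φ m + c), eich Q x (φ m')⁆ := by rw [s.cm (em _ _) (em _ _), s.cm (em _ _) (em _ _), conjugate_commutatorElement, e3, e1]
    rw [cm_xy l hm' hm, cm_xy l p1 (p2.add (pp_of_mem l hc).1), polar_add_left, p1.of_mem hc, add_zero] at e
    have z1 := s.z1 l
    rcases q.two (polar Q m m') with k | k <;> rcases q.two (polar Q (φ m) (φ m')) with k' | k' <;> simp [k, k', s.one, w.2, z1, z1.symm] at e ⊢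
/-- `qinv` for `m ↦ Q (φ m) + Q m`; `E(x, φ (o m)) = r E(x, φ m) r⁻¹` if `g (ψ o) g⁻¹` acts as `r`, `q_of_conj`. -/
theorem ph_Q (hm : Pp Q x y m) : Q (φ m) = Q m := by
  have q := s.toG2
  refine CharTwo.add_eq_zero.1 (q.qinv l (fun m => Q (φ m) + Q m) (fun m m' hm hm' => ?_) (fun m hm => ?_) (fun o ho hx hy m hm => ?_) hm)
  · obtain ⟨h1, h2⟩ := s.ph_add l w h hm hm'
    have := ((h _ hm).1.add (h _ hm').1).Q_add l h1
    rw [show φ m + φ m' + (φ (m + m') + φ m + φ m') = φ (m + m') + (φ m + φ m) + (φ m' + φ m') by abel, vv F, vv F, add_zero, add_zero] at this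
    simp only [this, Q_add, h2]
    linear_combination polar Q m m' * two0 (F := F)
  · simp [(pp_of_mem l hm).2, (pp_of_mem l ((s.ph_ln l w h (pp_of_mem l hm).1).2 hm)).2]
  · obtain ⟨r, hr, -⟩ := s.ac_z (s.sw_conj w (s.x_of (q.c0_of l ho hx hy)))
    have h' := h _ (hm.fix hx hy)
    simp only [O.map_Q]
    rw [q.q_of_conj l.left l.ne (h m hm).1.1 h'.1.1 (r := r) (s.inj _ (om_cj (q.eich_mem _ _) r) _ (q.eich_mem _ _) ?_)]
    rw [← hr _ (q.eich_mem _ _), ← (h m hm).2.1, ← h'.2.1]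
    conv_rhs => rw [← hx, ← s.conj_eich ho]
    group

end

variable (p : Fr Q e f) (w : Swp ψ t (e 0) (e 1) g)
include p w

/-- The image of `e₁` is `e₁` or `e₀ + e₁` (`sw_pen`, `mp_ne`); `s₀₁ ∈ C₀` maps `e₀ + e₁` to `e₁`; `ph_of`. -/
theorem ph_of' (hx : Mp ψ (e 0) (e 1) g (e 0) (e 0)) : (∃ φ, Ph ψ (e 0) (e 1) g φ) ∨ ∃ φ, Ph ψ (e 0) (e 1) (ψ (eich Q (e 0) (f 1)) * g) φ := by
  have q := s.toG2
  have l := p.line (show (0 : Fin 4) ≠ 1 by decide)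
  obtain ⟨b, hb, b0, h⟩ := s.sw_pen l w yl l.ne'
  rcases q.mem_ln.1 hb with rfl | rfl | rfl | rfl
  · exact absurd rfl b0
  · exact absurd h (s.mp_ne l xl l.ne yl l.ne' (G2.xy_ne l).1 xl hx)
  · exact Or.inl (s.ph_of l w hx h)
  · have c := p.s01 q
    have a0 : (eich Q (e 0) (f 1)).1 (e 0) = e 0 := by rw [p.s_ap (by decide), if_neg (by decide)]
    have a1 : (eich Q (e 0) (f 1)).1 (e 0 + e 1) = e 1 := by rw [map_add, a0, p.s_ap (by decide), if_pos rfl, add_comm, add_assoc, vv F, add_zero]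
    exact Or.inr (s.ph_of l (sw_mul (s.x_of c) w) ((a0 ▸ s.mp_of l c (e 0)).mul hx) ((a1 ▸ s.mp_of l c (e 0 + e 1)).mul h))

/-- `sw_x`, `ph_of'`, `tr3` for `φ e₂` (`ph_ln`, `ph_Q`), `ph_mul`. -/
theorem exists_g3 : ∃ g φ, Swp ψ t (e 0) (e 1) g ∧ Ph ψ (e 0) (e 1) g φ ∧ φ (e 2) = e 2 := by
  have q := s.toG2
  have l := p.line (show (0 : Fin 4) ≠ 1 by decide)
  obtain ⟨g, w, hx⟩ := s.sw_x l w
  obtain ⟨g, φ, w, h⟩ : ∃ g φ, Swp ψ t (e 0) (e 1) g ∧ Ph ψ (e 0) (e 1) g φ :=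
    (s.ph_of' p w hx).elim (fun ⟨φ, h⟩ => ⟨g, φ, w, h⟩) fun ⟨φ, h⟩ => ⟨_, φ, sw_mul (s.x_of (p.s01 q)) w, h⟩
  obtain ⟨o, ho, h0, h1, h2⟩ := q.tr3 l (h _ (p.pp 2)).1 ((s.ph_Q l w h (p.pp 2)).trans (p.qe 2)) (fun k => p.e2_nl ((s.ph_ln l w h (p.pp 2)).1 k)) (p.pp 2) (p.qe 2) p.e2_nl
  exact ⟨_, _, sw_mul (s.x_of (q.c0_of l ho h0 h1)) w, s.ph_mul l ho h0 h1 h, h2⟩

/-- `g⁻¹ (ψ E(e₀, m)) g = ψ E(e₀, m₀)` (`mp_inv`), `φ m₀ - m ∈ ⟨e₀⟩`, `B(e₂, m₀) = B(e₂, φ m₀) = 0`; `φ (m₀ + c) ≡ φ m₀ + φ c`, `φ c ∈ π` for `c ∈ π` (`ph_add`, `ph_ln`, `two`). -/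
theorem tp_conj (h : Ph ψ (e 0) (e 1) g φ) (h2 : φ (e 2) = e 2) (hn : Tp ψ e n) : Tp ψ e (g * n * g⁻¹) := fun m hm m2 => by
  have q := s.toG2
  have em := q.eich_mem
  have l := p.line (show (0 : Fin 4) ≠ 1 by decide)
  obtain ⟨u, hu, e₁⟩ := s.mp_inv l w xl l.ne xl l.ne h.mp m hm
  obtain ⟨a, e₂⟩ := q.eich_eq' l xl l.ne (h u hu).1 hm (s.inj _ (em _ _) _ (em _ _) (by rw [← (h u hu).2.1, ← e₁]; group))
  obtain ⟨c, hc, e₃⟩ := hn u hu (by rw [← (s.ph_add l w h (p.pp 2) hu).2, h2, e₂]; simp [m2, p.ee])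
  have pc := p.pi_pp hc
  have k : φ c ∈ Ln F (e 0) (e 1) ⊔ F ∙ e 2 := by
    obtain ⟨c, hc', d, hd, rfl⟩ := Submodule.mem_sup.1 hc
    obtain ⟨k, rfl⟩ := Submodule.mem_span_singleton.1 hd
    have k1 := (s.ph_ln l w h (pp_of_mem l hc').1).2 hc'
    rcases q.two k with rfl | rfl
    · simpa using Submodule.mem_sup_left k1
    · have := (s.ph_add l w h (pp_of_mem l hc').1 (p.pp 2)).1
      rw [h2] at this
      convert sub_mem (sub_mem (Submodule.mem_sup_left this) (Submodule.mem_sup_left k1)) (Submodule.mem_sup_right (Submodule.mem_span_singleton_self (e 2))) using 1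
      rw [one_smul]; abel
  refine ⟨φ (u + c) - m, ?_, ?_⟩
  · convert add_mem (sub_mem (Submodule.mem_sup_left (s.ph_add l w h hu pc).1) k) (Submodule.mem_sup_left (Submodule.smul_mem _ a xl)) using 1
    rw [e₂, sub_eq F, sub_eq F, show φ (u + c) + (m + a • e 0) + φ c + φ c + a • e 0 = φ (u + c) + m + (φ c + φ c) + (a • e 0 + a • e 0) by abel, vv F, vv F, add_zero, add_zero]
  · rw [add_sub_cancel, ← (h _ (hu.add pc)).2.1, ← e₃, ← e₁]; group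

/-- `g` from `exists_g3` centralizes `Z₂ = ψ E(e₀, e₂)`.  `n = s₁₂ s₂₁ s₁₂` swaps `e₁, e₂`, fixes `e₀`.  `n' = g (ψ n) g⁻¹` swaps `Z`, `Z₂` and maps `t` to `g (t Z₂) g⁻¹ = t Z Z₂` (`sw_inv`).
`s₂₁` maps `e₁ + e₂` to `e₁`: take `ψ s₂₁ n' ψ s₂₁`.  `co_conj`, `tp_conj`, `tp_s`. -/
theorem exists_w1 : ∃ g, Swp ψ t (e 0) (e 1) g ∧ g ∈ Co ψ t ∧ Tp ψ e g := by
  have q := s.toG2
  have em := q.eich_mem
  have l := p.line (show (0 : Fin 4) ≠ 1 by decide)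
  obtain ⟨g, φ, w, h, h2⟩ := s.exists_g3 p w
  have nm : eich Q (e 1) (f 2) * eich Q (e 2) (f 1) * eich Q (e 1) (f 2) ∈ Om Q := mul_mem (mul_mem (em _ _) (em _ _)) (em _ _)
  have nt : Tp ψ e (ψ (eich Q (e 1) (f 2) * eich Q (e 2) (f 1) * eich Q (e 1) (f 2))) := by
    rw [s.mul _ (mul_mem (em _ _) (em _ _)) _ (em _ _), s.mul _ (em _ _) _ (em _ _)]
    exact ((s.tp_s p (by decide) (by decide) (by decide)).mul p (s.tp_s p (by decide) (by decide) (by decide))).mul p (s.tp_s p (by decide) (by decide) (by decide))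
  have a := p.s_ap (show (1 : Fin 4) ≠ 2 by decide)
  have b := p.s_ap (show (2 : Fin 4) ≠ 1 by decide)
  have n0 : (eich Q (e 1) (f 2) * eich Q (e 2) (f 1) * eich Q (e 1) (f 2)).1 (e 0) = e 0 := by simp [a, b]
  have n1 : (eich Q (e 1) (f 2) * eich Q (e 2) (f 1) * eich Q (e 1) (f 2)).1 (e 1) = e 2 := by
    simp only [O.mul_apply]; simp [a, b]; rw [add_comm (e 2), ← add_assoc, vv F, zero_add]
  have n2 : (eich Q (e 1) (f 2) * eich Q (e 2) (f 1) * eich Q (e 1) (f 2)).1 (e 2) = e 1 := by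
    simp only [O.mul_apply]; simp [a, b]; rw [add_left_comm, vv F, add_zero]
  generalize eich Q (e 1) (f 2) * eich Q (e 2) (f 1) * eich Q (e 1) (f 2) = n at *
  have z1 := s.conj_eich nm (e 0) (e 1)
  have z2 := s.conj_eich nm (e 0) (e 2)
  have z3 := s.conj_eich (em (e 2) (f 1)) (e 0) (e 1)
  have z4 := (h _ (p.pp 2)).2.1
  rw [n0, n1] at z1
  rw [n0, n2] at z2
  rw [h2] at z4
  rw [b, b, if_neg (by decide), if_pos rfl, eich_add (p.qe 0) (p.ee _ _) (p.ee _ _), s.mul _ (em _ _) _ (em _ _)] at z3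
  have zc : ψ (eich Q (e 0) (e 1)) * ψ (eich Q (e 0) (e 2)) = ψ (eich Q (e 0) (e 2)) * ψ (eich Q (e 0) (e 1)) := by
    rw [← s.mul _ (em _ _) _ (em _ _), ← s.mul _ (em _ _) _ (em _ _), eich_comm (p.qe 0) (p.ee _ _) (p.ee _ _)]
  have S2 := inv_eq_of_mul_eq_one_right (s.sq (e 2) (f 1))
  have St := s.tL _ (em (e 2) (f 1))
  have nt' := s.tL _ nm
  have w1 := w.1
  have w2 : g * ψ (eich Q (e 0) (e 1)) * g⁻¹ = ψ (eich Q (e 0) (e 1)) := by rw [w.2, mul_inv_cancel_right]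
  have w3 := (s.sw_inv w).1
  have sc := s.co_of (em (e 2) (f 1))
  have st := s.tp_s p (i := 2) (j := 1) (by decide) (by decide) (by decide)
  refine ⟨ψ (eich Q (e 2) (f 1)) * (g * ψ n * g⁻¹) * ψ (eich Q (e 2) (f 1)), ?_, mul_mem (mul_mem sc (s.co_conj l w nm)) sc, (st.mul p (s.tp_conj p w h h2 nt)).mul p st⟩
  unfold Swp
  generalize ψ (eich Q (e 2) (f 1)) = S at *
  generalize ψ (eich Q (e 0) (e 1)) = Z at *
  generalize ψ (eich Q (e 0) (e 2)) = Y at *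
  generalize ψ n = N at *
  have z5 : S * (Z * Y) * S⁻¹ = Z := by rw [← z3, cj_cj, mul_eq_one_iff_inv_eq.2 S2]; simp
  have k1 : g⁻¹ * (Z * Y) * g⁻¹⁻¹ = Z * Y := by rw [inv_inv, mul_assoc, inv_mul_eq_iff_eq_mul, ← mul_assoc g, mul_inv_eq_iff_eq_mul.1 w2, mul_assoc Z g, mul_inv_eq_iff_eq_mul.1 z4, mul_assoc]
  refine ⟨?_, mul_inv_eq_iff_eq_mul.1 ?_⟩
  · rw [← cj_cj, ← cj_cj, ← cj_cj, ← cj_cj, St, mul_inv_cancel_right, w3, cj_mul N, z1, nt', mul_inv_cancel_right, cj_mul g, w1, z4, mul_assoc t, cj_mul S, z5, St, mul_inv_cancel_right]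
  · rw [← cj_cj, ← cj_cj, ← cj_cj, ← cj_cj, z3, k1, cj_mul N, z1, z2, ← zc, cj_mul g, w2, z4, z5]

/-- `g` from `exists_w1` maps `Q_{e₀}` to itself (`sw_pen`, `Tp` and `qe_eq` for `m = e₃`; `e₃ + c ∉ ℓ`: pair with `f₃`).  `ph_of'`, `tp_s`; `G2.fin` (`φ m - (m + c) ∈ ⟨e₀⟩` by `Gq.eich_eq`; `φ e₂ ∈ π ∖ ℓ`);
`ph_mul` for `E(e₂, u)`. -/
theorem exists_w2 : ∃ g φ, Swp ψ t (e 0) (e 1) g ∧ g ∈ Co ψ t ∧ Ph ψ (e 0) (e 1) g φ ∧ ∀ m, Pp Q (e 0) (e 1) m → φ m + m ∈ Ln F (e 0) (e 1) := by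
  have q := s.toG2
  have em := q.eich_mem
  have l := p.line (show (0 : Fin 4) ≠ 1 by decide)
  obtain ⟨g, w, hc, ht⟩ := s.exists_w1 p w
  obtain ⟨b, hb, b0, h⟩ := s.sw_pen l w xl l.ne
  obtain rfl : e 0 = b := by
    obtain ⟨c, hc, e₁⟩ := ht _ (p.pp 3) (p.ee _ _)
    obtain ⟨u, hu, e₂⟩ := h _ (p.pp 3)
    have f3 := p.ppf (k := 3) (by decide) (by decide)
    refine q.qe_eq l xl l.ne hb b0 ((p.pp 3).add (p.pi_pp hc)) (fun k => ?_) ⟨u, hu, s.inj _ (em _ _) _ (em _ _) (e₁.symm.trans e₂)⟩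
    simpa [p.ef, pi_perp f3 (by simp [p.ef]) hc] using f3.of_mem k
  obtain ⟨g, φ, w, hc, ht, h⟩ : ∃ g φ, Swp ψ t (e 0) (e 1) g ∧ g ∈ Co ψ t ∧ Tp ψ e g ∧ Ph ψ (e 0) (e 1) g φ :=
    (s.ph_of' p w h).elim (fun ⟨φ, h⟩ => ⟨g, φ, w, hc, ht, h⟩) fun ⟨φ, h⟩ => ⟨_, φ, sw_mul (s.x_of (p.s01 q)) w, mul_mem (s.co_of (em _ _)) hc,
      (s.tp_s p (by decide) (by decide) (by decide)).mul p ht, h⟩
  have h4 : ∀ m, Pp Q (e 0) (e 1) m → polar Q (e 2) m = 0 → φ m + m ∈ Ln F (e 0) (e 1) ⊔ F ∙ e 2 := fun m hm m2 => by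
    obtain ⟨c, hc, e₁⟩ := ht m hm m2
    obtain ⟨a, e₂⟩ := q.eich_eq' l xl l.ne (h m hm).1 (hm.add (p.pi_pp hc)) (s.inj _ (em _ _) _ (em _ _) ((h m hm).2.1.symm.trans e₁))
    rw [e₂, show m + c + a • e 0 + m = m + m + (c + a • e 0) by abel, vv F, zero_add]
    exact add_mem hc (Submodule.mem_sup_left (Submodule.smul_mem _ _ xl))
  obtain ⟨u, hu, u2, k⟩ := q.fin p φ (fun m hm => ⟨(h m hm).1, s.ph_Q l w h hm⟩) (fun m m' hm hm' => s.ph_add l w h hm hm')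
    (fun m hm => (s.ph_ln l w h (pp_of_mem l hm).1).2 hm) (by
      obtain ⟨c, hc, d, hd, e₁⟩ := Submodule.mem_sup.1 (h4 _ (p.pp 2) (p.ee _ _))
      obtain ⟨k, rfl⟩ := Submodule.mem_span_singleton.1 hd
      rcases q.two k with rfl | rfl
      · rw [← e₁]; simpa
      · rw [one_smul, add_left_inj] at e₁
        exact absurd ((s.ph_ln l w h (p.pp 2)).1 (e₁ ▸ hc)) p.e2_nl) h4
  have h0 : (eich Q (e 2) u).1 (e 0) = e 0 := by rw [eich_apply_of_perp (p.qe 2) u2 (p.ee _ _), polar_comm, hu.1, zero_smul, add_zero]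
  have h1 : (eich Q (e 2) u).1 (e 1) = e 1 := by rw [eich_apply_of_perp (p.qe 2) u2 (p.ee _ _), polar_comm, hu.2, zero_smul, add_zero]
  exact ⟨_, _, sw_mul (s.x_of (q.c0_of l (em _ _) h0 h1)) w, mul_mem (s.co_of (em _ _)) hc, s.ph_mul l (em _ _) h0 h1 h, k⟩

/-- `g (ψ E(x, m)) g⁻¹ = ψ E(x, m + α m • y)`, `α m = B(φ m + m, f₁)`; `g (ψ E(y, m)) g⁻¹ = ψ E(y, m + β m • x)` (choose; `β m` is determined, `Gq.eich_eq`).  `α`, `β` are additive on `ℓ^⊥` and vanish on `ℓ`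
(`eich_ln`): `dual`, `α = B(u₁, ·)`, `β = B(u₂, ·)`.  `E(y, u₁) m = m + B(u₁, m) y`, `E(x, u₂) m = m + B(u₂, m) x`: multiply by `ψ (E(y, u₁) E(x, u₂))`. -/
theorem exists_w : ∃ g, Swp ψ t (e 0) (e 1) g ∧ g ∈ Co ψ t ∧ Wq ψ (e 0) (e 1) g := by
  have q := s.toG2
  have em := q.eich_mem
  have l := p.line (show (0 : Fin 4) ≠ 1 by decide)
  obtain ⟨g, φ, w, hc, h, k⟩ := s.exists_w2 p w
  generalize e 0 = x at *
  generalize e 1 = y at *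
  have gz : g * ψ (eich Q x y) * g⁻¹ = ψ (eich Q x y) := by rw [w.2, mul_inv_cancel_right]
  have key : ∀ {a b : V}, IsLine Q a b → Ln F a b = Ln F x y → (∀ m, Pp Q x y m → ∃ c ∈ Ln F x y, g * ψ (eich Q a m) * g⁻¹ = ψ (eich Q a (m + c))) →
      ∃ u, Pp Q x y u ∧ ∀ m, Pp Q x y m → g * ψ (eich Q a m) * g⁻¹ = ψ (eich Q a (m + polar Q u m • b)) := fun {a b} l' e h => by
    have ha : a ∈ Ln F x y := e ▸ xl
    have pb : ∀ c : F, Pp Q x y (c • b) := fun c => (pp_of_mem l (Submodule.smul_mem _ c (e ▸ yl))).1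
    have : ∀ m, Pp Q x y m → ∃ c : F, g * ψ (eich Q a m) * g⁻¹ = ψ (eich Q a (m + c • b)) := fun m hm => by
      obtain ⟨c, hc, e₁⟩ := h m hm
      obtain ⟨c, d, rfl⟩ := Submodule.mem_span_pair.1 (e ▸ hc : c ∈ Ln F a b)
      exact ⟨d, by rw [e₁, add_comm (c • a), ← add_assoc, eich_add_smul_self l'.left ((hm.add (pb d)).of_mem ha)]⟩
    choose! α hα using this
    have un : ∀ {m} {c d : F}, Pp Q x y m → ψ (eich Q a (m + c • b)) = ψ (eich Q a (m + d • b)) → c = d := fun {m c d} hm e₁ => by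
      obtain ⟨k, e₂⟩ := q.eich_eq' l ha l'.ne (hm.add (pb c)) (hm.add (pb d)) (s.inj _ (em _ _) _ (em _ _) e₁)
      exact (sub_eq_zero.1 (l'.eq_zero (a := k) (b := d - c) (by rw [sub_smul, ← add_sub_assoc, sub_eq_zero, add_comm]; exact (add_left_cancel (e₂.trans (add_assoc _ _ _))).symm)).2).symm
    refine (q.dual (S := Ln F x y) (fun a ha => mem_perp_pair.2 (pp_of_mem l ha).1) α (fun m hm m' hm' => ?_) fun m hm => ?_).imp
      fun u ⟨hu, e₁⟩ => ⟨mem_perp_pair.1 hu, fun m hm => e₁ m (mem_perp_pair.2 hm) ▸ hα m hm⟩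
    · replace hm := mem_perp_pair.1 hm
      replace hm' := mem_perp_pair.1 hm'
      refine un (Pp.add hm hm') ?_
      rw [← hα _ (Pp.add hm hm'), eich_add l'.left (Pp.of_mem hm ha) (Pp.of_mem hm' ha), s.mul _ (em _ _) _ (em _ _), cj_mul, hα m hm, hα m' hm', ← s.mul _ (em _ _) _ (em _ _),
        ← eich_add l'.left ((Pp.add hm (pb _)).of_mem ha) ((Pp.add hm' (pb _)).of_mem ha), add_smul, add_add_add_comm]
    · have pm := (pp_of_mem l hm).1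
      refine un pm ?_
      rw [← hα m pm, zero_smul, add_zero]
      rcases (q.eich_ln l ha l'.ne pm).2 hm with k | k <;> simp [k, gz, s.one]
  obtain ⟨u, hu, e₁⟩ := key l rfl fun m hm => ⟨_, k m hm, by rw [(h m hm).2.1, add_comm (φ m), ← add_assoc, vv F, zero_add]⟩
  obtain ⟨v, hv, e₂⟩ := key l.symm (by rw [Ln, Set.pair_comm]) fun m hm =>
    let ⟨c, hc, e⟩ := (h m hm).2.2; ⟨_, add_mem (k m hm) hc, by rw [e, add_comm (φ m) m, ← add_assoc, ← add_assoc, vv F, zero_add]⟩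
  have om := mul_mem (em y u) (em x v)
  have ap : ∀ m, Pp Q x y m → (eich Q y u * eich Q x v).1 m = m + polar Q v m • x + polar Q u m • y := fun m hm => by
    rw [O.mul_apply, eich_apply_of_perp l.left hv.1 hm.1, eich_apply_of_perp l.right hu.2 (by simp [hm.2, polar_comm Q y x, l.perp])]
    simp [polar_comm Q u x, hu.1]
  have ox : (eich Q y u * eich Q x v).1 x = x := by rw [ap _ (pp_of_mem l xl).1, polar_comm, hv.1, polar_comm, hu.1]; simp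
  have oy : (eich Q y u * eich Q x v).1 y = y := by rw [ap _ (pp_of_mem l yl).1, polar_comm, hv.2, polar_comm, hu.2]; simp
  refine ⟨_, sw_mul (s.x_of (q.c0_of l om ox oy)) w, mul_mem (s.co_of om) hc, fun m hm => ⟨mul_inv_eq_iff_eq_mul.1 ?_, mul_inv_eq_iff_eq_mul.1 ?_⟩⟩
  · rw [← cj_cj, e₁ m hm, s.conj_eich om, ox, map_add, map_smul, oy, ap m hm, add_assoc, vv F, add_zero, eich_add_smul_self l.left hm.1]
  · rw [← cj_cj, e₂ m hm, s.conj_eich om, oy, map_add, map_smul, ox, ap m hm, add_right_comm, add_assoc m, vv F, add_zero, eich_add_smul_self l.right hm.2]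

end Cx

end Cfsg.Lib.OD
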