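import Cfsg.Agent.Lib.OD.T4
import Cfsg.Agent.Lib.OD.T6

/-!
# OD, Step 1 for `q = 2`: the end.  Notation as in `T3`, `T4`.
-/

set_option autoImplicit false
set_option linter.unusedSectionVars false

namespace Cfsg.Lib.OD

open Subgroup Cfsg.Lib.BG Cfsg.Lib.Orth QuadraticMap Module
open scoped Cfsg.Lib.Transfer commutatorElement

variable {F V : Type*} [Field F] [Finite F] [CharP F 2] [AddCommGroup V] [Module F V] [FiniteDimensional F V] {Q : QuadraticForm F V}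
  {G : Type*} [Group G] [Finite G] {ψ : O Q → G} {t g g' : G} {o : O Q} {x y a b : V} {e f : Fin 4 → V}

/-- The bad case: an involution acting on `ψ C₀` as the sign of the action on `ℓ = ⟨a, b⟩`. -/
structure Pw (ψ : O Q → G) (t : G) (a b : V) (g : G) : Prop where
  sq : g * g = 1
  tz : g * t * g⁻¹ = t * ψ (eich Q a b)
  co : g ∈ Co ψ t
  fx : ∀ o ∈ Om Q, o.1 a = a → o.1 b = b → ψ o * g * (ψ o)⁻¹ = g
  t1 : ∀ o ∈ Om Q, o.1 a = a → o.1 b = b + a → ψ o * g * (ψ o)⁻¹ = g * ψ (eich Q a b)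
  t2 : ∀ o ∈ Om Q, o.1 a = a + b → o.1 b = b → ψ o * g * (ψ o)⁻¹ = g * ψ (eich Q a b)

/-- `eich_sw`. -/
theorem Pw.symm (h : Pw ψ t a b g) (l : IsLine Q a b) : Pw ψ t b a g := by
  have e : eich Q b a = eich Q a b := eich_sw l.left l.right l.perp
  exact ⟨h.sq, e ▸ h.tz, h.co, fun o ho h1 h2 => h.fx o ho h2 h1, fun o ho h1 h2 => e ▸ h.t2 o ho h2 h1, fun o ho h1 h2 => e ▸ h.t1 o ho h2 h1⟩

theorem Pw.cm (h : Pw ψ t a b g) (ho : o ∈ Om Q) (h1 : o.1 a = a) (h2 : o.1 b = b) : Commute (ψ o) g := mul_inv_eq_iff_eq_mul.1 (h.fx o ho h1 h2)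

theorem odd_two {k : G} (h : Odd (orderOf k)) (n : ℕ) (e : k ^ 2 ^ n = 1) : k = 1 :=
  orderOf_eq_one_iff.1 (Nat.Coprime.eq_one_of_dvd (Nat.Coprime.pow_right n (Nat.coprime_two_right.2 h)) (orderOf_dvd_of_pow_eq_one e))

theorem rel_abs {k τ Y W : G} (ko : Odd (orderOf k)) (g2 : g * g = 1) (g2' : g' * g' = 1) (Y2 : Y * Y = 1) (τ2 : τ * τ = 1) (W2 : W * W = 1) (kτ : Commute k τ) (kY : Commute k Y)
    (kg : Commute k g) (kg' : Commute k g') (kW : Commute k W) (Yτ : Commute Y τ) (Yg : Commute Y g) (Yg' : Commute Y g') (Wg : Commute W g) (h : g * g' * τ = τ * W * (g * g'))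
    (e : k * (τ * Y * (g * g')) * (k * (τ * Y * (g * g'))) = 1) : k = 1 := by
  have e1 : k ^ 2 * W * (g * g') ^ 2 = 1 := by
    rw [← pow_two, (((kτ.mul_right kY).mul_right (kg.mul_right kg'))).mul_pow, ← Yτ.eq, mul_assoc Y, (Yτ.mul_right (Yg.mul_right Yg')).mul_pow, pow_two Y, Y2, one_mul, pow_two (τ * _),
      mul_assoc τ, ← mul_assoc (g * g'), h] at e
    rw [← e, pow_two (g * g')]; simp only [← mul_assoc]; rw [mul_assoc _ τ τ, τ2, mul_one]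
  have e2 : (g * g') ^ 2 = (k ^ 2 * W)⁻¹ := eq_inv_of_mul_eq_one_right e1
  have c : Commute ((g * g') ^ 2) g := e2 ▸ ((kg.pow_left 2).mul_left Wg).inv_left
  have e3 : (g * g') ^ 2 * (g * g') ^ 2 = 1 := by
    have : (g * g') ^ 2 = g * ((g * g') ^ 2 * g) := by rw [c.eq, ← mul_assoc, g2, one_mul]
    nth_rewrite 2 [this]
    simp only [pow_two, ← mul_assoc]
    have a : ∀ x, x * g * g = x := fun x => by rw [mul_assoc, g2, mul_one]
    have a' : ∀ x, x * g' * g' = x := fun x => by rw [mul_assoc, g2', mul_one]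
    simp only [a, a', g2]
  rw [e2, ← mul_inv_rev, inv_eq_one, ← pow_two, (kW.pow_left 2).mul_pow, pow_two W, W2, mul_one, ← pow_mul] at e3
  exact odd_two ko 2 e3

namespace Cx
variable (s : Cx ψ t)
include s

/-- `conj_eich`, `co_of`; apply the fields to `o⁻¹ o' o`. -/
theorem pw_tr (h : Pw ψ t a b g) (ho : o ∈ Om Q) : Pw ψ t (o.1 a) (o.1 b) (ψ o * g * (ψ o)⁻¹) := by
  have key : ∀ o' ∈ Om Q, ψ o' * (ψ o * g * (ψ o)⁻¹) * (ψ o')⁻¹ = ψ o * (ψ (o⁻¹ * o' * o) * g * (ψ (o⁻¹ * o' * o))⁻¹) * (ψ o)⁻¹ := fun o' ho' => by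
    rw [s.mul _ (mul_mem (inv_mem ho) ho') _ ho, s.mul _ (inv_mem ho) _ ho', s.inv ho]; group
  have m : ∀ o' ∈ Om Q, o⁻¹ * o' * o ∈ Om Q := fun o' ho' => mul_mem (mul_mem (inv_mem ho) ho') ho
  have ap : ∀ (o' : O Q) v w, o'.1 (o.1 v) = o.1 w → (o⁻¹ * o' * o).1 v = w := fun o' v w e => by
    rw [O.mul_apply, O.mul_apply, e, ← O.mul_apply, inv_mul_cancel]; rfl
  have z : ψ o * (g * ψ (eich Q a b)) * (ψ o)⁻¹ = ψ o * g * (ψ o)⁻¹ * ψ (eich Q (o.1 a) (o.1 b)) := by rw [← s.conj_eich ho]; group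
  refine ⟨by rw [← cj_mul, h.sq]; simp, ?_, mul_mem (mul_mem (s.co_of ho) h.co) (inv_mem (s.co_of ho)), fun o' ho' h1 h2 => ?_, fun o' ho' h1 h2 => ?_, fun o' ho' h1 h2 => ?_⟩
  · have e : (ψ o)⁻¹ * t * ψ o = t := by rw [mul_assoc, ← s.tL o ho]; group
    calc _ = ψ o * (g * ((ψ o)⁻¹ * t * ψ o) * g⁻¹) * (ψ o)⁻¹ := by group
      _ = _ := by rw [e, h.tz, cj_mul, s.conj_eich ho, s.tL o ho]; group
  · rw [key o' ho', h.fx _ (m o' ho') (ap _ _ _ h1) (ap _ _ _ h2)]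
  · rw [key o' ho', h.t1 _ (m o' ho') (ap _ _ _ h1) (ap _ _ _ (by rw [h2, map_add])), z]
  · rw [key o' ho', h.t2 _ (m o' ho') (ap _ _ _ (by rw [h1, map_add])) (ap _ _ _ h2), z]

/-- `tr2`. -/
theorem pw_ex (h : Pw ψ t x y g) (l : IsLine Q x y) (l' : IsLine Q a b) : ∃ g, Pw ψ t a b g := by
  obtain ⟨o, ho, rfl, rfl⟩ := s.toG2.tr2 l l'
  exact ⟨_, s.pw_tr h ho⟩

/-- `g'' = s g s⁻¹` is `Pw (e_i + e_j) e_k` (`pw_tr`), `Z'' = Z Z'`.  `g, g', g''` commute with `ψ o` for `o` fixing `e_i, e_j, e_k`, so with `Z, Z'`; `h = g'' g' g` commutes with `t`, acts as `r = zt v` (`cpi`),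
`h = k ψ (zt v)` with `k ∈ K` (`k_of`), `g'' = k ψ (zt v) g g'`, `k = k₀ τ`, `k₀` of odd order (`k_odd`; `Swp e_i e_k g`).  With `q = g g'`: `1 = g''² = k₀² (τ q)²`, `(τ q)² ∈ {q², Z'' q²}`,
so `q²` commutes with `g`, which inverts it: `q⁴ = 1`, `k₀⁴ = 1`, `k₀ = 1`. -/
theorem rel (p : Fr Q e f) {i j k : Fin 4} (h1 : i ≠ j) (h2 : i ≠ k) (h3 : j ≠ k) (h : Pw ψ t (e i) (e k) g) (h' : Pw ψ t (e j) (e k) g') :
    ∃ τ v, (τ = 1 ∨ τ = t) ∧ ψ (eich Q (e j) (f i)) * g * (ψ (eich Q (e j) (f i)))⁻¹ = τ * ψ (zt Q e v) * g * g' := by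
  have q := s.toG2.toGq
  have h'' := s.pw_tr h (q.eich_mem (e j) (f i))
  rw [p.s_ap h1.symm, p.s_ap h1.symm, if_pos rfl, if_neg h2.symm] at h''
  generalize ψ (eich Q (e j) (f i)) * g * (ψ (eich Q (e j) (f i)))⁻¹ = g'' at h'' ⊢
  have fz : ∀ a b c, (eich Q (e a) (e b)).1 (e c) = e c := fun a b c => by rw [eich_ap (p.qe a) (p.ee a b)]; simp [p.ee]
  have zz : ψ (eich Q (e i + e j) (e k)) = ψ (eich Q (e i) (e k)) * ψ (eich Q (e j) (e k)) := by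
    rw [← s.mul _ (q.eich_mem _ _) _ (q.eich_mem _ _), ← eich_sw (p.qe i) (p.qe k) (p.ee i k), ← eich_sw (p.qe j) (p.qe k) (p.ee j k),
      ← eich_add (p.qe k) (p.ee k i) (p.ee k j), eich_sw (p.qe k) (by simp [QuadraticMap.map_add Q, p.qe, p.ee]) (by simp [p.ee])]
  have c : ∀ o ∈ Om Q, o.1 (e i) = e i → o.1 (e j) = e j → o.1 (e k) = e k → Commute (ψ o) g ∧ Commute (ψ o) g' ∧ Commute (ψ o) g'' :=
    fun o ho a b c => ⟨h.cm ho a c, h'.cm ho b c, h''.cm ho (by rw [map_add, a, b]) c⟩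
  obtain ⟨a1, a2, a3⟩ := c _ (q.eich_mem (e i) (e k)) (fz _ _ _) (fz _ _ _) (fz _ _ _)
  obtain ⟨b1, b2, b3⟩ := c _ (q.eich_mem (e j) (e k)) (fz _ _ _) (fz _ _ _) (fz _ _ _)
  have Z2 := s.sq (e i) (e k)
  have Z2' := s.sq (e j) (e k)
  have W2 := s.sq (e i + e j) (e k)
  have kW : ∀ c ∈ Kt ψ t, Commute c (ψ (eich Q (e i + e j) (e k))) := fun c hc => (mem_Kt.1 hc).2 _ (q.eich_mem _ _)
  rw [zz] at W2 kW
  have gt := mul_inv_eq_iff_eq_mul.1 h.tz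
  have gt' := mul_inv_eq_iff_eq_mul.1 h'.tz
  have gt'' := mul_inv_eq_iff_eq_mul.1 h''.tz
  rw [zz] at gt''
  have ko := fun k => s.k_odd (k := k) (p.line h2) ⟨h.tz, a1.symm.eq⟩
  generalize ψ (eich Q (e i) (e k)) = Z at *
  generalize ψ (eich Q (e j) (e k)) = Z' at *
  have ht : g'' * g' * g * t = t * (g'' * g' * g) := by
    calc _ = g'' * (g' * t) * Z * g := by rw [mul_assoc _ g, gt]; simp only [mul_assoc]
      _ = (g'' * t) * Z' * Z * g' * g := by rw [gt']; simp only [mul_assoc, a2.symm.left_comm]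
      _ = t * (Z * (Z' * Z') * Z) * (g'' * g' * g) := by rw [gt'']; simp only [mul_assoc, a3.symm.left_comm, b3.symm.left_comm]
      _ = _ := by rw [Z2', mul_one, Z2, mul_one]
  obtain ⟨r, hr⟩ := s.ac _ ht
  obtain ⟨v, rfl⟩ := s.toG2.cpi p h1 h2 h3 (r := r) fun o ho a b c' => by
    obtain ⟨x1, x2, x3⟩ := c o ho a b c'
    have := hr o ho
    rw [← ((x3.mul_right x2).mul_right x1).eq, mul_inv_cancel_right] at this
    exact mul_inv_eq_iff_eq_mul.1 (s.inj _ ((inferInstance : (Om Q).Normal).conj_mem _ ho r) _ ho this.symm)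
  have zm := q.zt_mem (e := e) v
  have hk : g'' * g' * g * (ψ (zt Q e v))⁻¹ ∈ Kt ψ t :=
    k_of (by rw [mul_assoc, ((show Commute _ _ from s.tL _ zm).inv_left).eq, ← mul_assoc, ht, mul_assoc]) (by simpa using hr.mul (s.ac_of zm).inv)
  obtain ⟨y1, y2, -⟩ := c _ zm (p.zt_fix _ _) (p.zt_fix _ _) (p.zt_fix _ _)
  have y0 : ψ (zt Q e v) * ψ (zt Q e v) = 1 := by
    have h0 : zt Q e 0 = 1 := by have := p.zt_add 0 0; rw [add_zero] at this; exact left_eq_mul.1 this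
    rw [← s.mul _ zm _ zm, ← p.zt_add, show v + v = 0 from funext fun i => CharTwo.add_self_eq_zero _, h0, s.one]
  have yt : Commute (ψ (zt Q e v)) t := s.tL _ zm
  have kk : ∀ k ∈ Kt ψ t, Commute k (ψ (zt Q e v)) := fun k hk => (mem_Kt.1 hk).2 _ zm
  suffices H : ∃ τ, (τ = 1 ∨ τ = t) ∧ g'' = τ * ψ (zt Q e v) * g * g' from let ⟨τ, h⟩ := H; ⟨τ, v, h⟩
  generalize ψ (zt Q e v) = Y at *
  have a : ∀ x, g * (g * x) = x := fun x => by rw [← mul_assoc, h.sq, one_mul]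
  have fin : ∀ k₀ τ W, k₀ ∈ Kt ψ t → Odd (orderOf k₀) → τ * τ = 1 → W * W = 1 → Commute k₀ τ → Commute k₀ W → Commute Y τ → Commute W g → g * g' * τ = τ * W * (g * g') →
      g'' = k₀ * (τ * Y * (g * g')) → g'' = τ * Y * g * g' := fun k₀ τ W k0 o τ2 w2 c1 c2 c3 c4 e1 e0 => by
    rw [e0, rel_abs o h.sq h'.sq y0 τ2 w2 c1 (kk _ k0) (mem_Co.1 h.co _ k0 o).symm (mem_Co.1 h'.co _ k0 o).symm c2 c3 y1 y2 c4 e1 (e0 ▸ h''.sq), one_mul, mul_assoc (τ * Y)]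
  rcases ko _ hk with o | o
  · refine ⟨1, Or.inl rfl, fin _ 1 1 hk o (by simp) (by simp) (by simp) (by simp) (by simp) (by simp) (by simp) ?_⟩
    simp only [mul_assoc, one_mul, inv_mul_cancel_left, a, h'.sq, mul_one]
  · have tK : t ∈ Kt ψ t := mem_Kt.2 ⟨rfl, fun o ho => (s.tL o ho).symm⟩
    refine ⟨t, Or.inr rfl, fin _ t (Z * Z') (mul_mem hk tK) o s.t2 W2 (mem_Kt.1 (mul_mem hk tK)).1 (kW _ (mul_mem hk tK)) yt (a1.mul_left b1) ?_ ?_⟩
    · rw [mul_assoc, gt', ← mul_assoc, ← mul_assoc, gt]; simp only [mul_assoc, b1.symm.left_comm]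
    · have : ∀ x, t * (t * x) = x := fun x => by rw [← mul_assoc, s.t2, one_mul]
      simp only [mul_assoc, this, inv_mul_cancel_left, a, h'.sq, mul_one]

/-- `bad_false` with `ζ = ψ ∘ zt`, `a, b, c, d` for the lines `01, 02, 12, 32` (`pw_ex`), `A, …, E = ψ s₂₀, ψ s₀₁, ψ s₂₁, ψ s₀₃, ψ s₁₃`; `rel` for `(i, j, k) = (0,2,1), (1,0,2), (1,2,0), (3,0,2), (3,1,2)`. -/
theorem pw_false (p : Fr Q e f) (h : Pw ψ t (e 0) (e 1) g) : False := by
  have q := s.toG2.toGq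
  have l := p.line (show (0 : Fin 4) ≠ 1 by decide)
  obtain ⟨b, hb⟩ := s.pw_ex h l (p.line (show (0 : Fin 4) ≠ 2 by decide))
  obtain ⟨c, hc⟩ := s.pw_ex h l (p.line (show (1 : Fin 4) ≠ 2 by decide))
  obtain ⟨d, hd⟩ := s.pw_ex h l (p.line (show (3 : Fin 4) ≠ 2 by decide))
  have zm := fun v => q.zt_mem (e := e) v
  have em := q.eich_mem
  have fx : ∀ {i j a b : Fin 4} {g : G}, i ≠ j → a ≠ j → b ≠ j → Pw ψ t (e a) (e b) g → ψ (eich Q (e i) (f j)) * g * (ψ (eich Q (e i) (f j)))⁻¹ = g :=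
    fun h1 h2 h3 h => h.fx _ (em _ _) (by rw [p.s_ap h1, if_neg h2]) (by rw [p.s_ap h1, if_neg h3])
  have m2 : ∀ {a b c d : O Q}, a ∈ Om Q → b ∈ Om Q → c ∈ Om Q → d ∈ Om Q → a * b = c * d → ψ a * ψ b = ψ c * ψ d :=
    fun ha hb hc hd e => by rw [← s.mul _ ha _ hb, ← s.mul _ hc _ hd, e]
  refine bad_false (ζ := fun v => ψ (zt Q e v)) (t := t) (a := g) (b := b) (c := c) (d := d) (A := ψ (eich Q (e 2) (f 0))) (B := ψ (eich Q (e 0) (f 1)))
    (C := ψ (eich Q (e 2) (f 1))) (D := ψ (eich Q (e 0) (f 3))) (E := ψ (eich Q (e 1) (f 3))) (fun v w => by rw [p.zt_add, s.mul _ (zm _) _ (zm _)])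
    (fun v w e => p.zt_inj (s.inj _ (zm _) _ (zm _) e)) (fun v => s.tn _ (zm v)) s.t2 hb.sq hc.sq (fun v => s.tL _ (zm v))
    (fun v => h.fx _ (zm v) (p.zt_fix _ _) (p.zt_fix _ _)) (fun v => hb.fx _ (zm v) (p.zt_fix _ _) (p.zt_fix _ _)) (fun v => hc.fx _ (zm v) (p.zt_fix _ _) (p.zt_fix _ _))
    (fun v => hd.fx _ (zm v) (p.zt_fix _ _) (p.zt_fix _ _)) (s.tL _ (em _ _)) (s.tL _ (em _ _)) (s.tL _ (em _ _)) (s.tL _ (em _ _)) (s.tL _ (em _ _))
    (by rw [p.zt_02]; exact hb.tz) (by rw [p.zt_12]; exact hc.tz) (fun v => by rw [s.conj (em _ _) (zm _), p.zt_20]) (fun v => by rw [s.conj (em _ _) (zm _), p.zt_01'])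
    (fun v => by rw [s.conj (em _ _) (zm _), p.zt_21]) (fun v => by rw [s.conj (em _ _) (zm _), p.zt_03]) (fun v => by rw [s.conj (em _ _) (zm _), p.zt_13])
    (s.sq _ _) (s.sq _ _) (s.sq _ _) (s.sq _ _) (m2 (em _ _) (em _ _) (em _ _) (em _ _) (p.s_cm (by decide) (by decide)))
    (m2 (em _ _) (em _ _) (em _ _) (em _ _) (p.s_cm (by decide) (by decide))) ?_
    (fx (by decide) (by decide) (by decide) hc) (fx (by decide) (by decide) (by decide) hb) (fx (by decide) (by decide) (by decide) hb)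
    (fx (by decide) (by decide) (by decide) hb) (fx (by decide) (by decide) (by decide) hc) (fx (by decide) (by decide) (by decide) hb) (fx (by decide) (by decide) (by decide) hc)
    ?_ ?_ (s.rel p (by decide) (by decide) (by decide) h (hc.symm (p.line (by decide)))) (s.rel p (by decide) (by decide) (by decide) hc hb)
    (s.rel p (by decide) (by decide) (by decide) (h.symm l) (hb.symm (p.line (by decide)))) (s.rel p (by decide) (by decide) (by decide) hd hb)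
    (s.rel p (by decide) (by decide) (by decide) hd hc)
  · rw [← s.mul _ (em _ _) _ (em (e 0) (f 1)), ← s.mul _ (em _ _) _ (em (e 0) (f 1)), ← s.mul _ (mul_mem (em _ _) (em _ _)) _ (em _ _),
      p.s_cj (by decide) (by decide) (by decide)]
  · rw [p.zt_01]; exact h.t1 _ (em _ _) (by rw [p.s_ap (by decide), if_neg (by decide)]) (by rw [p.s_ap (by decide), if_pos rfl])
  · rw [p.zt_12]; exact hc.t2 _ (em _ _) (by rw [p.s_ap (by decide), if_pos rfl]) (by rw [p.s_ap (by decide), if_neg (by decide)])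

section
variable (l : IsLine Q x y) (w : Swp ψ t x y g) (hc : g ∈ Co ψ t) (hq : Wq ψ x y g)
include l w hc hq

omit hc in
/-- `sw_sw`, `cQ`. -/
theorem sq_cm (ho : o ∈ Om Q ⊓ 𝐂[eich Q x y]) : g * g * ψ o = ψ o * (g * g) := by
  have zo : Commute (ψ (eich Q x y)) (ψ o) := (mem_Xz.1 (s.x_of ho)).2.symm
  rcases s.cQ l (mem_Xz.1 (s.sw_sw w w)).1 (fun m hm => ⟨(Commute.mul_left (hq m hm).1 (hq m hm).1).eq, (Commute.mul_left (hq m hm).2 (hq m hm).2).eq⟩) with h | h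
  · exact (mem_Kt.1 h).2 o ho.1
  · have : Commute (g * g * ψ (eich Q x y) * (ψ (eich Q x y))⁻¹) (ψ o) := Commute.mul_left ((mem_Kt.1 h).2 o ho.1) zo.inv_left
    rwa [mul_inv_cancel_right] at this

omit w hc in
theorem wq_ql {c : O Q} (h : c ∈ Ql Q x y) : Commute g (ψ c) := by
  obtain ⟨m, m', h1, h2, rfl⟩ := s.toG2.ql_eq l h
  rw [s.mul _ (s.toGq.eich_mem _ _) _ (s.toGq.eich_mem _ _)]
  exact Commute.mul_right (hq m h1).1 (hq m' h2).2

/-- `h = g (ψ o) g⁻¹ (ψ o)⁻¹ ∈ X` centralizes `ψ Q_ℓ` (`ql_eq`, `ql_conj`), `h = k Z^a` (`cQ`).  `sq_cm` gives `g k g⁻¹ = k⁻¹`.  `k_odd`: `k` odd: `k² = 1`, `k = 1`; `k = k₀ t`: `k₀ t Z = k₀⁻¹ t`, `Z ∈ K`. -/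
theorem del (ho : o ∈ Om Q ⊓ 𝐂[eich Q x y]) : g * ψ o * g⁻¹ = ψ o ∨ g * ψ o * g⁻¹ = ψ o * ψ (eich Q x y) := by
  have hx := s.x_of ho
  have hh : g * ψ o * g⁻¹ * (ψ o)⁻¹ ∈ Xz ψ t x y := mul_mem (s.sw_conj w hx) (inv_mem hx)
  have cq : ∀ c ∈ Ql Q x y, Commute (g * ψ o * g⁻¹ * (ψ o)⁻¹) (ψ c) := fun c hc => by
    have oz : o⁻¹ * eich Q x y = eich Q x y * o⁻¹ := ((show Commute o _ from mem_centralizer_singleton_iff.1 ho.2).inv_left).eq
    have h1 := s.wq_ql l hq (s.toG2.ql_conj l oz hc)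
    rw [← s.conj (inv_mem ho.1) (s.toG2.ql_le l hc).1, s.inv ho.1, inv_inv] at h1
    have h2 : Commute (ψ o * g⁻¹ * (ψ o)⁻¹) (ψ c) := by
      have := h1.inv_left.eq
      show _ = _
      calc _ = ψ o * (g⁻¹ * ((ψ o)⁻¹ * ψ c * ψ o)) * (ψ o)⁻¹ := by group
        _ = _ := by rw [this]; group
    simpa only [mul_assoc] using (s.wq_ql l hq hc).mul_left h2
  have Z2 := s.sq x y
  have zo : Commute (ψ (eich Q x y)) (ψ o) := (mem_Xz.1 hx).2.symm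
  have kz : ∀ k ∈ Kt ψ t, Commute k (ψ (eich Q x y)) := fun k hk => (mem_Kt.1 hk).2 _ (s.toGq.eich_mem _ _)
  have g2 := s.sq_cm l w hq ho
  have fin : ∀ k ∈ Kt ψ t, ∀ W, W * W = 1 → Commute k W → Commute g W → g * ψ o * g⁻¹ = k * W * ψ o → k = 1 := fun k hk W W2 kW gW e => by
    have e1 : g * k * g⁻¹ * k = 1 := by
      have : g * (g * ψ o * g⁻¹) * g⁻¹ = ψ o := by rw [cj_cj, g2, mul_inv_cancel_right]
      rw [e, cj_mul, cj_mul, e, gW.eq, mul_inv_cancel_right, mul_assoc, ← mul_assoc W, ← mul_assoc W, ← kW.eq, mul_assoc k, W2, mul_one, ← mul_assoc] at this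
      exact mul_eq_right.1 this
    rcases s.k_odd l w hk with o | o
    · rw [mem_Co.1 hc k hk o, mul_inv_cancel_right] at e1
      exact odd_two o 1 (by simpa [pow_two] using e1)
    · have tK : t ∈ Kt ψ t := mem_Kt.2 ⟨rfl, fun o ho => (s.tL o ho).symm⟩
      have e2 : g * (k * t) * g⁻¹ = k * t := by rw [mem_Co.1 hc _ (mul_mem hk tK) o, mul_inv_cancel_right]
      rw [cj_mul, w.1, eq_inv_of_mul_eq_one_left e1] at e2
      have : ψ (eich Q x y) = t⁻¹ * (k * (k * t)) := by rw [← e2]; group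
      exact absurd (this ▸ mul_mem (inv_mem tK) (mul_mem hk (mul_mem hk tK))) (s.zK l)
  rcases s.cQ l (mem_Xz.1 hh).1 (fun m hm => ⟨cq _ (eich_mem_Ql l (Submodule.subset_span (by simp)) hm), cq _ (eich_mem_Ql l (Submodule.subset_span (by simp)) hm)⟩) with h | h
  · have := fin _ h 1 (by simp) (by simp) (by simp) (by simp)
    exact Or.inl (mul_inv_eq_one.1 this)
  · have := fin _ h _ Z2 (kz _ h) w.2 (by rw [mul_assoc _ _ (ψ (eich Q x y)), Z2]; simp)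
    refine Or.inr ?_
    rw [← zo.eq, ← inv_eq_of_mul_eq_one_right Z2, ← eq_inv_of_mul_eq_one_left this]; simp

/-- `fix_ind` for `H = {o ∈ C₀ | g ψ o = ψ o g}`: `ql_eq`; `del`, `Z` is central. -/
theorem fix (ho : o ∈ Om Q) (hx : o.1 x = x) (hy : o.1 y = y) : g * ψ o = ψ o * g := by
  let H : Subgroup (O Q) :=
    { carrier := {o | o ∈ Om Q ∧ Commute g (ψ o)}
      one_mem' := ⟨one_mem _, by rw [s.one]; exact Commute.one_right _⟩
      mul_mem' := fun {a b} ha hb => ⟨mul_mem ha.1 hb.1, by rw [s.mul _ ha.1 _ hb.1]; exact ha.2.mul_right hb.2⟩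
      inv_mem' := fun {a} ha => ⟨inv_mem ha.1, by rw [s.inv ha.1]; exact ha.2.inv_right⟩ }
  refine (s.toG2.fix_ind l (H := H) (fun c hc => ⟨(s.toG2.ql_le l hc).1, s.wq_ql l hq hc⟩) (fun u hu v hv _ => ⟨?_, ?_⟩) ho hx hy).2
  · exact mul_mem (mul_mem (mul_mem hu.1 hv.1) (inv_mem hu.1)) (inv_mem hv.1)
  · have zu : Commute (ψ u) (ψ (eich Q x y)) := (mem_Xz.1 (s.x_of hu)).2
    have zv : Commute (ψ v) (ψ (eich Q x y)) := (mem_Xz.1 (s.x_of hv)).2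
    have key : ∀ A B : G, Commute (ψ u) A → Commute (ψ v) A → Commute (ψ u) B → Commute (ψ v) B → Commute A B → ⁅ψ u * A, ψ v * B⁆ = ⁅ψ u, ψ v⁆ := fun A B a1 a2 b1 b2 ab => by
      have c : Commute A (ψ v * B) := a2.symm.mul_right ab
      have c' : Commute B (ψ u)⁻¹ := b1.symm.inv_right
      calc _ = ψ u * (A * (ψ v * B)) * A⁻¹ * (ψ u)⁻¹ * (ψ v * B)⁻¹ := by rw [commutatorElement_def]; group
        _ = ψ u * ψ v * (B * (ψ u)⁻¹) * (ψ v * B)⁻¹ := by rw [c.eq]; group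
        _ = _ := by rw [c'.eq, commutatorElement_def]; group
    refine mul_inv_eq_iff_eq_mul.1 ?_
    rw [s.cm hu.1 hv.1, conjugate_commutatorElement]
    rcases s.del l w hc hq hu with a | a <;> rcases s.del l w hc hq hv with b | b <;> rw [a, b]
    · simpa using key 1 _ (by simp) (by simp) zu zv (by simp)
    · simpa using key _ 1 zu zv (by simp) (by simp) (by simp)
    · exact key _ _ zu zv zu zv rfl

omit hq in
/-- `g² = k Z^a`, `k ∈ K` commutes with `g`, so has odd order `2 n + 1` (`k_odd`; `g t ≠ t g`), and `k = g² Z^a ∈ Co`.  `g₁ = g k^n` has `g₁² = Z^a`; if `a = 1` take `g₁ t`. -/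
theorem inv_of (h : g * g ∈ Kt ψ t ∨ g * g * ψ (eich Q x y) ∈ Kt ψ t) : ∃ k ∈ Kt ψ t, g * k * (g * k) = 1 ∧ g * k ∈ Co ψ t := by
  have tK : t ∈ Kt ψ t := mem_Kt.2 ⟨rfl, fun o ho => (s.tL o ho).symm⟩
  have Z2 := s.sq x y
  have fin : ∀ W, W * W = 1 → Commute g W → W ∈ Co ψ t → g * g * W ∈ Kt ψ t → ∃ k ∈ Kt ψ t, g * k * (g * k) = W ∧ g * k ∈ Co ψ t := fun W W2 gW Wc hk => by
    have gk : Commute g (g * g * W) := ((Commute.refl g).mul_right (Commute.refl g)).mul_right gW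
    rcases s.k_odd l w hk with o | o
    · obtain ⟨n, hn⟩ := o
      refine ⟨(g * g * W) ^ n, pow_mem hk n, ?_, mul_mem hc (pow_mem (mul_mem (mul_mem hc hc) Wc) n)⟩
      have e : (g * g * W) * ((g * g * W) ^ n) ^ 2 = 1 := by rw [← pow_mul, ← pow_succ', mul_comm n, ← hn, pow_orderOf_eq_one]
      have c : Commute W (((g * g * W) ^ n) ^ 2) := (((gW.symm.mul_right gW.symm).mul_right (Commute.refl W)).pow_right n).pow_right 2
      rw [← pow_two, (gk.pow_right n).mul_pow, pow_two g, ← mul_left_inj W, W2, mul_assoc, ← c.eq, ← mul_assoc, e]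
    · have c : Commute g (g * g * W * t) := mem_Co.1 hc _ (mul_mem hk tK) o
      have c' : Commute g t := by have := gk.inv_right.mul_right c; rwa [inv_mul_cancel_left] at this
      have := w.1
      rw [c'.eq, mul_inv_cancel_right] at this
      exact absurd (left_eq_mul.1 this) (s.z1 l)
  rcases h with h | h
  · exact fin 1 (by simp) (by simp) (one_mem _) (by simpa)
  · obtain ⟨k, hk, e, c⟩ := fin _ Z2 w.2 (s.co_of (s.toGq.eich_mem _ _)) h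
    refine ⟨k * t, mul_mem hk tK, ?_, by rw [← mul_assoc]; exact mul_mem c co_t⟩
    have e1 : g * k * t = t * ψ (eich Q x y) * (g * k) := by rw [← w.1, mul_assoc, (mem_Kt.1 hk).1]; group
    calc _ = g * k * t * (g * k) * t := by group
      _ = t * (ψ (eich Q x y) * (g * k * (g * k))) * t := by rw [e1]; group
      _ = 1 := by rw [e, Z2, mul_one, s.t2]

end

/-- `del` for `s₀₁`, `s₁₀ ∈ C₀` (`cz`); `Fr.braid` shows that the two behave alike.  Both commute: `c0_ind`, `fix`.  Else `inv_of` (`sw_sw`, `cQ`) gives `Pw (e 0) (e 1) (g k)`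
(`t1`: `o = s₀₁ (s₀₁ o)`, `fix`), `pw_false`. -/
theorem cen0 (p : Fr Q e f) (w : Swp ψ t (e 0) (e 1) g) (hc : g ∈ Co ψ t) (hq : Wq ψ (e 0) (e 1) g) (ho : o ∈ Om Q ⊓ 𝐂[eich Q (e 0) (e 1)]) : g * ψ o = ψ o * g := by
  have q := s.toG2
  have l := p.line (show (0 : Fin 4) ≠ 1 by decide)
  have em := q.eich_mem
  have a0 : (eich Q (e 0) (f 1)).1 (e 0) = e 0 := by rw [p.s_ap (by decide), if_neg (by decide)]
  have a1 : (eich Q (e 0) (f 1)).1 (e 1) = e 1 + e 0 := by rw [p.s_ap (by decide), if_pos rfl]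
  have b0 : (eich Q (e 1) (f 0)).1 (e 0) = e 0 + e 1 := by rw [p.s_ap (by decide), if_pos rfl]
  have b1 : (eich Q (e 1) (f 0)).1 (e 1) = e 1 := by rw [p.s_ap (by decide), if_neg (by decide)]
  have ca : eich Q (e 0) (f 1) ∈ Om Q ⊓ 𝐂[eich Q (e 0) (e 1)] := ⟨em _ _, mem_centralizer_singleton_iff.2 ((q.cz l).2 (by simp [a0, a1, q.mem_ln, add_comm]))⟩
  have cb : eich Q (e 1) (f 0) ∈ Om Q ⊓ 𝐂[eich Q (e 0) (e 1)] := ⟨em _ _, mem_centralizer_singleton_iff.2 ((q.cz l).2 (by simp [b0, b1, q.mem_ln]))⟩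
  have br : ψ (eich Q (e 0) (f 1)) * ψ (eich Q (e 1) (f 0)) * ψ (eich Q (e 0) (f 1)) = ψ (eich Q (e 1) (f 0)) * ψ (eich Q (e 0) (f 1)) * ψ (eich Q (e 1) (f 0)) := by
    rw [← s.mul _ (em _ _) _ (em _ _), ← s.mul _ (mul_mem (em _ _) (em _ _)) _ (em _ _), p.braid (by decide), s.mul _ (mul_mem (em _ _) (em _ _)) _ (em _ _), s.mul _ (em _ _) _ (em _ _)]
  have za : Commute (ψ (eich Q (e 0) (f 1))) (ψ (eich Q (e 0) (e 1))) := (mem_Xz.1 (s.x_of ca)).2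
  have zb : Commute (ψ (eich Q (e 1) (f 0))) (ψ (eich Q (e 0) (e 1))) := (mem_Xz.1 (s.x_of cb)).2
  have mix : ∀ {A B Z : G}, Z ≠ 1 → Commute A Z → Commute B Z → A * B * A = B * A * B → g * A * g⁻¹ = A → g * B * g⁻¹ = B * Z → False := fun {A B Z} z1 za zb br ha hb => by
    have e := congrArg (fun x => g * x * g⁻¹) br
    simp only [cj_mul, ha, hb] at e
    simp only [mul_assoc, ← zb.left_comm, ← za.eq] at e
    simp only [← mul_assoc, br] at e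
    exact z1 (left_eq_mul.1 e)
  have bad : ∀ {s₀ : O Q} {k : G}, k ∈ Kt ψ t → s₀ ∈ Om Q ⊓ 𝐂[eich Q (e 0) (e 1)] → s₀ * s₀ = 1 → g * ψ s₀ * g⁻¹ = ψ s₀ * ψ (eich Q (e 0) (e 1)) → ∀ o ∈ Om Q, o.1 (e 0) = s₀.1 (e 0) →
      o.1 (e 1) = s₀.1 (e 1) → ψ o * (g * k) * (ψ o)⁻¹ = g * k * ψ (eich Q (e 0) (e 1)) := fun {s₀ k} hk h0 s2 e₀ o ho h1 h2 => by
    have ss : ∀ v, s₀.1 (s₀.1 v) = v := fun v => by rw [← O.mul_apply, s2]; rfl
    have c := s.fix l w hc hq (mul_mem h0.1 ho) (by rw [O.mul_apply, h1, ss]) (by rw [O.mul_apply, h2, ss])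
    rw [s.mul _ h0.1 _ ho, ← mul_assoc, mul_inv_eq_iff_eq_mul.1 e₀, mul_assoc, mul_assoc, mul_assoc, mul_right_inj] at c
    rw [← mul_assoc, ← c, ← mul_assoc, ← w.2, mul_assoc _ (ψ o), ← (mem_Kt.1 hk).2 o ho, mul_assoc g k, (mem_Kt.1 hk).2 _ (em (e 0) (e 1))]; group
  rcases s.del l w hc hq ca with a | a <;> rcases s.del l w hc hq cb with b | b
  · let H : Subgroup (O Q) :=
      { carrier := {o | o ∈ Om Q ∧ Commute g (ψ o)}
        one_mem' := ⟨one_mem _, by rw [s.one]; exact Commute.one_right _⟩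
        mul_mem' := fun {a b} ha hb => ⟨mul_mem ha.1 hb.1, by rw [s.mul _ ha.1 _ hb.1]; exact ha.2.mul_right hb.2⟩
        inv_mem' := fun {a} ha => ⟨inv_mem ha.1, by rw [s.inv ha.1]; exact ha.2.inv_right⟩ }
    exact (q.c0_ind p (H := H) (fun o ho h0 h1 => ⟨ho, s.fix l w hc hq ho h0 h1⟩) ⟨em _ _, mul_inv_eq_iff_eq_mul.1 a⟩ ⟨em _ _, mul_inv_eq_iff_eq_mul.1 b⟩ ho).2
  · exact (mix (s.z1 l) za zb br a b).elim
  · exact (mix (s.z1 l) zb za br.symm b a).elim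
  · obtain ⟨k, hk, k2, kc⟩ := s.inv_of l w hc (s.cQ l (mem_Xz.1 (s.sw_sw w w)).1
      fun m hm => ⟨(Commute.mul_left (hq m hm).1 (hq m hm).1).eq, (Commute.mul_left (hq m hm).2 (hq m hm).2).eq⟩)
    refine (s.pw_false p (g := g * k) ⟨k2, ?_, kc, fun o ho h0 h1 => ?_, fun o ho h0 h1 => bad hk ca (eich_sq _ _) a o ho (h0.trans a0.symm) (h1.trans a1.symm),
      fun o ho h0 h1 => bad hk cb (eich_sq _ _) b o ho (h0.trans b0.symm) (h1.trans b1.symm)⟩).elim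
    · rw [← cj_cj, (mem_Kt.1 hk).1, mul_inv_cancel_right, w.1]
    · rw [← mul_assoc, ← s.fix l w hc hq ho h0 h1, mul_assoc g, ← (mem_Kt.1 hk).2 o ho]; group

end Cx

/-- Over `F₂`. -/
theorem g2_of (q : Gq Q) (hF : Nat.card F = 2) (h10 : 10 ≤ finrank F V) : G2 Q := by
  refine ⟨q, fun c => ?_, h10⟩
  obtain ⟨y, -, hy⟩ := (Nat.card_eq_two_iff' (0 : F)).1 hF
  by_cases h : c = 0
  · exact Or.inl h
  · exact Or.inr ((hy c h).trans (hy 1 one_ne_zero).symm)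

/-- `Sg.cx`, `exists_fr`, `exists_sw`, `exists_w`, `cen0`. -/
theorem Sg.step1_two {L : Subgroup G} (s : Sg L t) (q : Gq Q) (hF : Nat.card F = 2) (h10 : 10 ≤ finrank F V) (j : Om Q ≃* L) {z : Om Q} (hz : Lng (z : O Q))
    (h : g * t * g⁻¹ = t * j z) : ∃ y : G, y * t * y⁻¹ = t * j z ∧ ∀ o : Om Q, o * z = z * o → y * j o = j o * y := by
  obtain ⟨ψ, c, hψ⟩ := s.cx (g2_of q hF h10) j
  obtain ⟨x, y, l, e⟩ := hz
  obtain ⟨e', f, p, rfl, rfl⟩ := c.toG2.exists_fr l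
  rw [← hψ, e] at h ⊢
  obtain ⟨g, w⟩ := c.exists_sw l h
  obtain ⟨g, w, hc, hq⟩ := c.exists_w p w
  refine ⟨g, w.1, fun o ho => ?_⟩
  rw [← hψ]
  exact c.cen0 p w hc hq ⟨o.2, mem_centralizer_singleton_iff.2 (e ▸ congrArg Subtype.val ho)⟩

end Cfsg.Lib.OD
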